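import Cfsg.Agent.Lib.Perm.SharplyFour
import Cfsg.Agent.Lib.GolayUnique.Transport

/-!
# The Steiner system of a sharply 4-transitive group of degree 11

The three fixed-point-free involutions of a set of four points have exactly one common fixed point;
adding it gives the blocks of a Steiner system S(4,5,11) invariant under the group.
-/

namespace Cfsg.Agent.Order7920

open Subgroup MulAction Cfsg.Agent.Perm

set_option linter.style.haveILetI false

variable {G : Type*} [Group G] {α : Type*} [MulAction G α]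

/-- `g` moves every point of `s` inside `s`, in 2-cycles. -/
def Swaps (g : G) (s : Finset α) : Prop :=
  ∀ x ∈ s, g • x ∈ s ∧ g • x ≠ x ∧ g • g • x = x

/-- `e` is fixed by all fixed-point-free involutions of `s`. -/
def IsCentre (G : Type*) [Group G] {α : Type*} [MulAction G α] (s : Finset α) (e : α) : Prop :=
  e ∉ s ∧ ∀ g : G, Swaps g s → g • e = e

/-- The blocks. -/
def blocks (G : Type*) [Group G] (α : Type*) [MulAction G α] [DecidableEq α] : Set (Finset α) :=
  {b | ∃ s e, s.card = 4 ∧ IsCentre G s e ∧ b = insert e s}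

theorem Swaps.conj [DecidableEq α] {g : G} {s : Finset α} (h : Swaps g s) (k : G) :
    Swaps (k * g * k⁻¹) (s.image (k • ·)) := by
  intro x hx
  obtain ⟨y, hy, rfl⟩ := Finset.mem_image.1 hx
  obtain ⟨h1, h2, h3⟩ := h y hy
  simp only [mul_smul, inv_smul_smul]
  exact ⟨Finset.mem_image_of_mem _ h1, fun e => h2 (smul_left_cancel k e), by rw [h3]⟩

theorem IsCentre.smul [DecidableEq α] {s : Finset α} {e : α} (h : IsCentre G s e) (k : G) :
    IsCentre G (s.image (k • ·)) (k • e) := by
  refine ⟨fun he => ?_, fun g hg => ?_⟩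
  · obtain ⟨y, hy, e'⟩ := Finset.mem_image.1 he
    exact h.1 (smul_left_cancel k e' ▸ hy)
  · have h' := hg.conj k⁻¹
    rw [Finset.image_image] at h'
    rw [show s.image (((k⁻¹ • ·) : α → α) ∘ (k • ·)) = s by
      ext; simp] at h'
    have := h.2 _ h'
    rw [inv_inv, mul_smul, mul_smul, inv_smul_eq_iff] at this
    exact this

theorem blocks_smul [DecidableEq α] {b : Finset α} (hb : b ∈ blocks G α) (k : G) :
    b.image (k • ·) ∈ blocks G α := by
  obtain ⟨s, e, hs, he, rfl⟩ := hb
  exact ⟨s.image (k • ·), k • e, by rw [Finset.card_image_of_injective _ (MulAction.injective k), hs],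
    he.smul k, Finset.image_insert ..⟩

variable [Finite α] (hα : Nat.card α = 11) (h4 : IsMultiplyPretransitive G α 4)
  (hsharp : ∀ x : Fin 4 ↪ α, stabilizer G x = ⊥)
  (hC : ∀ t : G, orderOf t = 2 → Nat.card (Subgroup.centralizer ({t} : Set G)) = 48)

include hsharp in
theorem ext_four {g g' : G} {a b c d : α} (hab : a ≠ b) (hac : a ≠ c) (had : a ≠ d) (hbc : b ≠ c)
    (hbd : b ≠ d) (hcd : c ≠ d) (ha : g • a = g' • a) (hb : g • b = g' • b)
    (hc : g • c = g' • c) (hd : g • d = g' • d) : g = g' := by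
  refine (inv_mul_eq_one.1 (eq_one_of_fixes_four hsharp (g := g'⁻¹ * g) hab hac had hbc hbd hcd
    ?_ ?_ ?_ ?_)).symm <;> rw [mul_smul, inv_smul_eq_iff] <;> assumption

include hsharp in
theorem card_fix_le [Fintype α] [DecidableEq α] {g : G} (hg : g ≠ 1) :
    (Finset.univ.filter fun x : α => g • x = x).card ≤ 3 := by
  by_contra h
  obtain ⟨S, hS, hSc⟩ := Finset.exists_subset_card_eq (n := 4)
    (s := Finset.univ.filter fun x : α => g • x = x) (by omega)
  obtain ⟨a, b, c, d, hab, hac, had, hbc, hbd, hcd, rfl⟩ := Finset.card_eq_four.1 hSc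
  have hf : ∀ x ∈ ({a, b, c, d} : Finset α), g • x = x := fun x hx =>
    (Finset.mem_filter.1 (hS hx)).2
  exact hg (eq_one_of_fixes_four hsharp hab hac had hbc hbd hcd (hf a (by simp)) (hf b (by simp))
    (hf c (by simp)) (hf d (by simp)))

include hα h4 hsharp hC in
/-- An involution fixes three points. -/
theorem card_fix_involution [Fintype α] [DecidableEq α] {t : G} (ht : orderOf t = 2) :
    (Finset.univ.filter fun x : α => t • x = x).card = 3 := by
  have htt : ∀ u : α, t • t • u = u := fun u => by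
    rw [smul_smul, ← pow_two, ← ht, pow_orderOf_eq_one, one_smul]
  have hle := card_fix_le hsharp (g := t) (fun e => by rw [e, orderOf_one] at ht; omega)
  have hsplit := Finset.card_filter_add_card_filter_not
    (s := (Finset.univ : Finset α)) (fun x : α => t • x = x)
  rw [Finset.card_univ, ← Nat.card_eq_fintype_card, hα] at hsplit
  set f := (Finset.univ.filter fun x : α => t • x = x).card
  set m := (Finset.univ.filter fun x : α => ¬ t • x = x).card
  have hm : Nat.card {u : α // t • u ≠ u} = m := by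
    rw [Nat.card_eq_fintype_card, Fintype.card_subtype]
  have h := card_centralizer_involution h4 hsharp htt (by rw [hm]; omega)
  rw [hm, hC t ht] at h
  have key : ∀ m < 12, 4 ≤ m → 48 = m * (m - 2) → m = 8 := by decide
  have := key m (by omega) (by omega) h
  omega

include hα hsharp in
/-- An element of order three fixes two points. -/
theorem card_fix_three [Fintype α] [DecidableEq α] {w : G} (h3 : w ^ 3 = 1) (h1 : w ≠ 1) :
    (Finset.univ.filter fun x : α => w • x = x).card = 2 := by
  have hle := card_fix_le hsharp h1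
  have hp : (toPermHom G α w) ^ 3 ^ 1 = 1 := by rw [← map_pow, pow_one, h3, map_one]
  haveI : Fact (Nat.Prime 3) := ⟨Nat.prime_three⟩
  have h := Equiv.Perm.card_compl_support_modEq (p := 3) (n := 1) hp
  rw [← Nat.card_eq_fintype_card, hα] at h
  have he : (toPermHom G α w).supportᶜ = Finset.univ.filter fun x : α => w • x = x := by
    ext x; simp
  rw [he, Nat.ModEq] at h
  omega

omit [Finite α] in
/-- An involution of three points fixes one. -/
theorem exists_fix_of_card_three [DecidableEq α] {g : G} {F : Finset α} (hF : F.card = 3)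
    (hgF : ∀ x ∈ F, g • x ∈ F) (hgg : ∀ x ∈ F, g • g • x = x) : ∃ x ∈ F, g • x = x := by
  by_contra h
  push_neg at h
  obtain ⟨x, y, z, hxy, hxz, hyz, rfl⟩ := Finset.card_eq_three.1 hF
  simp only [Finset.mem_insert, Finset.mem_singleton, forall_eq_or_imp, forall_eq] at hgF hgg h
  obtain ⟨f1, f2, f3⟩ := hgF
  obtain ⟨n1, n2, n3⟩ := h
  obtain ⟨q1, q2, q3⟩ := hgg
  rcases f1 with e1 | e1 | e1 <;> rcases f2 with e2 | e2 | e2 <;> rcases f3 with e3 | e3 | e3 <;>
    rw [e1] at q1 <;> rw [e2] at q2 <;> rw [e3] at q3 <;> simp_all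

include hα h4 hsharp hC in
/-- Four points have exactly one centre. -/
theorem existsUnique_centre [DecidableEq α] {s : Finset α} (hs : s.card = 4) :
    ∃! e, IsCentre G s e := by
  haveI := Fintype.ofFinite α
  obtain ⟨a, b, c, d, hab, hac, had, hbc, hbd, hcd, rfl⟩ := Finset.card_eq_four.1 hs
  have E : ∀ {g g' : G}, g • a = g' • a → g • b = g' • b → g • c = g' • c → g • d = g' • d →
      g = g' := fun {g g'} => ext_four hsharp hab hac had hbc hbd hcd
  obtain ⟨u1, u1a, u1b, u1c, u1d⟩ := exists_smul_eq_four h4 hab hac had hbc hbd hcd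
    hab.symm hbd hbc had hac hcd.symm
  obtain ⟨u2, u2a, u2b, u2c, u2d⟩ := exists_smul_eq_four h4 hab hac had hbc hbd hcd
    hcd hac.symm hbc.symm had.symm hbd.symm hab
  set u3 := u1 * u2 with hu3
  have u3a : u3 • a = d := by rw [mul_smul, u2a, u1c]
  have u3b : u3 • b = c := by rw [mul_smul, u2b, u1d]
  have u3c : u3 • c = b := by rw [mul_smul, u2c, u1a]
  have u3d : u3 • d = a := by rw [mul_smul, u2d, u1b]
  have hcomm : u1 * u2 = u2 * u1 := E (by simp only [mul_smul, u1a, u1b, u1c, u1d, u2a, u2b, u2c, u2d])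
    (by simp only [mul_smul, u1a, u1b, u1c, u1d, u2a, u2b, u2c, u2d])
    (by simp only [mul_smul, u1a, u1b, u1c, u1d, u2a, u2b, u2c, u2d])
    (by simp only [mul_smul, u1a, u1b, u1c, u1d, u2a, u2b, u2c, u2d])
  have hu1 : u1 * u1 = 1 := E (by simp only [mul_smul, one_smul, u1a, u1b])
    (by simp only [mul_smul, one_smul, u1a, u1b]) (by simp only [mul_smul, one_smul, u1c, u1d])
    (by simp only [mul_smul, one_smul, u1c, u1d])
  have hu2 : u2 * u2 = 1 := E (by simp only [mul_smul, one_smul, u2a, u2c])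
    (by simp only [mul_smul, one_smul, u2b, u2d]) (by simp only [mul_smul, one_smul, u2a, u2c])
    (by simp only [mul_smul, one_smul, u2b, u2d])
  have hu3' : u3 * u3 = 1 := by
    rw [hu3, mul_assoc, ← mul_assoc u2, ← hcomm, mul_assoc, hu2, mul_one, hu1]
  have hord : ∀ {u : G} {x y : α}, u * u = 1 → u • x = y → x ≠ y → orderOf u = 2 := by
    intro u x y h hxy hne
    haveI : Fact (Nat.Prime 2) := ⟨Nat.prime_two⟩
    exact orderOf_eq_prime (by rw [pow_two, h]) fun e => hne (by rw [← hxy, e, one_smul])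
  set F : G → Finset α := fun g => Finset.univ.filter fun x => g • x = x with hF
  have memF : ∀ {g : G} {x : α}, x ∈ F g ↔ g • x = x := fun {g x} => by simp [hF]
  have hF1 : (F u1).card = 3 := card_fix_involution hα h4 hsharp hC (hord hu1 u1a hab)
  have hF2 : (F u2).card = 3 := card_fix_involution hα h4 hsharp hC (hord hu2 u2a hac)
  have hF3 : (F u3).card = 3 := card_fix_involution hα h4 hsharp hC (hord hu3' u3a had)
  have hswap : ∀ g : G, Swaps g ({a, b, c, d} : Finset α) → g = u1 ∨ g = u2 ∨ g = u3 := by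
    intro g hg
    obtain ⟨ma, na, qa⟩ := hg a (by simp)
    obtain ⟨mb, nb, qb⟩ := hg b (by simp)
    obtain ⟨mc, nc, qc⟩ := hg c (by simp)
    obtain ⟨md, nd, qd⟩ := hg d (by simp)
    simp only [Finset.mem_insert, Finset.mem_singleton] at ma mb mc md
    rcases ma with e | e | e | e
    · exact absurd e na
    · rw [e] at qa
      rcases mc with e' | e' | e' | e'
      · exact absurd (smul_left_cancel g (e'.trans qa.symm)) hbc.symm
      · exact absurd (smul_left_cancel g (e'.trans e.symm)) hac.symm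
      · exact absurd e' nc
      · rw [e'] at qc
        exact Or.inl (E (e.trans u1a.symm) (qa.trans u1b.symm) (e'.trans u1c.symm)
          (qc.trans u1d.symm))
    · rw [e] at qa
      rcases mb with e' | e' | e' | e'
      · exact absurd (smul_left_cancel g (e'.trans qa.symm)) hbc
      · exact absurd e' nb
      · exact absurd (smul_left_cancel g (e'.trans e.symm)) hab.symm
      · rw [e'] at qb
        exact Or.inr (Or.inl (E (e.trans u2a.symm) (e'.trans u2b.symm) (qa.trans u2c.symm)
          (qb.trans u2d.symm)))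
    · rw [e] at qa
      rcases mb with e' | e' | e' | e'
      · exact absurd (smul_left_cancel g (e'.trans qa.symm)) hbd
      · exact absurd e' nb
      · rw [e'] at qb
        exact Or.inr (Or.inr (E (e.trans u3a.symm) (e'.trans u3b.symm) (qb.trans u3c.symm)
          (qa.trans u3d.symm)))
      · exact absurd (smul_left_cancel g (e'.trans e.symm)) hab.symm
  have hsw1 : Swaps u1 ({a, b, c, d} : Finset α) := by
    intro x hx
    simp only [Finset.mem_insert, Finset.mem_singleton] at hx ⊢
    rcases hx with rfl | rfl | rfl | rfl <;> simp [u1a, u1b, u1c, u1d, hab, hab.symm, hcd, hcd.symm]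
  have hsw2 : Swaps u2 ({a, b, c, d} : Finset α) := by
    intro x hx
    simp only [Finset.mem_insert, Finset.mem_singleton] at hx ⊢
    rcases hx with rfl | rfl | rfl | rfl <;> simp [u2a, u2b, u2c, u2d, hac, hac.symm, hbd, hbd.symm]
  have hmem : ∀ x, x ∈ F u1 → x ∉ ({a, b, c, d} : Finset α) := fun x hx hxs =>
    (hsw1 x hxs).2.1 (memF.1 hx)
  have h21 : ∀ x ∈ F u1, u2 • x ∈ F u1 := fun x hx => memF.2 (by
    rw [← mul_smul, hcomm, mul_smul, memF.1 hx])
  have hcentre : ∀ e, IsCentre G ({a, b, c, d} : Finset α) e ↔ e ∈ F u1 ∧ e ∈ F u2 := by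
    refine fun e => ⟨fun h => ⟨memF.2 (h.2 _ hsw1), memF.2 (h.2 _ hsw2)⟩, fun h => ?_⟩
    refine ⟨hmem e h.1, fun g hg => ?_⟩
    rcases hswap g hg with rfl | rfl | rfl
    · exact memF.1 h.1
    · exact memF.1 h.2
    · rw [mul_smul, memF.1 h.2, memF.1 h.1]
  obtain ⟨e, he, hfe⟩ := exists_fix_of_card_three hF1 h21 fun x _ => by
    rw [smul_smul, hu2, one_smul]
  refine ⟨e, (hcentre e).2 ⟨he, memF.2 hfe⟩, fun e' he' => ?_⟩
  by_contra hne
  obtain ⟨he'1, he'2⟩ := (hcentre e').1 he'
  -- then the three involutions have the same fixed points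
  have h12 : ∀ x ∈ F u1, u2 • x = x := by
    intro x hx
    by_contra hx2
    have hsub : ({e, e', x, u2 • x} : Finset α) ⊆ F u1 := by
      intro y hy
      simp only [Finset.mem_insert, Finset.mem_singleton] at hy
      rcases hy with rfl | rfl | rfl | rfl
      exacts [he, he'1, hx, h21 x hx]
    have hxe : ∀ z, u2 • z = z → z ≠ x ∧ z ≠ u2 • x := fun z hz =>
      ⟨fun e => hx2 (e ▸ hz), fun e => hx2 (by rw [e] at hz; exact smul_left_cancel u2 hz)⟩
    obtain ⟨p1, p2⟩ := hxe e hfe
    obtain ⟨p3, p4⟩ := hxe e' (memF.1 he'2)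
    have := Finset.card_le_card hsub
    rw [Finset.card_insert_of_notMem (by simp [Ne.symm hne, p1, p2]),
      Finset.card_insert_of_notMem (by simp [p3, p4]),
      Finset.card_pair (fun q => hx2 q.symm), hF1] at this
    omega
  have e12 : F u1 = F u2 := Finset.eq_of_subset_of_card_le
    (fun x hx => memF.2 (h12 x hx)) (by rw [hF1, hF2])
  have e13 : F u1 = F u3 := Finset.eq_of_subset_of_card_le
    (fun x hx => memF.2 (by rw [mul_smul, h12 x hx, memF.1 hx])) (by rw [hF1, hF3])
  obtain ⟨τ, τa, τb, τc, τd⟩ := exists_smul_eq_four h4 hab hac had hbc hbd hcd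
    hab.symm hbc hbd hac had hcd
  have hττ : τ * τ = 1 := E (by simp only [mul_smul, one_smul, τa, τb])
    (by simp only [mul_smul, one_smul, τa, τb]) (by simp only [mul_smul, one_smul, τc])
    (by simp only [mul_smul, one_smul, τd])
  have hτ1 : τ * u1 = u1 * τ := E (by simp only [mul_smul, τa, τb, τc, τd, u1a, u1b, u1c, u1d])
    (by simp only [mul_smul, τa, τb, τc, τd, u1a, u1b, u1c, u1d])
    (by simp only [mul_smul, τa, τb, τc, τd, u1a, u1b, u1c, u1d])
    (by simp only [mul_smul, τa, τb, τc, τd, u1a, u1b, u1c, u1d])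
  have hτ2 : τ * u2 = u3 * τ := E (by simp only [mul_smul, τa, τb, τc, τd, u2a, u2b, u2c, u2d, u3a, u3b, u3c, u3d])
    (by simp only [mul_smul, τa, τb, τc, τd, u2a, u2b, u2c, u2d, u3a, u3b, u3c, u3d])
    (by simp only [mul_smul, τa, τb, τc, τd, u2a, u2b, u2c, u2d, u3a, u3b, u3c, u3d])
    (by simp only [mul_smul, τa, τb, τc, τd, u2a, u2b, u2c, u2d, u3a, u3b, u3c, u3d])
  have hττ' : ∀ x : α, τ • τ • x = x := fun x => by rw [smul_smul, hττ, one_smul]
  have hτF : ∀ x ∈ F u1, τ • x ∈ F u1 := fun x hx => memF.2 (by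
    rw [← mul_smul, ← hτ1, mul_smul, memF.1 hx])
  obtain ⟨x, hx, hτx⟩ := exists_fix_of_card_three hF1 hτF fun x _ => hττ' x
  set R := Finset.univ \ ({a, b, c, d} ∪ F u1) with hR
  have hRc : R.card = 4 := by
    rw [hR, Finset.card_sdiff_of_subset (Finset.subset_univ _), Finset.card_univ,
      ← Nat.card_eq_fintype_card, hα, Finset.card_union_of_disjoint
        (Finset.disjoint_left.2 fun y hy hy' => hmem y hy' hy), hs, hF1]
  have memR : ∀ {y}, y ∈ R ↔ y ∉ ({a, b, c, d} : Finset α) ∧ u1 • y ≠ y := fun {y} => by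
    simp [hR, hF, and_assoc]
  have hRinv : ∀ g : G, g * g = 1 → (∀ y ∈ ({a, b, c, d} : Finset α), g • y ∈ ({a, b, c, d} : Finset α)) →
      (∀ y ∈ F u1, g • y ∈ F u1) → ∀ y ∈ R, g • y ∈ R := by
    intro g hgg hgs hgF y hy
    obtain ⟨hy1, hy2⟩ := memR.1 hy
    have hgy : g • g • y = y := by rw [smul_smul, hgg, one_smul]
    refine memR.2 ⟨fun h => hy1 (hgy ▸ hgs _ h), fun h => hy2 ?_⟩
    exact memF.1 (hgy ▸ hgF _ (memF.2 h))
  obtain ⟨r, hr⟩ : R.Nonempty := Finset.card_pos.1 (by rw [hRc]; norm_num)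
  have r1 := hRinv u1 hu1 (fun y hy => (hsw1 y hy).1) (fun y hy => by rw [memF.1 hy]; exact hy) r hr
  have r2 := hRinv u2 hu2 (fun y hy => (hsw2 y hy).1) (fun y hy => by rw [h12 y hy]; exact hy) r hr
  have r3 : u3 • r ∈ R := hRinv u3 hu3' (fun y hy => by
      rw [mul_smul]; exact (hsw1 _ (hsw2 y hy).1).1)
    (fun y hy => by rw [mul_smul, h12 y hy, memF.1 hy]; exact hy) r hr
  obtain ⟨hr1, hr2⟩ := memR.1 hr
  have m1 : u1 • r ≠ r := hr2
  have m2 : u2 • r ≠ r := fun q => hr2 (memF.1 (e12 ▸ memF.2 q))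
  have m3 : u3 • r ≠ r := fun q => hr2 (memF.1 (e13 ▸ memF.2 q))
  have m12 : u1 • r ≠ u2 • r := fun q => m3 (by
    rw [mul_smul, ← q, smul_smul, hu1, one_smul])
  have m13 : u1 • r ≠ u3 • r := fun q => m2 (by
    rw [mul_smul] at q; exact (smul_left_cancel u1 q).symm)
  have m23 : u2 • r ≠ u3 • r := fun q => m1 (by
    rw [hu3, hcomm, mul_smul] at q; exact (smul_left_cancel u2 q).symm)
  have hRe : R = {r, u1 • r, u2 • r, u3 • r} := by
    symm
    refine Finset.eq_of_subset_of_card_le ?_ ?_
    · intro y hy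
      simp only [Finset.mem_insert, Finset.mem_singleton] at hy
      rcases hy with rfl | rfl | rfl | rfl <;> assumption
    · rw [hRc, Finset.card_insert_of_notMem (by simp [m1.symm, m2.symm, m3.symm]),
        Finset.card_insert_of_notMem (by simp [m12, m13]), Finset.card_pair m23]
  have hτs : ∀ y ∈ ({a, b, c, d} : Finset α), τ • y ∈ ({a, b, c, d} : Finset α) := by
    intro y hy
    simp only [Finset.mem_insert, Finset.mem_singleton] at hy ⊢
    rcases hy with rfl | rfl | rfl | rfl <;> simp [τa, τb, τc, τd]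
  have hτr := hRinv τ hττ hτs hτF r hr
  rw [hRe] at hτr
  simp only [Finset.mem_insert, Finset.mem_singleton] at hτr
  obtain ⟨y, hy, hτy⟩ : ∃ y ∈ R, τ • y = y := by
    rcases hτr with q | q | q | q
    · exact ⟨r, hr, q⟩
    · refine ⟨u2 • r, r2, ?_⟩
      rw [← mul_smul, hτ2, mul_smul, q, ← mul_smul, hu3, mul_assoc, ← hcomm, ← mul_assoc, hu1, one_mul]
    · exfalso
      refine m1 ?_
      calc u1 • r = u3 • u2 • r := by rw [← mul_smul, hu3, mul_assoc, hu2, mul_one]
        _ = τ • u2 • r := by rw [← mul_smul τ u2, hτ2, mul_smul u3 τ, q]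
        _ = r := by rw [← q, hττ']
    · exfalso
      have hτ3 : τ * u3 = u2 * τ := by
        calc τ * u3 = τ * u3 * (τ * τ) := by rw [hττ, mul_one]
          _ = τ * (u3 * τ) * τ := by simp only [mul_assoc]
          _ = u2 * τ := by rw [← hτ2, ← mul_assoc, hττ, one_mul]
      refine m1 ?_
      calc u1 • r = u2 • u3 • r := by
            rw [← mul_smul, hu3, ← mul_assoc, ← hcomm, mul_assoc, hu2, mul_one]
        _ = u2 • τ • r := by rw [q]
        _ = τ • u3 • r := by rw [← mul_smul, ← hτ3, mul_smul]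
        _ = r := by rw [← q, hττ']
  obtain ⟨hy1, hy2⟩ := memR.1 hy
  simp only [Finset.mem_insert, Finset.mem_singleton, not_or] at hy1
  have hxs := hmem x hx
  simp only [Finset.mem_insert, Finset.mem_singleton, not_or] at hxs
  have := eq_one_of_fixes_four hsharp hcd (Ne.symm hxs.2.2.1) (Ne.symm hy1.2.2.1)
    (Ne.symm hxs.2.2.2) (Ne.symm hy1.2.2.2) (fun q : x = y => hy2 (q ▸ memF.1 hx)) τc τd hτx hτy
  exact hab (by rw [← τa, this, one_smul])

include hα h4 hsharp hC in
/-- Every four points of a block determine it. -/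
theorem centre_exchange [DecidableEq α] {s : Finset α} {e a : α} (hs : s.card = 4)
    (he : IsCentre G s e) (ha : a ∈ s) : IsCentre G (insert e (s.erase a)) a := by
  haveI := Fintype.ofFinite α
  obtain ⟨b, c, d, hbc, hbd, hcd, hE⟩ := Finset.card_eq_three.1
    (show (s.erase a).card = 3 by rw [Finset.card_erase_of_mem ha, hs])
  have hmem : ∀ x, x = b ∨ x = c ∨ x = d → x ≠ a ∧ x ∈ s := fun x hx =>
    Finset.mem_erase.1 (by rw [hE]; simpa using hx)
  obtain ⟨hba, -⟩ := hmem b (Or.inl rfl)
  obtain ⟨hca, -⟩ := hmem c (Or.inr (Or.inl rfl))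
  obtain ⟨hda, -⟩ := hmem d (Or.inr (Or.inr rfl))
  have hse : s = {a, b, c, d} := by rw [← Finset.insert_erase ha, hE]
  obtain ⟨w, wa, wb, wc, wd⟩ := exists_smul_eq_four h4 hba.symm hca.symm hda.symm hbc hbd hcd
    hca.symm hda.symm hba.symm hcd hbc.symm hbd.symm
  have hw3 : w ^ 3 = 1 := ext_four hsharp hba.symm hca.symm hda.symm hbc hbd hcd
    (by simp only [pow_succ, pow_zero, one_mul, mul_smul, one_smul, wa])
    (by simp only [pow_succ, pow_zero, one_mul, mul_smul, one_smul, wb, wc, wd])
    (by simp only [pow_succ, pow_zero, one_mul, mul_smul, one_smul, wb, wc, wd])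
    (by simp only [pow_succ, pow_zero, one_mul, mul_smul, one_smul, wb, wc, wd])
  have hw1 : w ≠ 1 := fun q => hbc (by rw [← wb, q, one_smul])
  have himg : s.image (w • ·) = s := by
    rw [hse]; ext y; simp [wa, wb, wc, wd]; tauto
  have hwe : w • e = e := by
    have h := he.smul w
    rw [himg] at h
    exact (existsUnique_centre hα h4 hsharp hC hs).unique h he
  set s' := insert e (s.erase a) with hs'
  have hs'c : s'.card = 4 := by
    rw [hs', Finset.card_insert_of_notMem fun h => he.1 (Finset.mem_of_mem_erase h),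
      Finset.card_erase_of_mem ha, hs]
  have himg' : s'.image (w • ·) = s' := by
    rw [hs', hE]; ext y; simp [hwe, wb, wc, wd]; tauto
  obtain ⟨e', he', -⟩ := existsUnique_centre hα h4 hsharp hC hs'c
  have hwe' : w • e' = e' := by
    have h := he'.smul w
    rw [himg'] at h
    exact (existsUnique_centre hα h4 hsharp hC hs'c).unique h he'
  have hae : a ≠ e := fun q => he.1 (q ▸ ha)
  have hfix : ({a, e} : Finset α) = Finset.univ.filter fun x => w • x = x := by
    refine Finset.eq_of_subset_of_card_le ?_ ?_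
    · intro y hy
      simp only [Finset.mem_insert, Finset.mem_singleton] at hy
      rcases hy with rfl | rfl <;> simp [wa, hwe]
    · rw [Finset.card_pair hae, card_fix_three hα hsharp hw3 hw1]
  have hm : e' ∈ ({a, e} : Finset α) := by rw [hfix]; simp [hwe']
  simp only [Finset.mem_insert, Finset.mem_singleton] at hm
  rcases hm with q | q
  · exact q ▸ he'
  · exact absurd (q ▸ he'.1) (fun h => h (Finset.mem_insert_self _ _))

include hα h4 hsharp hC in
theorem blocks_steiner [DecidableEq α] : Cfsg.IsSteinerSystem 4 5 (blocks G α) := by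
  refine ⟨?_, fun s hs => ?_⟩
  · rintro b ⟨s, e, hs, he, rfl⟩
    rw [Finset.card_insert_of_notMem he.1, hs]
  obtain ⟨e, he, huniq⟩ := existsUnique_centre hα h4 hsharp hC hs
  refine ⟨insert e s, ⟨⟨s, e, hs, he, rfl⟩, Finset.subset_insert _ _⟩, ?_⟩
  rintro _ ⟨⟨t, f, ht, hf, rfl⟩, hsub⟩
  by_cases hfs : f ∈ s
  · obtain ⟨x, hx, hxs⟩ : ∃ x ∈ t, x ∉ s := by
      by_contra h
      push_neg at h
      have := Finset.card_le_card (Finset.insert_subset hfs h)
      rw [Finset.card_insert_of_notMem hf.1, ht, hs] at this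
      omega
    have hse : s = insert f (t.erase x) := by
      refine Finset.eq_of_subset_of_card_le (fun y hy => ?_) ?_
      · rcases Finset.mem_insert.1 (hsub hy) with rfl | h
        · exact Finset.mem_insert_self _ _
        · exact Finset.mem_insert_of_mem (Finset.mem_erase.2 ⟨fun q => hxs (q ▸ hy), h⟩)
      · rw [Finset.card_insert_of_notMem fun h => hf.1 (Finset.mem_of_mem_erase h),
          Finset.card_erase_of_mem hx, ht, hs]
    have hxc := centre_exchange hα h4 hsharp hC ht hf hx
    rw [← hse] at hxc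
    rw [← huniq x hxc, hse, Finset.insert_comm, Finset.insert_erase hx]
  · have hst : s = t := by
      refine Finset.eq_of_subset_of_card_le (fun y hy => ?_) (by rw [hs, ht])
      exact (Finset.mem_insert.1 (hsub hy)).resolve_left fun q => hfs (q ▸ hy)
    subst hst
    rw [huniq f hf]

omit [Finite α] in
theorem perm_mem_setSystemAut [DecidableEq α] (g : G) :
    MulAction.toPermHom G α g ∈ Cfsg.setSystemAut (blocks G α) := by
  rw [GolayUnique.mem_setSystemAut_iff]
  intro b
  refine ⟨fun h => ?_, fun h => blocks_smul h g⟩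
  have := blocks_smul h g⁻¹
  rw [Finset.image_image] at this
  rwa [show b.image (((g⁻¹ • ·) : α → α) ∘ ⇑(MulAction.toPermHom G α g)) = b by
    ext; simp] at this

end Cfsg.Agent.Order7920
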