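import Cfsg.Agent.Lib.Order7920.Points
import Cfsg.Agent.Lib.Order7920.Blocks
import Cfsg.Agent.Lib.Hexad12.Aut
import Cfsg.Agent.S0426

/-!
# Uniqueness of the simple group of order 7920
-/

namespace Cfsg.Agent.Order7920

open Subgroup MulAction

set_option linter.style.haveILetI false

universe u v

/-- A simple group of order 7920 is the automorphism group of a Steiner system S(4,5,11). -/
theorem exists_steiner {G : Type u} [Group G] [Finite G] [IsSimpleGroup G]
    (hG : Nat.card G = 7920) :
    ∃ B : Set (Finset (Fin 11)), Cfsg.IsSteinerSystem 4 5 B ∧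
      Nonempty (G ≃* Cfsg.setSystemAut B) := by
  classical
  haveI := Fintype.ofFinite G
  haveI : Fact (Nat.Prime 3) := ⟨Nat.prime_three⟩
  set hB := blocks_steiner (G := G) (α := Pt G) (card_pts hG) (pt_four_pretransitive hG)
    (pt_sharp hG) (fun t ht => card_C_involution hG ht)
  haveI := Fintype.ofFinite (Pt G)
  have hα : Fintype.card (Pt G) = 11 := by rw [← Nat.card_eq_fintype_card]; exact card_pts hG
  let φ : G →* Cfsg.setSystemAut (blocks G (Pt G)) :=
    (MulAction.toPermHom G (Pt G)).codRestrict _ perm_mem_setSystemAut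
  have hφ : Function.Injective φ := by
    rw [injective_iff_map_eq_one]
    intro g hg
    have hfix : ∀ x : Pt G, g • x = x := fun x =>
      Equiv.ext_iff.1 (congrArg Subtype.val hg) x
    obtain ⟨x⟩ : Nonempty (Fin 4 ↪ Pt G) :=
      Function.Embedding.nonempty_of_card_le (by rw [Fintype.card_fin, hα]; norm_num)
    have : g ∈ stabilizer G x := Function.Embedding.ext fun i => hfix _
    rwa [pt_sharp hG x, Subgroup.mem_bot] at this
  have hb : Function.Bijective φ :=
    hφ.bijective_of_nat_card_le (by rw [hG, ((Cfsg.Agent.S0426.result hα hB).1).2])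
  let e : Pt G ≃ Fin 11 := Fintype.equivFinOfCardEq hα
  have he : ∀ c, c ∈ blocks G (Pt G) ↔
      c.image e ∈ {b : Finset (Fin 11) | b.image e.symm ∈ blocks G (Pt G)} := fun c => by
    rw [Set.mem_setOf_eq, Finset.image_image, Equiv.symm_comp_self, Finset.image_id]
  refine ⟨_, ⟨?_, ?_⟩, ⟨(MulEquiv.ofBijective φ hb).trans (GolayUnique.autEquiv e he)⟩⟩
  · intro b hb'
    have := hB.1 _ hb'
    rwa [Finset.card_image_of_injective _ e.symm.injective] at this
  · intro s hs
    obtain ⟨c, ⟨hc, hsc⟩, hu⟩ := hB.2 (s.image e.symm)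
      (by rw [Finset.card_image_of_injective _ e.symm.injective, hs])
    refine ⟨c.image e, ⟨(he c).1 hc, ?_⟩, fun b hb' => ?_⟩
    · have := Finset.image_subset_image (f := e) hsc
      rwa [Finset.image_image, Equiv.self_comp_symm, Finset.image_id] at this
    · rw [← hu (b.image e.symm) ⟨hb'.1, Finset.image_subset_image hb'.2⟩, Finset.image_image,
        Equiv.self_comp_symm, Finset.image_id]

/-- Simple groups of order 7920 are isomorphic. -/
theorem nonempty_mulEquiv {G : Type u} {H : Type v} [Group G] [Finite G] [IsSimpleGroup G]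
    [Group H] [Finite H] [IsSimpleGroup H] (hG : Nat.card G = 7920) (hH : Nat.card H = 7920) :
    Nonempty (G ≃* H) := by
  obtain ⟨B, hB, ⟨eG⟩⟩ := exists_steiner hG
  obtain ⟨B', hB', ⟨eH⟩⟩ := exists_steiner hH
  obtain ⟨f, hf⟩ := Hexad12.exists_iso_11 (Fintype.card_fin 11) (Fintype.card_fin 11) hB hB'
  exact ⟨(eG.trans (GolayUnique.autEquiv f hf)).trans eH.symm⟩

/-- A simple group of order 7920 is the Mathieu group of the point stabiliser in a dodecad. -/
theorem nonempty_mulEquiv_M11 {G : Type u} [Group G] [Finite G] [IsSimpleGroup G]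
    (hG : Nat.card G = 7920) : Nonempty (G ≃* Cfsg.Spor.M11) := by
  haveI := Mathieu.isSimple_M11
  haveI : Finite Cfsg.Spor.M11 :=
    Nat.finite_of_card_ne_zero (by rw [Mathieu.card_M11]; norm_num)
  exact nonempty_mulEquiv hG Mathieu.card_M11

end Cfsg.Agent.Order7920
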