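import Cfsg.Agent.Lib.Order7920.Unique
import Cfsg.Agent.Lib.SmallSimple.Order168
import Cfsg.Agent.S2490

/-!
# Numbers of elements of given order in a simple group of order 7920, and recognition by them
-/

namespace Cfsg.Agent.Order7920

open Subgroup MulAction

set_option linter.style.haveILetI false

universe u

/-- If the centralizer orders of all elements of order `n` divide `k`, then `k` times their number
is a multiple of the group order. -/
theorem card_dvd_mul {G : Type u} [Group G] [Fintype G] {n k : ℕ}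
    (h : ∀ g : G, orderOf g = n → Nat.card (C g) ∣ k) :
    Nat.card G ∣ Nat.card {g : G // orderOf g = n} * k := by
  classical
  rw [Nat.card_eq_fintype_card (α := {g : G // orderOf g = n}), Fintype.card_subtype,
    Finset.card_eq_sum_card_image ConjClasses.mk, Finset.sum_mul]
  refine Finset.dvd_sum fun c hc => ?_
  obtain ⟨g, hg, rfl⟩ := Finset.mem_image.1 hc
  have hgn := (Finset.mem_filter.1 hg).2
  have he : ((Finset.univ.filter fun x : G => orderOf x = n).filter
      fun x => ConjClasses.mk x = ConjClasses.mk g).card =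
      Nat.card {x : G // ConjClasses.mk x = ConjClasses.mk g} := by
    rw [Nat.card_eq_fintype_card, Fintype.card_subtype]
    congr 1
    ext x
    simp only [Finset.mem_filter, Finset.mem_univ, true_and, and_iff_right_iff_imp]
    intro hx
    obtain ⟨u, rfl⟩ := isConj_iff.1 (ConjClasses.mk_eq_mk_iff_isConj.1 hx.symm)
    rw [orderOf_conj_elem, hgn]
  rw [he, ← card_class_mul g, mul_comm (Nat.card (C g))]
  exact Nat.mul_dvd_mul_left _ (h g hgn)

/-- The possible numbers of elements of a given order. -/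
theorem nse_cases {M : Type u} [Group M] [Fintype M] [IsSimpleGroup M] (hM : Nat.card M = 7920)
    (n : ℕ) : Nat.card {g : M // orderOf g = n} = 0 ∨ Nat.card {g : M // orderOf g = n} = 1 ∨
      165 ∣ Nat.card {g : M // orderOf g = n} ∨ 440 ∣ Nat.card {g : M // orderOf g = n} ∨
      1584 ∣ Nat.card {g : M // orderOf g = n} ∨ Nat.card {g : M // orderOf g = n} = 1440 := by
  classical
  haveI : Fact (Nat.Prime 2) := ⟨Nat.prime_two⟩
  haveI : Fact (Nat.Prime 3) := ⟨Nat.prime_three⟩
  haveI : Fact (Nat.Prime 5) := ⟨Nat.prime_five⟩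
  haveI : Fact (Nat.Prime 11) := ⟨by norm_num⟩
  by_cases hne : Nonempty {g : M // orderOf g = n}
  swap
  · left
    rw [not_nonempty_iff] at hne
    exact Nat.card_eq_zero.2 (Or.inl hne)
  obtain ⟨g, hg⟩ := hne
  have hn7920 : n ∣ 7920 := hg ▸ hM ▸ orderOf_dvd_natCard g
  by_cases h2 : 2 ∣ n
  · right; right; left
    have := card_dvd_mul (G := M) (n := n) (k := 48) fun x hx => by
      have ht : orderOf (x ^ (orderOf x / 2)) = 2 :=
        orderOf_pow_orderOf_div (orderOf_pos x).ne' (hx ▸ h2)
      rw [← card_C_involution hM ht]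
      refine card_dvd_of_le fun c hc => mem_C.2 ?_
      exact ((show Commute c x from mem_C.1 hc).pow_right _).eq
    rw [hM] at this
    exact (Nat.mul_dvd_mul_iff_right (by norm_num : 0 < 48)).1 this
  have hfive : ∀ y : M, orderOf y = 5 → Nat.card (C y) = 5 := fun y hy => by
    obtain ⟨L⟩ := exists_labels hM
    exact (five hM hy (odd_C_five hM L.t1 L.dt1 hy)).1
  -- an element of order a proper multiple of 5 or 11 would centralise one of order 5 or 11
  have hprop : ∀ s, s = 5 ∨ s = 11 → s ∣ n → n = s := by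
    intro s hs hsn
    have hyo : orderOf (g ^ (orderOf g / s)) = s :=
      orderOf_pow_orderOf_div (orderOf_pos g).ne' (hg ▸ hsn)
    have hgC : g ∈ C (g ^ (orderOf g / s)) := mem_C.2 ((Commute.refl g).pow_right _).eq
    have hd := _root_.orderOf_dvd_natCard (⟨g, hgC⟩ : C (g ^ (orderOf g / s)))
    rw [← Subgroup.orderOf_coe] at hd
    change orderOf g ∣ _ at hd
    rcases hs with rfl | rfl
    · rw [hfive _ hyo, hg] at hd
      exact Nat.dvd_antisymm hd hsn
    · rw [(eleven hM hyo).1, hg] at hd
      exact Nat.dvd_antisymm hd hsn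
  by_cases h5 : 5 ∣ n
  · right; right; right; right; left
    obtain rfl := hprop 5 (Or.inl rfl) h5
    have := card_dvd_mul (G := M) (n := 5) (k := 5) fun x hx => (hfive x hx).dvd
    rw [hM] at this
    exact (Nat.mul_dvd_mul_iff_right (by norm_num : 0 < 5)).1 this
  by_cases h11 : 11 ∣ n
  · right; right; right; right; right
    obtain rfl := hprop 11 (Or.inr rfl) h11
    have hP : ∀ P : Sylow 11 M, Nat.card (P : Subgroup M) = 11 := fun P => by
      rw [P.card_eq_multiplicity, factorization_eleven hM, pow_one]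
    rw [SmallSimple.card_orderOf_eq_prime hP]
    obtain ⟨P, -, hPs⟩ := exists_sylow hM (factorization_eleven hM) hg
    have hidx := (N g).index_mul_card
    rw [(eleven hM hg).2, hM] at hidx
    rw [P.card_eq_index_normalizer, hPs]
    change (N g).index * (11 - 1) = 1440
    omega
  have h9 : n = 1 ∨ n = 3 := by
    have hd : n ∣ 9 := by
      have c1 : Nat.Coprime n 16 := Nat.Coprime.pow_right 4
        ((Nat.prime_two.coprime_iff_not_dvd.2 h2).symm)
      have c2 : Nat.Coprime n 5 := ((Nat.prime_five).coprime_iff_not_dvd.2 h5).symm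
      have c3 : Nat.Coprime n 11 := ((by norm_num : Nat.Prime 11).coprime_iff_not_dvd.2 h11).symm
      exact ((c1.mul_right c2).mul_right c3).dvd_of_dvd_mul_right
        (show n ∣ 9 * (16 * 5 * 11) from hn7920)
    by_cases hg1 : g = 1
    · left; rw [← hg, hg1, orderOf_one]
    · right
      obtain ⟨k, -, hk⟩ := (Nat.dvd_prime_pow Nat.prime_three).1
        (show n ∣ 3 ^ 2 from hd)
      obtain ⟨P, hP⟩ := (IsPGroup.of_card (p := 3) (n := k) (G := zpowers g)
        (by rw [Nat.card_zpowers, hg, hk])).exists_le_sylow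
      rw [← hg, orderOf_sylow hM P (hP (mem_zpowers g)) hg1]
  rcases h9 with rfl | rfl
  · right; left
    rw [Nat.card_eq_one_iff_exists]
    exact ⟨⟨1, orderOf_one⟩, fun x => Subtype.ext (orderOf_eq_one_iff.1 x.2)⟩
  · right; right; right; left
    have := card_dvd_mul (G := M) (n := 3) (k := 18) fun x hx => (card_C_three hM hx).dvd
    rw [hM] at this
    exact (Nat.mul_dvd_mul_iff_right (by norm_num : 0 < 18)).1 this

/-- Recognition of the simple group of order 7920 by order and numbers of elements of each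
order. -/
theorem isSimpleGroup_of_nse {G M : Type*} [Group G] [Finite G] [Group M] [Fintype M]
    [IsSimpleGroup M] (hM : Nat.card M = 7920) (hG : Nat.card G = 7920)
    (hnse : ∀ n, 0 < Nat.card {g : G // orderOf g = n} →
      ∃ m, Nat.card {g : G // orderOf g = n} = Nat.card {g : M // orderOf g = m}) :
    IsSimpleGroup G := by
  classical
  haveI : Fact (Nat.Prime 5) := ⟨Nat.prime_five⟩
  haveI : Fact (Nat.Prime 11) := ⟨by norm_num⟩
  have hbad : ∀ n c, Nat.card {g : G // orderOf g = n} = c → 0 < c →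
      c = 1 ∨ 165 ∣ c ∨ 440 ∣ c ∨ 1584 ∣ c ∨ c = 1440 := by
    intro n c hc hpos
    obtain ⟨m, hm⟩ := hnse n (hc ▸ hpos)
    rcases nse_cases hM m with h | h | h | h | h | h <;> rw [← hm, hc] at h <;> omega
  have hsyl : ∀ p, p = 5 ∨ p = 11 → ∀ [Fact p.Prime] (P : Sylow p G),
      Nat.card (P : Subgroup G) = p := by
    intro p hp _ P
    rw [P.card_eq_multiplicity]
    rcases hp with rfl | rfl
    · rw [factorization_five hG, pow_one]
    · rw [factorization_eleven hG, pow_one]
  have hidx : ∀ p, p = 5 ∨ p = 11 → ∀ [Fact p.Prime] (P : Sylow p G),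
      Nat.card (Sylow p G) * Nat.card (normalizer ((P : Subgroup G) : Set G)) = 7920 ∧
        Nat.card (Sylow p G) % p = 1 ∧ p ∣ Nat.card (normalizer ((P : Subgroup G) : Set G)) := by
    intro p hp _ P
    have h := (normalizer ((P : Subgroup G) : Set G)).index_mul_card
    rw [show (normalizer ((P : Subgroup G) : Set G)).index = Nat.card (Sylow p G) from
      P.card_eq_index_normalizer.symm, hG] at h
    refine ⟨h, ?_, dvd_trans (dvd_of_eq (hsyl p hp P).symm) (card_dvd_of_le le_normalizer)⟩
    have := card_sylow_modEq_one p G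
    rcases hp with rfl | rfl <;> exact this
  obtain ⟨P⟩ : Nonempty (Sylow 11 G) := inferInstance
  obtain ⟨x', hx'⟩ := exists_prime_orderOf_dvd_card' (G := G) 11 (by rw [hG]; norm_num)
  -- the normalizer of a Sylow 11-subgroup has order 55
  have hN : ∀ Q : Sylow 11 G, Nat.card (normalizer ((Q : Subgroup G) : Set G)) = 55 := by
    intro Q
    obtain ⟨hmul, hmod, hd⟩ := hidx 11 (Or.inr rfl) Q
    have hc := SmallSimple.card_orderOf_eq_prime (hsyl 11 (Or.inr rfl))
    have hs720 : Nat.card (Sylow 11 G) ∣ 720 := by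
      obtain ⟨j, hj⟩ := hd
      rw [hj] at hmul
      exact ⟨j, by linarith⟩
    have key : ∀ i < 721, i % 11 = 1 → i ∣ 720 → i = 1 ∨ i = 12 ∨ i = 45 ∨ i = 144 := by
      decide +kernel
    have hb := hbad 11 _ hc (Nat.mul_pos Nat.card_pos (by norm_num))
    rcases key _ (Nat.lt_succ_of_le (Nat.le_of_dvd (by norm_num) hs720)) hmod hs720 with
      h | h | h | h <;> rw [h] at hb hmul <;> omega
  -- there is no element of order 55
  have h55 : ¬ ∃ g : G, orderOf g = 55 := by
    rintro ⟨g, hg⟩
    have hyo : orderOf (g ^ 11) = 5 := by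
      rw [orderOf_pow' g (by norm_num : (11 : ℕ) ≠ 0), hg]; rfl
    obtain ⟨Q, hQ⟩ := SmallSimple.zpowers_eq_sylow (hsyl 5 (Or.inl rfl)) hyo
    obtain ⟨hmul, hmod, -⟩ := hidx 5 (Or.inl rfl) Q
    have hgN : g ∈ normalizer ((Q : Subgroup G) : Set G) := by
      refine centralizer_le_normalizer _ (mem_centralizer_iff.2 fun w hw => ?_)
      rw [SetLike.mem_coe, hQ] at hw
      obtain ⟨i, rfl⟩ := hw
      exact (((Commute.refl g).pow_left 11).zpow_left i).eq
    have hd := _root_.orderOf_dvd_natCard
      (⟨g, hgN⟩ : normalizer ((Q : Subgroup G) : Set G))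
    rw [← Subgroup.orderOf_coe] at hd
    change orderOf g ∣ _ at hd
    rw [hg] at hd
    obtain ⟨j, hj⟩ := hd
    rw [hj] at hmul
    have hs144 : Nat.card (Sylow 5 G) ∣ 144 := ⟨j, by linarith⟩
    have key : ∀ i < 145, i % 5 = 1 → i ∣ 144 → i = 1 ∨ i = 6 ∨ i = 16 ∨ i = 36 := by
      decide +kernel
    have hb := hbad 5 _ (SmallSimple.card_orderOf_eq_prime (hsyl 5 (Or.inl rfl)))
      (Nat.mul_pos Nat.card_pos (by norm_num))
    rcases key _ (Nat.lt_succ_of_le (Nat.le_of_dvd (by norm_num) hs144)) hmod hs144 with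
      h | h | h | h <;> rw [h] at hb <;> omega
  refine Cfsg.Agent.S2490.result hG ⟨{11}, ⟨11, rfl, by norm_num, by rw [hG]; norm_num⟩,
    ⟨5, by norm_num, by norm_num, by rw [hG]; norm_num⟩, ?_⟩
  rintro a rfl b hb - hbp - hbd ⟨g, hg⟩
  have hb' : b ≠ 11 := hb
  have hxo : orderOf (g ^ b) = 11 := by
    rw [orderOf_pow' g hbp.ne_zero, hg, Nat.gcd_mul_left_left,
      Nat.mul_div_cancel _ hbp.pos]
  obtain ⟨Q, hQ⟩ := SmallSimple.zpowers_eq_sylow (hsyl 11 (Or.inr rfl)) hxo
  have hgN : g ∈ normalizer ((Q : Subgroup G) : Set G) := by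
    refine centralizer_le_normalizer _ (mem_centralizer_iff.2 fun w hw => ?_)
    rw [SetLike.mem_coe, hQ] at hw
    obtain ⟨i, rfl⟩ := hw
    exact (((Commute.refl g).pow_left b).zpow_left i).eq
  have hd := _root_.orderOf_dvd_natCard (⟨g, hgN⟩ : normalizer ((Q : Subgroup G) : Set G))
  rw [← Subgroup.orderOf_coe] at hd
  change orderOf g ∣ _ at hd
  rw [hg, hN Q, show (55 : ℕ) = 11 * 5 by norm_num] at hd
  have hb5 := (Nat.prime_dvd_prime_iff_eq hbp Nat.prime_five).1
    (Nat.dvd_of_mul_dvd_mul_left (by norm_num) hd)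
  exact h55 ⟨g, by rw [hg, hb5]⟩

end Cfsg.Agent.Order7920
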