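import Cfsg.Agent.Lib.Order7920.Five
import Cfsg.Agent.Lib.Char.Descend

/-!
# The character degrees of a simple group of order 7920
-/

namespace Cfsg.Agent.Order7920

open scoped ComplexConjugate
open Cfsg

set_option linter.style.haveILetI false

variable {G : Type*} [Group G] [Fintype G] [IsSimpleGroup G]

/-- Divisors of 7920 up to 88 in the residue classes that occur. -/
theorem degree_cases {n : ℕ} (hn : n ∣ 7920) (hsq : n * n ≤ 7920) :
    (n % 11 = 1 ∨ n % 11 = 10 → n = 1 ∨ n = 10 ∨ n = 12 ∨ n = 45) ∧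
    (n % 11 = 2 ∨ n % 11 = 9 → n = 2 ∨ n = 9 ∨ n = 20 ∨ n = 24) ∧
    (n % 11 = 5 ∨ n % 11 = 6 → n = 5 ∨ n = 6 ∨ n = 16 ∨ n = 60 ∨ n = 72) ∧
    (n % 11 = 0 → n % 5 = 0 → n = 55) ∧
    (n % 11 = 0 → n % 5 = 1 ∨ n % 5 = 4 → n = 11 ∨ n = 44 ∨ n = 66) := by
  have hlt : n < 89 := by nlinarith
  have k1 : ∀ n < 89, n ∣ 7920 → (n % 11 = 1 ∨ n % 11 = 10) →
      n = 1 ∨ n = 10 ∨ n = 12 ∨ n = 45 := by decide +kernel
  have k2 : ∀ n < 89, n ∣ 7920 → (n % 11 = 2 ∨ n % 11 = 9) →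
      n = 2 ∨ n = 9 ∨ n = 20 ∨ n = 24 := by decide +kernel
  have k3 : ∀ n < 89, n ∣ 7920 → (n % 11 = 5 ∨ n % 11 = 6) →
      n = 5 ∨ n = 6 ∨ n = 16 ∨ n = 60 ∨ n = 72 := by decide +kernel
  have k4 : ∀ n < 89, n ∣ 7920 → n % 11 = 0 → n % 5 = 0 → n = 55 := by decide +kernel
  have k5 : ∀ n < 89, n ∣ 7920 → n % 11 = 0 → (n % 5 = 1 ∨ n % 5 = 4) →
      n = 11 ∨ n = 44 ∨ n = 66 := by decide +kernel
  exact ⟨k1 n hlt hn, k2 n hlt hn, k3 n hlt hn, k4 n hlt hn, k5 n hlt hn⟩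

theorem abs_cases_of_sq_le {m : ℤ} (h : m * m ≤ 4) :
    m = -2 ∨ m = -1 ∨ m = 0 ∨ m = 1 ∨ m = 2 := by
  have : -2 ≤ m ∧ m ≤ 2 := ⟨by nlinarith, by nlinarith⟩
  omega

theorem abs_cases_of_sq_le_two {m : ℤ} (h : m * m ≤ 2) : m = -1 ∨ m = 0 ∨ m = 1 := by
  have : -1 ≤ m ∧ m ≤ 1 := ⟨by nlinarith, by nlinarith⟩
  omega

set_option maxHeartbeats 3200000 in
theorem degree_sum (hG : Nat.card G = 7920) (f : ℕ → ℕ) :
    ∑ χ : IrrCharacter G, f (Char.degree χ) =
      f 1 + 3 * f 10 + 2 * f 16 + f 45 + f 11 + f 44 + f 55 := by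
  classical
  haveI : Fact (Nat.Prime 11) := ⟨by norm_num⟩
  haveI : Fact (Nat.Prime 5) := ⟨by norm_num⟩
  haveI : Fact (Nat.Prime 2) := ⟨Nat.prime_two⟩
  obtain ⟨x, hx⟩ := exists_prime_orderOf_dvd_card' (G := G) 11 (by rw [hG]; norm_num)
  obtain ⟨t, ht⟩ := exists_prime_orderOf_dvd_card' (G := G) 2 (by rw [hG]; norm_num)
  obtain ⟨y, hy⟩ := exists_prime_orderOf_dvd_card' (G := G) 5 (by rw [hG]; norm_num)
  have hna := noncomm hG
  set deg : IrrCharacter G → ℕ := fun χ => Char.degree χ with hdeg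
  set o := Char.trivialChar G with ho
  have hdo : deg o = 1 := by
    have := Char.apply_one_eq_degree o
    rw [ho, Char.trivialChar_apply] at this
    exact_mod_cast this.symm
  have hdvd : ∀ χ, deg χ ∣ 7920 := fun χ => by
    show Char.degree χ ∣ 7920
    rw [← hG, ← Char.charDegree_eq_degree]
    exact Char.charDegree_dvd_card χ
  have hpos : ∀ χ, 0 < deg χ := fun χ => Char.degree_pos χ
  have hone : ∀ χ, χ ≠ o → deg χ ≠ 1 := fun χ hne h1 => hne <|
    Blocks.eq_trivial_of_degree_one hna χ (by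
      rw [Char.apply_one_eq_degree, show Char.degree χ = 1 from h1, Nat.cast_one])
  have htwo : ∀ χ, χ ≠ o → deg χ ≠ 2 := fun χ hne h2 => by
    obtain ⟨m, ⟨r, rfl⟩, h0, hlt, -⟩ := involution_value hna χ hne ht
    change r + r < deg χ at hlt
    omega
  have hsq : ∑ χ, deg χ * deg χ = 7920 := by
    have := Char.sum_degree_sq (G := G)
    rw [hG] at this
    simpa [hdeg, pow_two] using this
  have hsqle : ∀ χ, deg χ * deg χ ≤ 7920 := fun χ =>
    hsq ▸ Finset.single_le_sum (f := fun χ => deg χ * deg χ) (fun _ _ => Nat.zero_le _)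
      (Finset.mem_univ χ)
  have hcases := fun χ => degree_cases (hdvd χ) (hsqle χ)
  -- values at `x`
  have hval : ∀ χ : IrrCharacter G, ∃ u v : ℤ, 2 * χ.1 x = u + v * w ∧
      (2 * (deg χ : ℤ) - u) % 11 = 0 ∧ (u * u + 11 * (v * v)) % 4 = 0 := by
    intro χ
    obtain ⟨n, u, v, hn, h⟩ :=
      values_eleven (Char.irr_isCharacter χ) hx (five_dvd_conj hG hx)
    rw [Char.apply_one_eq_degree] at hn
    have : deg χ = n := by exact_mod_cast hn
    exact ⟨u, v, by rwa [this]⟩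
  choose u v huv hu11 hu4 using hval
  have hvalc : ∀ χ : IrrCharacter G, 2 * conj (χ.1 x) = u χ - v χ * w := by
    intro χ
    have := congrArg conj (huv χ)
    simp only [map_mul, map_ofNat, map_add, map_intCast, conj_w] at this
    linear_combination this
  obtain ⟨huo, hvo⟩ : u o = 2 ∧ v o = 0 := by
    have := huv o
    rw [ho, Char.trivialChar_apply] at this
    have h := int_eq_zero_of_add_w (a := u o - 2) (b := v o) (by
      push_cast
      rw [ho]
      linear_combination -this)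
    exact ⟨by omega, h.2⟩
  have hC := (eleven hG hx).1
  have hE1 : ∑ χ, (u χ * u χ + 11 * (v χ * v χ)) = 44 := by
    have h := Char.sum_irr_mul_conj x x
    rw [if_pos (IsConj.refl x), hC] at h
    have h' : ((∑ χ, (u χ * u χ + 11 * (v χ * v χ)) : ℤ) : ℂ) =
        4 * ∑ χ : IrrCharacter G, χ.1 x * conj (χ.1 x) := by
      rw [Finset.mul_sum, Int.cast_sum]
      refine Finset.sum_congr rfl fun χ _ => ?_
      push_cast
      linear_combination (-(2 * conj (χ.1 x))) * huv χ + (-((u χ : ℂ) + v χ * w)) * hvalc χ +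
        (v χ : ℂ) * v χ * w_sq
    rw [h] at h'
    norm_num at h'
    exact_mod_cast h'
  have hE2 : ∑ χ, (u χ * u χ - 11 * (v χ * v χ)) = 0 ∧ ∑ χ, u χ * v χ = 0 := by
    have h := Char.sum_irr_mul_conj x x⁻¹
    rw [if_neg (not_isConj_inv hG hx)] at h
    have h' : ((∑ χ, (u χ * u χ - 11 * (v χ * v χ)) : ℤ) : ℂ) +
        ((∑ χ, 2 * (u χ * v χ) : ℤ) : ℂ) * w = 4 * ∑ χ : IrrCharacter G, χ.1 x * conj (χ.1 x⁻¹) := by
      rw [Finset.mul_sum, Int.cast_sum, Int.cast_sum, Finset.sum_mul, ← Finset.sum_add_distrib]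
      refine Finset.sum_congr rfl fun χ _ => ?_
      rw [CharInt.char_inv (Char.irr_isCharacter χ), Complex.conj_conj]
      push_cast
      linear_combination (-(2 * χ.1 x + u χ + v χ * w)) * huv χ - (v χ : ℂ) * v χ * w_sq
    rw [h, mul_zero] at h'
    obtain ⟨h1, h2⟩ := int_eq_zero_of_add_w h'
    refine ⟨h1, ?_⟩
    rw [← Finset.mul_sum] at h2
    omega
  have hE3 : ∑ χ, (deg χ : ℤ) * u χ = 0 ∧ ∑ χ, (deg χ : ℤ) * v χ = 0 := by
    have h := Char.sum_irr_degree_mul x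
    rw [if_neg (fun e => by rw [e, orderOf_one] at hx; omega)] at h
    refine int_eq_zero_of_add_w ?_
    rw [Int.cast_sum, Int.cast_sum, Finset.sum_mul, ← Finset.sum_add_distrib]
    calc _ = ∑ χ : IrrCharacter G, 2 * (χ.1 1 * χ.1 x) := by
          refine Finset.sum_congr rfl fun χ _ => ?_
          rw [Char.apply_one_eq_degree]
          push_cast
          linear_combination (-(deg χ : ℂ)) * huv χ
      _ = 0 := by rw [← Finset.mul_sum, h, mul_zero]
  obtain ⟨hu2, hv2⟩ : ∑ χ, u χ * u χ = 22 ∧ ∑ χ, v χ * v χ = 2 := by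
    rw [Finset.sum_add_distrib, ← Finset.mul_sum] at hE1
    have := hE2.1
    rw [Finset.sum_sub_distrib, ← Finset.mul_sum] at this
    omega
  -- the pair of exceptional characters
  set V := Finset.univ.filter fun χ => v χ ≠ 0
  have hVsum : ∀ F : IrrCharacter G → ℤ, ∑ χ ∈ V, F χ * v χ = ∑ χ, F χ * v χ := fun F =>
    Finset.sum_subset (Finset.filter_subset _ _) fun χ _ hχ => by
      simp only [V, Finset.mem_filter, Finset.mem_univ, true_and, not_not] at hχ
      rw [hχ, mul_zero]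
  have hV1 : ∀ χ ∈ V, v χ = 1 ∨ v χ = -1 := by
    intro χ hχ
    have h1 : v χ * v χ ≤ 2 := hv2 ▸ Finset.single_le_sum (f := fun χ => v χ * v χ)
      (fun _ _ => mul_self_nonneg _) (Finset.mem_univ χ)
    have h0 := (Finset.mem_filter.1 hχ).2
    rcases abs_cases_of_sq_le_two h1 with h | h | h <;> omega
  have hV2 : V.card = 2 := by
    have h1 : ∑ χ ∈ V, v χ * v χ = 2 := (hVsum v).trans hv2
    rw [Finset.sum_congr rfl (fun χ hχ => show v χ * v χ = 1 by
      rcases hV1 χ hχ with h | h <;> rw [h] <;> rfl), Finset.sum_const, nsmul_one] at h1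
    exact_mod_cast h1
  obtain ⟨a, b, hab, hVab⟩ := Finset.card_eq_two.1 hV2
  have hva := hV1 a (hVab ▸ by simp)
  have hvb := hV1 b (hVab ▸ by simp)
  have hdab := hE3.2
  rw [← hVsum, hVab, Finset.sum_pair hab] at hdab
  have huab := hE2.2
  rw [← hVsum, hVab, Finset.sum_pair hab] at huab
  have hdd : deg a = deg b ∧ u a = u b := by
    have := hpos a; have := hpos b
    rcases hva with h | h <;> rcases hvb with h' | h' <;> rw [h, h'] at hdab huab <;>
      constructor <;> omega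
  have hao : a ≠ o := fun h => by rw [h, hvo] at hva; omega
  have hbo : b ≠ o := fun h => by rw [h, hvo] at hvb; omega
  set R := ((Finset.univ.erase o).erase a).erase b with hR
  have hsplit : ∀ {A : Type} [AddCommMonoid A] (F : IrrCharacter G → A),
      ∑ χ, F χ = F o + (F a + (F b + ∑ χ ∈ R, F χ)) := by
    intro A _ F
    rw [hR, Finset.add_sum_erase _ _ (by simp [hab.symm, hbo]),
      Finset.add_sum_erase _ _ (by simp [hao]), Finset.add_sum_erase _ _ (Finset.mem_univ _)]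
  have hRmem : ∀ χ ∈ R, χ ≠ o ∧ v χ = 0 ∧ u χ = 2 * (u χ / 2) := by
    intro χ hχ
    simp only [hR, Finset.mem_erase, Finset.mem_univ, and_true] at hχ
    have h0 : v χ = 0 := by
      by_contra h
      have : χ ∈ V := Finset.mem_filter.2 ⟨Finset.mem_univ _, h⟩
      simp [hVab, hχ.1, hχ.2.1] at this
    refine ⟨hχ.2.2, h0, ?_⟩
    have h4 := hu4 χ
    rw [h0] at h4
    rcases Int.emod_two_eq_zero_or_one (u χ) with h | h
    · omega
    · exfalso
      obtain ⟨r, hr⟩ : ∃ r, u χ = 2 * r + 1 := ⟨u χ / 2, by omega⟩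
      rw [hr] at h4
      ring_nf at h4
      omega
  set m : IrrCharacter G → ℤ := fun χ => u χ / 2
  have hum : ∀ χ ∈ R, u χ = 2 * m χ := fun χ hχ => (hRmem χ hχ).2.2
  set d := deg a with hd
  set s := u a with hs
  have hM2 : 4 + 2 * (s * s) + 4 * (∑ χ ∈ R, m χ * m χ) = 22 := by
    rw [← hu2, hsplit (fun χ => u χ * u χ), huo, ← hdd.2, Finset.mul_sum]
    rw [Finset.sum_congr rfl fun χ hχ => show u χ * u χ = 4 * (m χ * m χ) by rw [hum χ hχ]; ring]
    ring
  have hM1 : 1 + (d : ℤ) * s + ∑ χ ∈ R, (deg χ : ℤ) * m χ = 0 := by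
    have h := hE3.1
    rw [hsplit (fun χ => (deg χ : ℤ) * u χ), hdo, huo, ← hdd.1, ← hdd.2,
      Finset.sum_congr rfl (fun χ hχ => show (deg χ : ℤ) * u χ = 2 * ((deg χ : ℤ) * m χ) by
        rw [hum χ hχ]; ring), ← Finset.mul_sum] at h
    push_cast at h
    linarith
  have hMnn : 0 ≤ ∑ χ ∈ R, m χ * m χ := Finset.sum_nonneg fun _ _ => mul_self_nonneg _
  have hs1 : s = 1 ∨ s = -1 := by
    have h4 := hu4 a
    rw [← hs, show v a * v a = 1 by rcases hva with h | h <;> rw [h] <;> rfl] at h4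
    have h9 : s * s ≤ 9 := by linarith
    have : -3 ≤ s ∧ s ≤ 3 := ⟨by nlinarith, by nlinarith⟩
    obtain ⟨hl, hr⟩ := this
    interval_cases s
    · -- s = -3
      exfalso
      have h0 : ∑ χ ∈ R, m χ * m χ = 0 := by linarith
      rw [Finset.sum_eq_zero_iff_of_nonneg fun _ _ => mul_self_nonneg _] at h0
      rw [Finset.sum_eq_zero fun χ hχ => by rw [mul_self_eq_zero.1 (h0 χ hχ), mul_zero]] at hM1
      omega
    all_goals try (norm_num at h4)
    all_goals try (exact Or.inl rfl)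
    all_goals try (exact Or.inr rfl)
    exfalso
    have h0 : ∑ χ ∈ R, m χ * m χ = 0 := by linarith
    rw [Finset.sum_eq_zero_iff_of_nonneg fun _ _ => mul_self_nonneg _] at h0
    rw [Finset.sum_eq_zero fun χ hχ => by rw [mul_self_eq_zero.1 (h0 χ hχ), mul_zero]] at hM1
    omega
  have hM4 : ∑ χ ∈ R, m χ * m χ = 4 := by
    rcases hs1 with h | h <;> rw [h] at hM2 <;> linarith
  have hdcases : d = 5 ∨ d = 6 ∨ d = 16 ∨ d = 60 ∨ d = 72 := by
    refine (hcases a).2.2.1 ?_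
    have := hu11 a
    rw [← hs, ← hd] at this
    rw [← hd]
    rcases hs1 with h | h <;> rw [h] at this <;> omega
  set T := R.filter fun χ => m χ ≠ 0 with hT
  have hTsq : ∑ χ ∈ T, m χ * m χ = 4 := by
    rw [← hM4, hT]
    exact Finset.sum_filter_of_ne fun χ _ h (e : m χ = 0) => h (by rw [e, mul_zero])
  have hTlin : 1 + (d : ℤ) * s + ∑ χ ∈ T, (deg χ : ℤ) * m χ = 0 := by
    rw [← hM1]
    refine congrArg ((1 : ℤ) + (d : ℤ) * s + ·) ?_
    exact Finset.sum_filter_of_ne fun χ _ h (e : m χ = 0) => h (by rw [e, mul_zero])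
  have hTR : ∀ χ ∈ T, χ ∈ R ∧ m χ ≠ 0 := fun χ hχ => Finset.mem_filter.1 hχ
  have hm11 : ∀ χ ∈ R, ((deg χ : ℤ) - m χ) % 11 = 0 := by
    intro χ hχ
    have := hu11 χ
    rw [hum χ hχ] at this
    omega
  -- no value ±2
  have hT1 : ∀ χ ∈ T, m χ = 1 ∨ m χ = -1 := by
    intro χ hχ
    have hle : m χ * m χ ≤ 4 := hTsq ▸ Finset.single_le_sum (f := fun χ => m χ * m χ)
      (fun _ _ => mul_self_nonneg _) hχ
    have hne := (hTR χ hχ).2
    have hbig : m χ * m χ = 4 → False := by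
      intro h4
      have hrest : ∀ ψ ∈ T, ψ ≠ χ → False := by
        intro ψ hψ hne'
        have h2 : ∑ φ ∈ ({χ, ψ} : Finset _), m φ * m φ ≤ ∑ φ ∈ T, m φ * m φ :=
          Finset.sum_le_sum_of_subset_of_nonneg
            (by simp [Finset.insert_subset_iff, hχ, hψ]) fun _ _ _ => mul_self_nonneg _
        rw [Finset.sum_pair hne'.symm, hTsq, h4] at h2
        exact (hTR ψ hψ).2 (mul_self_eq_zero.1 (le_antisymm (by linarith) (mul_self_nonneg _)))
      have hTe : T = {χ} := Finset.eq_singleton_iff_unique_mem.2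
        ⟨hχ, fun ψ hψ => by_contra (hrest ψ hψ)⟩
      rw [hTe, Finset.sum_singleton] at hTlin
      have hR' := (hTR χ hχ).1
      have h11 := hm11 χ hR'
      have hn2 := htwo χ (hRmem χ hR').1
      have hm2 : m χ = 2 ∨ m χ = -2 := by
        rcases abs_cases_of_sq_le hle with h | h | h | h | h <;> rw [h] at h4 <;> omega
      have hn := (hcases χ).2.1 (by rcases hm2 with h | h <;> rw [h] at h11 <;> omega)
      rcases hn with hn | hn | hn | hn <;> rcases hm2 with hm | hm <;>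
        rcases hs1 with hs' | hs' <;> rw [hn, hm, hs'] at hTlin <;>
        rcases hdcases with hd' | hd' | hd' | hd' | hd' <;> rw [hd'] at hTlin <;>
        first
          | exact hn2 hn
          | norm_num at hTlin
    rcases abs_cases_of_sq_le hle with h | h | h | h | h
    · exact (hbig (by rw [h]; rfl)).elim
    · exact Or.inr h
    · exact absurd h hne
    · exact Or.inl h
    · exact (hbig (by rw [h]; rfl)).elim
  have hT4 : T.card = 4 := by
    rw [Finset.sum_congr rfl (fun χ hχ => show m χ * m χ = 1 by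
      rcases hT1 χ hχ with h | h <;> rw [h] <;> rfl), Finset.sum_const, nsmul_one] at hTsq
    exact_mod_cast hTsq
  have hTdeg : ∀ χ ∈ T, deg χ = 10 ∧ m χ = -1 ∨ deg χ = 12 ∧ m χ = 1 ∨ deg χ = 45 ∧ m χ = 1 := by
    intro χ hχ
    have hR' := (hTR χ hχ).1
    have h11 := hm11 χ hR'
    have h1 := hone χ (hRmem χ hR').1
    have hn := (hcases χ).1 (by rcases hT1 χ hχ with h | h <;> rw [h] at h11 <;> omega)
    rcases hn with hn | hn | hn | hn <;> rcases hT1 χ hχ with h | h <;> rw [hn, h] at h11 <;>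
      first
        | exact absurd hn h1
        | (norm_num at h11; done)
        | exact Or.inl ⟨hn, h⟩
        | exact Or.inr (Or.inl ⟨hn, h⟩)
        | exact Or.inr (Or.inr ⟨hn, h⟩)
  set U := R.filter fun χ => ¬ m χ ≠ 0 with hU
  have hU11 : ∀ χ ∈ U, deg χ % 11 = 0 := by
    intro χ hχ
    obtain ⟨hR', h0⟩ := Finset.mem_filter.1 hχ
    have := hm11 χ hR'
    rw [not_not.1 h0] at this
    omega
  have hsplit' : ∀ {A : Type} [AddCommMonoid A] (F : IrrCharacter G → A),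
      ∑ χ, F χ = F o + (F a + (F b + (∑ χ ∈ T, F χ + ∑ χ ∈ U, F χ))) := by
    intro A _ F
    rw [hsplit F, hT, hU, Finset.sum_filter_add_sum_filter_not]
  obtain ⟨K, hK⟩ : 121 ∣ ∑ χ ∈ U, deg χ * deg χ := by
    refine Finset.dvd_sum fun χ hχ => ?_
    rw [show (121 : ℕ) = 11 * 11 by rfl]
    exact mul_dvd_mul (Nat.dvd_of_mod_eq_zero (hU11 χ hχ)) (Nat.dvd_of_mod_eq_zero (hU11 χ hχ))
  have hsq' : 1 + 2 * (d * d) + (∑ χ ∈ T, deg χ * deg χ) + 121 * K = 7920 := by
    rw [← hsq, ← hK, hsplit' (fun χ => deg χ * deg χ), hdo, ← hdd.1]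
    ring
  -- the four characters with value ±1
  obtain ⟨c1, c2, c3, c4, h12, h13, h14, h23, h24, h34, hT'⟩ := Finset.card_eq_four.1 hT4
  have hTsum : ∀ {A : Type} [AddCommMonoid A] (F : IrrCharacter G → A),
      ∑ χ ∈ T, F χ = F c1 + (F c2 + (F c3 + F c4)) := by
    intro A _ F
    rw [hT', Finset.sum_insert (by simp [h12, h13, h14]), Finset.sum_insert (by simp [h23, h24]),
      Finset.sum_pair h34]
  rw [hTsum] at hTlin hsq'
  have hmT : ∀ χ ∈ ({c1, c2, c3, c4} : Finset _),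
      deg χ = 10 ∧ m χ = -1 ∨ deg χ = 12 ∧ m χ = 1 ∨ deg χ = 45 ∧ m χ = 1 := fun χ hχ =>
    hTdeg χ (hT' ▸ hχ)
  have hmain : (d = 16 ∧ ∀ F : ℕ → ℕ,
        F (deg c1) + (F (deg c2) + (F (deg c3) + F (deg c4))) = 3 * F 10 + F 45) ∨
      (d = 5 ∧ (∃ χ ∈ T, deg χ = 10) ∧ ∃ χ ∈ T, deg χ = 12) := by
    have m1 : c1 ∈ T := hT' ▸ by simp
    have m2 : c2 ∈ T := hT' ▸ by simp
    have m3 : c3 ∈ T := hT' ▸ by simp
    have m4 : c4 ∈ T := hT' ▸ by simp
    rcases hmT c1 (by simp) with ⟨e1, f1⟩ | ⟨e1, f1⟩ | ⟨e1, f1⟩ <;>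
    rcases hmT c2 (by simp) with ⟨e2, f2⟩ | ⟨e2, f2⟩ | ⟨e2, f2⟩ <;>
    rcases hmT c3 (by simp) with ⟨e3, f3⟩ | ⟨e3, f3⟩ | ⟨e3, f3⟩ <;>
    rcases hmT c4 (by simp) with ⟨e4, f4⟩ | ⟨e4, f4⟩ | ⟨e4, f4⟩ <;>
    rw [e1, e2, e3, e4, f1, f2, f3, f4] at hTlin <;> rw [e1, e2, e3, e4] at hsq' <;>
    rcases hdcases with hd' | hd' | hd' | hd' | hd' <;> rw [hd'] at hTlin hsq' <;>
    rcases hs1 with hs' | hs' <;> rw [hs'] at hTlin <;>
    first
      | (exfalso; omega)
      | (left; refine ⟨hd', fun F => ?_⟩; rw [e1, e2, e3, e4]; omega)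
      | (right; refine ⟨hd', ?_, ?_⟩ <;>
          first
            | exact ⟨c1, m1, e1⟩
            | exact ⟨c2, m2, e2⟩
            | exact ⟨c3, m3, e3⟩
            | exact ⟨c4, m4, e4⟩)
  -- a character of degree 10
  obtain ⟨χ10, hχ10⟩ : ∃ χ, deg χ = 10 := by
    rcases hmain with ⟨-, h⟩ | ⟨-, ⟨χ, -, h⟩, -⟩
    · by_contra hne
      push_neg at hne
      have := h (fun n => if n = 10 then 1 else 0)
      simp [hne] at this
    · exact ⟨χ, h⟩
  obtain ⟨hCy, hyconj⟩ := five hG hy (odd_C_five hG χ10 hχ10 hy)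
  have hval5 : ∀ χ : IrrCharacter G, ∃ k : ℤ, χ.1 y = k ∧ ((deg χ : ℤ) - k) % 5 = 0 := by
    intro χ
    obtain ⟨n, k, hn, h⟩ := values_five (Char.irr_isCharacter χ) hy hyconj
    rw [Char.apply_one_eq_degree] at hn
    have : deg χ = n := by exact_mod_cast hn
    exact ⟨k, by rwa [this]⟩
  choose k hk hk5 using hval5
  have hF2 : ∑ χ, k χ * k χ = 5 := by
    have h := Char.sum_irr_mul_conj y y
    rw [if_pos (IsConj.refl y), hCy] at h
    have h' : ((∑ χ, k χ * k χ : ℤ) : ℂ) = ((5 : ℕ) : ℂ) := by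
      rw [← h, Int.cast_sum]
      exact Finset.sum_congr rfl fun χ _ => by rw [hk, map_intCast]; push_cast; ring
    exact_mod_cast h'
  have hF1 : ∑ χ, (deg χ : ℤ) * k χ = 0 := by
    have h := Char.sum_irr_degree_mul y
    rw [if_neg (fun e => by rw [e, orderOf_one] at hy; omega)] at h
    refine (Int.cast_eq_zero (α := ℂ)).1 ?_
    rw [Int.cast_sum, ← h]
    exact Finset.sum_congr rfl fun χ _ => by
      rw [Char.apply_one_eq_degree, hk]; push_cast; rfl
  have hko : k o = 1 := by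
    have := hk o
    rw [ho, Char.trivialChar_apply] at this
    rw [ho]
    exact_mod_cast this.symm
  rcases hmain with ⟨hd16, hTf⟩ | ⟨-, -, χ, hχT, hχ12⟩
  swap
  · exfalso
    have hχo : χ ≠ o := (hRmem χ (hTR χ hχT).1).1
    have h5 := hk5 χ
    rw [hχ12] at h5
    have h2 : ∑ φ ∈ ({o, χ} : Finset _), k φ * k φ ≤ 5 := hF2 ▸
      Finset.sum_le_sum_of_subset_of_nonneg (Finset.subset_univ _) fun _ _ _ => mul_self_nonneg _
    rw [Finset.sum_pair hχo.symm, hko] at h2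
    have h4 : 4 ≤ k χ * k χ := by
      rcases le_or_gt 0 (k χ) with h | h
      · have : 2 ≤ k χ := by omega
        nlinarith
      · have : k χ ≤ -2 := by omega
        nlinarith
    have hzero : ∀ φ, φ ≠ o → φ ≠ χ → k φ = 0 := by
      intro φ h1 h3
      have h6 : ∑ ψ ∈ ({o, χ, φ} : Finset _), k ψ * k ψ ≤ 5 := hF2 ▸
        Finset.sum_le_sum_of_subset_of_nonneg (Finset.subset_univ _) fun _ _ _ => mul_self_nonneg _
      rw [Finset.sum_insert (by simp [hχo.symm, Ne.symm h1]), Finset.sum_pair (Ne.symm h3), hko]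
        at h6
      exact mul_self_eq_zero.1 (le_antisymm (by linarith) (mul_self_nonneg _))
    rw [← Finset.sum_subset (Finset.subset_univ ({o, χ} : Finset _)) (fun φ _ hφ => by
      simp only [Finset.mem_insert, Finset.mem_singleton, not_or] at hφ
      rw [hzero φ hφ.1 hφ.2, mul_zero]), Finset.sum_pair hχo.symm, hdo, hko, hχ12] at hF1
    omega
  -- the case `d = 16`
  have hK42 : K = 42 := by
    have := hTf (fun n => n * n)
    rw [hd16] at hsq'
    omega
  have hsq2 : ∀ χ, deg χ % 5 ≠ 0 → 1 ≤ k χ * k χ := by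
    intro χ h
    have := hk5 χ
    have h0 : k χ ≠ 0 := fun e => by rw [e] at this; omega
    have := mul_self_pos.2 h0
    omega
  have hUk : ∑ χ ∈ U, k χ * k χ ≤ 2 := by
    have h := hsplit' (fun χ => k χ * k χ)
    rw [hF2, hko] at h
    have ha' := hsq2 a (by rw [← hd, hd16]; decide)
    have hb' := hsq2 b (by rw [← hdd.1, hd16]; decide)
    have : 0 ≤ ∑ χ ∈ T, k χ * k χ := Finset.sum_nonneg fun _ _ => mul_self_nonneg _
    linarith
  set U0 := U.filter fun χ => deg χ % 5 = 0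
  set U1 := U.filter fun χ => ¬ deg χ % 5 = 0
  have hU0 : ∀ χ ∈ U0, deg χ = 55 := fun χ hχ => by
    obtain ⟨h1, h2⟩ := Finset.mem_filter.1 hχ
    exact (hcases χ).2.2.2.1 (hU11 χ h1) h2
  have hU1 : ∀ χ ∈ U1, deg χ = 11 ∨ deg χ = 44 ∨ deg χ = 66 := fun χ hχ => by
    obtain ⟨h1, h2⟩ := Finset.mem_filter.1 hχ
    refine (hcases χ).2.2.2.2 (hU11 χ h1) ?_
    have hle : k χ * k χ ≤ 2 := le_trans (Finset.single_le_sum (f := fun χ => k χ * k χ)
      (fun _ _ => mul_self_nonneg _) h1) hUk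
    have h5 := hk5 χ
    rcases abs_cases_of_sq_le_two hle with h | h | h <;> rw [h] at h5 <;> omega
  have hU1card : U1.card ≤ 2 := by
    have h1 : ∑ χ ∈ U1, (1 : ℤ) ≤ ∑ χ ∈ U, k χ * k χ :=
      le_trans (Finset.sum_le_sum fun χ hχ => hsq2 χ (Finset.mem_filter.1 hχ).2)
        (Finset.sum_le_sum_of_subset_of_nonneg (Finset.filter_subset _ _)
          fun _ _ _ => mul_self_nonneg _)
    rw [Finset.sum_const, nsmul_one] at h1
    exact_mod_cast le_trans h1 hUk
  have hUsum : ∀ F : ℕ → ℕ, ∑ χ ∈ U, F (deg χ) =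
      U0.card * F 55 + ∑ χ ∈ U1, F (deg χ) := fun F => by
    rw [← Finset.sum_filter_add_sum_filter_not U (fun χ => deg χ % 5 = 0),
      Finset.sum_congr rfl fun χ hχ => by rw [hU0 χ hχ], Finset.sum_const, smul_eq_mul]
  have hUf : ∀ F : ℕ → ℕ, ∑ χ ∈ U, F (deg χ) = F 11 + F 44 + F 55 := by
    have hq := hUsum (fun n => n * n)
    rw [hK, hK42] at hq
    intro F
    rw [hUsum F]
    rcases Nat.lt_or_ge U1.card 1 with h0 | h0
    · rw [Finset.card_eq_zero.1 (by omega : U1.card = 0), Finset.sum_empty] at hq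
      omega
    rcases Nat.lt_or_ge U1.card 2 with h1 | h1
    · obtain ⟨e, he⟩ := Finset.card_eq_one.1 (by omega : U1.card = 1)
      rw [he, Finset.sum_singleton] at hq
      rcases hU1 e (he ▸ Finset.mem_singleton_self e) with h | h | h <;> rw [h] at hq <;> omega
    · obtain ⟨e, e', hne, he⟩ := Finset.card_eq_two.1 (by omega : U1.card = 2)
      rw [he, Finset.sum_pair hne] at hq ⊢
      rcases hU1 e (he ▸ by simp) with h | h | h <;>
        rcases hU1 e' (he ▸ by simp) with h' | h' | h' <;> rw [h, h'] at hq ⊢ <;>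
        first
          | (exfalso; omega)
          | (rw [show U0.card = 1 by omega]; omega)
  show ∑ χ, f (deg χ) = _
  rw [hsplit' (fun χ => f (deg χ)), hdo, ← hd, ← hdd.1, hd16, hTsum, hTf, hUf]
  ring

end Cfsg.Agent.Order7920
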