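import Cfsg.Agent.Lib.Blocks.PrimePowerDegree
import Cfsg.Agent.Lib.TwentyTwo.Small
import Cfsg.Agent.Lib.ZStar.Main
import Cfsg.Agent.Lib.ZStar.Consumers
import Cfsg.Agent.Lib.PGroup.Basic
import Cfsg.Agent.Lib.PCore.Basic

/-!
# Sylow 11-subgroups of a simple group of order 7920

Elements of order 11 are self-centralising and have normaliser of order 55.
-/

namespace Cfsg.Agent.Order7920

open Subgroup MulAction

set_option linter.style.haveILetI false

variable {G : Type*} [Group G] [Finite G] [IsSimpleGroup G] (hG : Nat.card G = 7920)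

/-- The centralizer of an element. -/
abbrev C (z : G) : Subgroup G := centralizer ({z} : Set G)

/-- The normalizer of the subgroup generated by an element. -/
abbrev N (z : G) : Subgroup G := normalizer (zpowers z : Set G)

omit [Finite G] [IsSimpleGroup G] in
theorem mem_C {g z : G} : g ∈ C z ↔ g * z = z * g :=
  mem_centralizer_singleton_iff

omit [Finite G] [IsSimpleGroup G] in
theorem centralizer_zpowers (z : G) : centralizer (zpowers z : Set G) = C z := by
  ext g
  rw [mem_C, mem_centralizer_iff]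
  constructor
  · intro h
    exact (h z (mem_zpowers z)).symm
  · rintro h _ ⟨k, rfl⟩
    exact ((Commute.zpow_right (show Commute g z from h) k).eq).symm

omit [Finite G] [IsSimpleGroup G] in
theorem C_le_N (z : G) : C z ≤ N z := by
  rw [← centralizer_zpowers]
  exact centralizer_le_normalizer _

include hG

omit [Finite G] in
theorem noncomm : ∃ a b : G, a * b ≠ b * a := by
  by_contra h
  push_neg at h
  have : Finite G := Nat.finite_of_card_ne_zero (by omega)
  have := CharInt.card_prime_of_simple_comm h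
  rw [hG] at this
  norm_num at this

theorem center_bot : center G = ⊥ := Blocks.center_eq_bot (noncomm hG)

theorem eq_one_of_central {z : G} (h : z ∈ center G) : z = 1 :=
  mem_bot.1 (center_bot hG ▸ h)

theorem C_ne_top {z : G} (hz : z ≠ 1) : C z ≠ ⊤ := fun h => hz <| eq_one_of_central hG <|
  mem_center_iff.2 fun g => mem_C.1 (h ▸ mem_top g)

omit [IsSimpleGroup G] in
theorem factorization_five : (Nat.card G).factorization 5 = 1 := by
  have h5 : Nat.Prime 5 := by norm_num
  rw [hG, show (7920 : ℕ) = 5 * 1584 by rfl, Nat.factorization_mul (by norm_num) (by norm_num),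
    Finsupp.add_apply, h5.factorization_self, Nat.factorization_eq_zero_of_not_dvd (by norm_num)]

omit [IsSimpleGroup G] in
theorem factorization_eleven : (Nat.card G).factorization 11 = 1 := by
  have h5 : Nat.Prime 11 := by norm_num
  rw [hG, show (7920 : ℕ) = 11 * 720 by rfl, Nat.factorization_mul (by norm_num) (by norm_num),
    Finsupp.add_apply, h5.factorization_self, Nat.factorization_eq_zero_of_not_dvd (by norm_num)]

omit [IsSimpleGroup G] in
theorem exists_sylow {p : ℕ} [Fact p.Prime] (hf : (Nat.card G).factorization p = 1) {z : G}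
    (hz : orderOf z = p) :
    ∃ P : Sylow p G, (P : Subgroup G) = zpowers z ∧ (P : Set G) = (zpowers z : Set G) := by
  obtain ⟨P, hP⟩ := (IsPGroup.of_card (n := 1)
    (show Nat.card (zpowers z) = p ^ 1 by rw [Nat.card_zpowers, hz, pow_one])).exists_le_sylow
  suffices h : (P : Subgroup G) = zpowers z from ⟨P, h, by rw [← h]; rfl⟩
  refine (eq_of_le_of_card_ge hP ?_).symm
  rw [P.card_eq_multiplicity, hf, pow_one, Nat.card_zpowers, hz]

/-- The numerical data of a Sylow subgroup of prime order. -/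
theorem local_data {p : ℕ} [hp : Fact p.Prime] (hf : (Nat.card G).factorization p = 1) {z : G}
    (hz : orderOf z = p) : ∃ e, Nat.card (N z) = Nat.card (C z) * e ∧ e ∣ p - 1 ∧ e ≠ 1 ∧
      p ∣ Nat.card (C z) ∧ Nat.card (N z) ∣ 7920 ∧ 7920 / Nat.card (N z) ≠ 1 ∧
      7920 / Nat.card (N z) % p = 1 := by
  obtain ⟨P, hP, hPs⟩ := exists_sylow hG hf hz
  have hcyc : Nat.card (zpowers z) = p := by rw [Nat.card_zpowers, hz]
  have hnp : ¬ IsPGroup p G := by
    intro h
    obtain ⟨k, hk⟩ := h.exists_card_eq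
    rw [hk, hp.out.factorization_pow, Finsupp.single_eq_same] at hf
    rw [hf, pow_one, hG] at hk
    exact absurd (hk ▸ hp.out) (by norm_num)
  have hne : ¬ N z ≤ C z := by
    have := TwentyTwo.normalizer_not_le_centralizer P
      (by rw [hP, hcyc]; exact hp.out.ne_one) hnp
    rwa [hP, centralizer_zpowers] at this
  refine ⟨(C z).relIndex (N z), ?_, ?_, ?_, ?_, ?_, ?_, ?_⟩
  · have e := relIndex_mul_relIndex (H := ⊥) (K := C z) (L := N z) bot_le (C_le_N z)
    rw [relIndex_bot_left, relIndex_bot_left] at e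
    exact e.symm
  · have := TwentyTwo.relIndex_centralizer_dvd (zpowers z)
    rwa [centralizer_zpowers, hcyc, Nat.totient_prime hp.out] at this
  · rwa [Ne, relIndex_eq_one]
  · have h := _root_.orderOf_dvd_natCard (⟨z, mem_C.2 rfl⟩ : C z)
    rwa [← Subgroup.orderOf_coe, hz] at h
  · exact hG ▸ card_subgroup_dvd_card _
  all_goals
    have hidx : 7920 / Nat.card (N z) = Nat.card (Sylow p G) := by
      rw [P.card_eq_index_normalizer, hPs, ← hG, ← (N z).index_mul_card,
        Nat.mul_div_cancel _ Nat.card_pos]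
    rw [hidx]
  · intro h1
    haveI := (Nat.card_eq_one_iff_unique.mp h1).1
    have hn : (P : Subgroup G).Normal := Sylow.normal_of_subsingleton P
    rcases hn.eq_bot_or_eq_top with h | h
    · rw [hP] at h
      exact hp.out.ne_one (by rw [← hcyc, h, card_bot])
    · exact hnp fun g => (P.2 ⟨g, h ▸ mem_top g⟩).imp fun k hk => congrArg Subtype.val hk
  · have := card_sylow_modEq_one p G
    rwa [Nat.ModEq, Nat.mod_eq_of_lt hp.out.one_lt] at this

omit [IsSimpleGroup G] hG in
/-- Conjugating iteratively. -/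
theorem conj_pow_pow {g z : G} {k : ℕ} (h : g * z * g⁻¹ = z ^ k) (i : ℕ) :
    g ^ i * z * (g ^ i)⁻¹ = z ^ k ^ i := by
  induction i with
  | zero => simp
  | succ i ih =>
    rw [pow_succ', show g * g ^ i * z * (g * g ^ i)⁻¹ = g * (g ^ i * z * (g ^ i)⁻¹) * g⁻¹ by group,
      ih, ← conj_pow, h, ← pow_mul, pow_succ']

omit [IsSimpleGroup G] hG in
theorem exists_pow_of_mem_N {g z : G} (hg : g ∈ N z) : ∃ k < orderOf z, g * z * g⁻¹ = z ^ k := by
  classical
  have h1 : g * z * g⁻¹ ∈ zpowers z := (mem_normalizer_iff.1 hg z).1 (mem_zpowers z)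
  rw [mem_zpowers_iff_mem_range_orderOf, Finset.mem_image] at h1
  obtain ⟨k, hk, hk'⟩ := h1
  exact ⟨k, Finset.mem_range.1 hk, hk'.symm⟩

omit [IsSimpleGroup G] in
/-- An element of order 11 inside the normalizer of another generates the same subgroup. -/
theorem mem_zpowers_of_mem_N {x w : G} (hx : orderOf x = 11) (hw : orderOf w = 11)
    (h : w ∈ N x) : w ∈ zpowers x := by
  haveI : Fact (Nat.Prime 11) := ⟨by norm_num⟩
  obtain ⟨P, hP, hPs⟩ := exists_sylow hG (factorization_eleven hG) hx
  have hq : IsPGroup 11 (zpowers w) :=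
    IsPGroup.of_card (n := 1) (by rw [Nat.card_zpowers, hw, pow_one])
  have := hq.inf_normalizer_sylow P
  rw [hPs, hP, inf_eq_left.2 (zpowers_le.2 h)] at this
  exact inf_eq_left.1 this.symm (mem_zpowers w)

theorem C_eleven_of_twelve {x : G} (hx : orderOf x = 11)
    (h : Nat.card (Sylow 11 G) = 12) : C x ≤ zpowers x := by
  classical
  haveI : Fact (Nat.Prime 11) := ⟨by norm_num⟩
  obtain ⟨P, hP, hPs⟩ := exists_sylow hG (factorization_eleven hG) hx
  obtain ⟨Q, hQ⟩ : ∃ Q : Sylow 11 G, Q ≠ P := by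
    haveI := Fintype.ofFinite (Sylow 11 G)
    rw [Nat.card_eq_fintype_card] at h
    exact Fintype.exists_ne_of_one_lt_card (by omega) P
  have hfix : x • Q ≠ Q := by
    intro hxQ
    rw [Sylow.smul_eq_iff_mem_normalizer] at hxQ
    have hle : zpowers x ≤ (Q : Subgroup G) := by
      have hq : IsPGroup 11 (zpowers x) :=
        IsPGroup.of_card (n := 1) (by rw [Nat.card_zpowers, hx, pow_one])
      have := hq.inf_normalizer_sylow Q
      rw [inf_eq_left.2 (zpowers_le.2 hxQ)] at this
      exact inf_eq_left.1 this.symm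
    exact hQ (Sylow.ext (P.3 Q.2 (by rw [hP]; exact hle)))
  have hper : period x Q = 11 := by
    refine ((Nat.dvd_prime (by norm_num : Nat.Prime 11)).1 ?_).resolve_left
      (fun h1 => hfix (by simpa [h1] using pow_period_smul x Q))
    have := MulAction.period_dvd_orderOf x Q
    rwa [hx] at this
  have hinj : ∀ i j : Fin 11, x ^ (i : ℕ) • Q = x ^ (j : ℕ) • Q → i = j := by
    intro i j hij
    rw [← inv_smul_eq_iff, smul_smul] at hij
    have h2 : (x ^ (((i : ℕ) + (10 * (j : ℕ))) % 11)) • Q = Q := by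
      have hj : (x ^ (j : ℕ))⁻¹ = x ^ (10 * (j : ℕ)) := by
        rw [inv_eq_iff_mul_eq_one, ← pow_add, ← orderOf_dvd_iff_pow_eq_one, hx]
        exact ⟨(j : ℕ), by ring⟩
      rw [← pow_eq_pow_mod _ (show x ^ 11 = 1 by rw [← hx, pow_orderOf_eq_one]), pow_add, ← hj,
        (Commute.refl x).pow_pow _ _ |>.inv_right.eq]
      exact hij
    rw [pow_smul_eq_iff_period_dvd, hper] at h2
    have := Nat.eq_zero_of_dvd_of_lt h2 (Nat.mod_lt _ (by norm_num))
    exact Fin.ext (by omega)
  have hxP : x • P = P := Sylow.smul_eq_iff_mem_normalizer.2 (by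
    rw [hPs]; exact le_normalizer (mem_zpowers x))
  have hxiP : ∀ i : ℕ, x ^ i • P = P := by
    intro i
    induction i with
    | zero => rw [pow_zero, one_smul]
    | succ i ih => rw [pow_succ, mul_smul, hxP, ih]
  let f : Option (Fin 11) → Sylow 11 G := fun o => o.elim P fun i => x ^ (i : ℕ) • Q
  have hf : Function.Injective f := by
    rintro (_ | i) (_ | j) hij
    · rfl
    · exact absurd (by
        have := congrArg ((x ^ (j : ℕ))⁻¹ • ·) hij
        simp only [f, Option.elim, inv_smul_smul] at this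
        rw [inv_smul_eq_iff.2 (hxiP j).symm] at this
        exact this) hQ.symm
    · exact absurd (by
        have := congrArg ((x ^ (i : ℕ))⁻¹ • ·) hij
        simp only [f, Option.elim, inv_smul_smul] at this
        rw [inv_smul_eq_iff.2 (hxiP i).symm] at this
        exact this) hQ
    · exact congrArg some (hinj i j hij)
  have hsurj : Function.Surjective f := by
    haveI := Fintype.ofFinite (Sylow 11 G)
    rw [Nat.card_eq_fintype_card] at h
    exact ((Fintype.bijective_iff_injective_and_card f).2 ⟨hf, by simp [h]⟩).2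
  intro c hc
  have hcx : Commute c x := mem_C.1 hc
  have hcP : c • P = P := Sylow.smul_eq_iff_mem_normalizer.2 (by rw [hPs]; exact C_le_N x hc)
  obtain ⟨o, ho⟩ := hsurj (c • Q)
  rcases o with _ | i
  · exact absurd (show c • Q = c • P by rw [hcP]; exact ho.symm) (fun e => hQ (smul_left_cancel c e))
  · replace ho : x ^ (i : ℕ) • Q = c • Q := ho
    have hker : (x ^ (i : ℕ))⁻¹ * c ∈ (MulAction.toPermHom G (Sylow 11 G)).ker := by
      rw [MonoidHom.mem_ker]
      refine Equiv.ext fun R => ?_
      obtain ⟨o, rfl⟩ := hsurj R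
      rcases o with _ | j
      · show ((x ^ (i : ℕ))⁻¹ * c) • P = P
        rw [mul_smul, hcP, inv_smul_eq_iff, hxiP]
      · show ((x ^ (i : ℕ))⁻¹ * c) • x ^ (j : ℕ) • Q = x ^ (j : ℕ) • Q
        rw [← mul_smul, mul_assoc, (hcx.pow_right _).eq, ← mul_assoc,
          (Commute.pow_pow (Commute.refl x) _ _).inv_left.eq, mul_assoc, mul_smul]
        rw [mul_smul, ← ho, inv_smul_smul]
    rcases (MonoidHom.normal_ker (MulAction.toPermHom G (Sylow 11 G))).eq_bot_or_eq_top with
      hb | ht
    · rw [hb, mem_bot, inv_mul_eq_one] at hker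
      exact hker ▸ pow_mem (mem_zpowers x) _
    · exfalso
      have : x ∈ (MulAction.toPermHom G (Sylow 11 G)).ker := ht ▸ mem_top x
      exact hfix (by simpa using Equiv.ext_iff.1 (MonoidHom.mem_ker.1 this) Q)

/-- The case of 45 Sylow 11-subgroups does not occur. -/
theorem not_forty_five {x : G} (hx : orderOf x = 11) (hN : Nat.card (N x) = 176)
    (hC : Nat.card (C x) = 88) : False := by
  classical
  haveI : Fact (Nat.Prime 2) := ⟨Nat.prime_two⟩
  haveI : Fact (Nat.Prime 11) := ⟨by norm_num⟩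
  -- a Sylow 2-subgroup of the normalizer
  obtain ⟨S', hS'⟩ := Sylow.exists_subgroup_card_pow_prime 2 (n := 4)
    (G := N x) (by rw [hN]; norm_num)
  set S : Subgroup G := S'.map (N x).subtype with hSdef
  have hS : Nat.card S = 16 := by
    rw [hSdef, card_map_of_injective (N x).subtype_injective, hS']; norm_num
  have hSN : S ≤ N x := map_subtype_le S'
  have hSp : IsPGroup 2 S := IsPGroup.of_card (n := 4) (by rw [hS]; norm_num)
  let R : Subgroup S := (C x).subgroupOf S
  haveI hRn : R.Normal := ⟨fun c hc s => by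
    rw [mem_subgroupOf, mem_C] at hc ⊢
    obtain ⟨k, -, hk⟩ := exists_pow_of_mem_N (inv_mem (hSN s.2))
    rw [inv_inv] at hk
    have hx' : (s : G) * x ^ k * (s : G)⁻¹ = x := by rw [← hk]; group
    have hck : Commute (c : G) (x ^ k) := Commute.pow_right hc k
    calc (((s * c * s⁻¹ : S) : G)) * x
        = (s : G) * c * (s : G)⁻¹ * ((s : G) * x ^ k * (s : G)⁻¹) := by rw [hx']; simp
      _ = (s : G) * ((c : G) * x ^ k) * (s : G)⁻¹ := by group
      _ = (s : G) * x ^ k * (s : G)⁻¹ * ((s : G) * c * (s : G)⁻¹) := by rw [hck.eq]; group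
      _ = x * (((s * c * s⁻¹ : S) : G)) := by rw [hx']; simp⟩
  have hR : R ≠ ⊥ := by
    intro hb
    have h1 : (C x).relIndex S = 16 := by
      show R.index = 16
      rw [hb, index_bot, hS]
    have h2 : (C x).relIndex S ≤ (C x).relIndex (N x) := by
      refine relIndex_le_of_le_right hSN ?_
      have h3 := relIndex_mul_relIndex (H := ⊥) (K := C x) (L := N x) bot_le (C_le_N x)
      rw [relIndex_bot_left, relIndex_bot_left, hC, hN] at h3
      omega
    have h3 := relIndex_mul_relIndex (H := ⊥) (K := C x) (L := N x) bot_le (C_le_N x)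
    rw [relIndex_bot_left, relIndex_bot_left, hC, hN] at h3
    omega
  -- a central involution of S centralising x
  have hint : R ⊓ center S ≠ ⊥ := PGroup.inf_center_ne_bot hSp R hR
  obtain ⟨a', ha'o⟩ : ∃ a : (R ⊓ center S : Subgroup S), orderOf a = 2 := by
    apply exists_prime_orderOf_dvd_card'
    obtain ⟨k, hk⟩ := (hSp.to_subgroup (R ⊓ center S)).exists_card_eq
    rcases k with _ | k
    · exact absurd (eq_bot_of_card_eq _ (by simpa using hk)) hint
    · rw [hk]; exact dvd_pow_self 2 (by omega)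
  set a : G := ((a' : S) : G) with hadef
  have hao : orderOf a = 2 := by rw [hadef, Subgroup.orderOf_coe, Subgroup.orderOf_coe, ha'o]
  have hax : a * x = x * a := mem_C.1 a'.2.1
  have ha1 : a ≠ 1 := fun h => by rw [h, orderOf_one] at hao; omega
  have hxa : x ∈ C a := mem_C.2 hax.symm
  have hSa : S ≤ C a := fun s hs => mem_C.2 (by
    have := congrArg Subtype.val (mem_center_iff.1 a'.2.2 ⟨s, hs⟩)
    simpa [hadef] using this)
  have hxN : x ∈ N x := le_normalizer (mem_zpowers x)
  have hNa : N x ≤ C a := by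
    have h1 : 16 ∣ Nat.card (N x ⊓ C a : Subgroup G) := hS ▸ card_dvd_of_le (le_inf hSN hSa)
    have h2 : 11 ∣ Nat.card (N x ⊓ C a : Subgroup G) := by
      rw [← hx, ← Nat.card_zpowers]
      exact card_dvd_of_le (zpowers_le.2 ⟨hxN, hxa⟩)
    have h3 : 176 ∣ Nat.card (N x ⊓ C a : Subgroup G) :=
      (show Nat.Coprime 16 11 by norm_num).mul_dvd_of_dvd_of_dvd h1 h2
    have := eq_of_le_of_card_ge (inf_le_left : N x ⊓ C a ≤ N x)
      (hN ▸ Nat.le_of_dvd Nat.card_pos h3)
    exact this ▸ inf_le_right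
  -- its centralizer is exactly the normalizer
  have hCa : C a = N x := by
    refine (eq_of_le_of_card_ge hNa ?_).symm
    have hd : Nat.card (C a) ∣ 7920 := hG ▸ card_subgroup_dvd_card _
    have hn : Nat.card (N x) ∣ Nat.card (C a) := card_dvd_of_le hNa
    obtain ⟨Pc, hPc⟩ : ∃ Pc : Sylow 11 (C a), (Pc : Subgroup (C a)) =
        (zpowers x).subgroupOf (C a) := by
      obtain ⟨P, hP, hPs⟩ := exists_sylow hG (factorization_eleven hG) hx
      have hle : (P : Subgroup G) ≤ C a := hP ▸ zpowers_le.2 hxa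
      exact ⟨P.subtype hle, by rw [Sylow.coe_subtype, hP]⟩
    have hPcs : (Pc : Set (C a)) = ((zpowers x).subgroupOf (C a) : Set (C a)) := by
      rw [← hPc]; rfl
    have hnorm : normalizer ((zpowers x).subgroupOf (C a) : Set (C a)) = (N x).subgroupOf (C a) := by
      ext g
      simp only [mem_normalizer_iff, mem_subgroupOf]
      constructor
      · intro h y
        constructor
        · intro hy
          simpa using (h ⟨y, zpowers_le.2 hxa hy⟩).1 (by simpa using hy)
        · intro hy
          have hyC : y ∈ C a := by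
            have := mul_mem (mul_mem (inv_mem g.2) (zpowers_le.2 hxa hy)) g.2
            simpa [mul_assoc] using this
          exact (h ⟨y, hyC⟩).2 (by simpa using hy)
      · intro h y
        simpa using h (y : G)
    have hm := card_sylow_modEq_one 11 (C a)
    rw [Pc.card_eq_index_normalizer, hPcs, hnorm] at hm
    have hm' : (N x).relIndex (C a) % 11 = 1 := hm
    have e := relIndex_mul_relIndex (H := ⊥) (K := N x) (L := C a) bot_le hNa
    rw [relIndex_bot_left, relIndex_bot_left, hN] at e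
    rw [hN]
    obtain ⟨m, hm1⟩ : ∃ m, 45 = (N x).relIndex (C a) * m := by
      rw [← e] at hd
      have : (N x).relIndex (C a) ∣ 45 := Nat.dvd_of_mul_dvd_mul_left (by norm_num : 0 < 176) hd
      exact this
    have hle : (N x).relIndex (C a) ≤ 45 := Nat.le_of_dvd (by norm_num) ⟨m, hm1⟩
    rcases Nat.lt_or_ge ((N x).relIndex (C a)) 2 with h2 | h2
    · rw [← e]; omega
    · exfalso
      have key : ∀ m < 46, m ∣ 45 → 2 ≤ m → m % 11 = 1 → m = 45 := by decide
      have h45 := key _ (by omega) ⟨m, hm1⟩ h2 hm'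
      rw [h45] at e
      exact C_ne_top hG ha1 (eq_top_of_card_eq _ (by rw [hG]; omega))
  -- the involution is not isolated
  have ha2 : a * a = 1 := by
    rw [← pow_two, ← hao, pow_orderOf_eq_one]
  obtain ⟨g0, hg0c, hg0ne⟩ : ∃ g : G, Commute a (g * a * g⁻¹) ∧ g * a * g⁻¹ ≠ a := by
    by_contra h
    push_neg at h
    have hz : IsIsolatedInvolution a := ⟨hao, h⟩
    have hO : oddCore G = ⊥ := by
      rcases (inferInstance : (oddCore G).Normal).eq_bot_or_eq_top with h' | h'
      · exact h'
      · exfalso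
        have := PCore.odd_card_oddCore (G := G)
        rw [h', card_top, hG] at this
        exact absurd this (by decide)
    exact ha1 (eq_one_of_central hG (ZStar.mem_center_of_oddCore_eq_bot (ZStar.inZStar hz) hO))
  set b := g0 * a * g0⁻¹ with hb
  have hbN : b ∈ N x := hCa ▸ mem_C.2 hg0c.eq.symm
  have hb2 : b * b = 1 := by rw [hb, conj_mul, ha2, mul_one, mul_inv_cancel]
  have hbinv : b⁻¹ = b := inv_eq_of_mul_eq_one_right hb2
  obtain ⟨k, hk11, hk⟩ := exists_pow_of_mem_N hbN
  rw [hx] at hk11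
  have hbx : b * x * b⁻¹ = x⁻¹ := by
    have h2 := conj_pow_pow hk 2
    rw [pow_two b, hb2, inv_one, one_mul, mul_one] at h2
    have h2' : x ^ 1 = x ^ k ^ 2 := by rw [pow_one]; exact h2
    rw [pow_eq_pow_iff_modEq, hx] at h2'
    have key : ∀ k < 11, 1 ≡ k ^ 2 [MOD 11] → k = 1 ∨ k = 10 := by decide
    rcases key k hk11 h2' with rfl | rfl
    · exfalso
      rw [pow_one, mul_inv_eq_iff_eq_mul] at hk
      -- x centralises b, so lies in a conjugate normalizer
      have hg : g0⁻¹ * x * g0 ∈ C a := mem_C.2 (by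
        calc g0⁻¹ * x * g0 * a = g0⁻¹ * (x * b) * g0 := by rw [hb]; group
          _ = g0⁻¹ * (b * x) * g0 := by rw [hk]
          _ = a * (g0⁻¹ * x * g0) := by rw [hb]; group)
      rw [hCa] at hg
      have ho : orderOf (g0⁻¹ * x * g0) = 11 := by
        rw [← hx]
        exact (orderOf_injective (MulAut.conj g0⁻¹).toMonoidHom (MulAut.conj g0⁻¹).injective x
          ).symm ▸ (by simp)
      have hmem := mem_zpowers_of_mem_N hG hx ho hg
      have hgN : g0⁻¹ ∈ N x := by
        haveI : Fact (Nat.Prime 11) := ⟨by norm_num⟩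
        refine mem_normalizer_iff.2 fun y => ?_
        have hle : ∀ y ∈ zpowers x, g0⁻¹ * y * g0⁻¹⁻¹ ∈ zpowers x := by
          rintro _ ⟨m, rfl⟩
          simp only [inv_inv]
          rw [show g0⁻¹ * x ^ m * g0 = (g0⁻¹ * x * g0) ^ m by
            rw [show g0⁻¹ * x * g0 = g0⁻¹ * x * g0⁻¹⁻¹ by rw [inv_inv], conj_zpow, inv_inv]]
          exact zpow_mem hmem m
        refine ⟨hle y, fun hy => ?_⟩
        have hmap : (zpowers x).map (MulAut.conj g0⁻¹).toMonoidHom = zpowers x := by
          refine eq_of_le_of_card_ge ?_ (le_of_eq ?_)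
          · rintro _ ⟨z, hz, rfl⟩
            simpa using hle z hz
          · rw [card_map_of_injective (MulAut.conj g0⁻¹).injective]
        obtain ⟨z, hz, hz'⟩ := hmap.symm ▸ hy
        have : z = y := by simpa using hz'
        exact this ▸ hz
      have : g0 ∈ C a := hCa ▸ inv_mem_iff.1 hgN
      exact hg0ne (by rw [hb, mem_C.1 this, mul_inv_cancel_right])
    · rw [hk, eq_inv_iff_mul_eq_one, ← pow_succ, show (10 + 1 : ℕ) = orderOf x by omega,
        pow_orderOf_eq_one]
  -- too many pairs of conjugates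
  have hK : Nat.card {y : G // IsConj a y} = 45 := by
    have := Char.card_centralizer_mul_card_conj a
    rw [show centralizer ({a} : Set G) = N x from hCa, hN, hG] at this
    omega
  have hidx : Nat.card (G ⧸ N x) = 45 := by
    have := (N x).index_mul_card
    rw [hN, hG] at this
    show (N x).index = 45
    omega
  have hbconj : ∀ i : ℕ, IsConj a (b * x ^ i) := by
    intro i
    have hinv : b * (x ^ (5 * i))⁻¹ * b⁻¹ = x ^ (5 * i) := by
      rw [← inv_pow, ← conj_pow, ← hbx]
      rw [show b * (b * x * b⁻¹) * b⁻¹ = (b * b) * x * (b * b)⁻¹ by group, hb2]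
      simp
    have hmove : x ^ (5 * i) * b = b * (x ^ (5 * i))⁻¹ := by
      conv_lhs => rw [← hinv]
      group
    have : x ^ (5 * i) * b * (x ^ (5 * i))⁻¹ = b * x ^ i := by
      rw [hmove, mul_assoc, ← mul_inv_rev, ← pow_add]
      congr 1
      rw [inv_eq_iff_mul_eq_one, ← pow_add, ← orderOf_dvd_iff_pow_eq_one, hx]
      exact ⟨i, by ring⟩
    exact (isConj_iff.2 ⟨g0, rfl⟩).trans (isConj_iff.2 ⟨x ^ (5 * i), this⟩)
  let Φ : (G ⧸ N x) × Fin 10 × Fin 11 → {y : G // IsConj a y} × {y : G // IsConj a y} :=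
    fun t => (⟨t.1.out * (b * x ^ (t.2.2 : ℕ)) * t.1.out⁻¹,
        (hbconj _).trans (isConj_iff.2 ⟨_, rfl⟩)⟩,
      ⟨t.1.out * (b * x ^ ((t.2.2 : ℕ) + ((t.2.1 : ℕ) + 1))) * t.1.out⁻¹,
        (hbconj _).trans (isConj_iff.2 ⟨_, rfl⟩)⟩)
  have hΦ : Function.Injective Φ := by
    have hprod : ∀ (g : G) (i j : ℕ), g * (b * x ^ i) * g⁻¹ * (g * (b * x ^ (i + j)) * g⁻¹) =
        g * x ^ j * g⁻¹ := by
      intro g i j
      have h1 : b * x ^ i * b = (x ^ i)⁻¹ := by
        nth_rewrite 2 [← hbinv]
        rw [← conj_pow, hbx, inv_pow]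
      calc g * (b * x ^ i) * g⁻¹ * (g * (b * x ^ (i + j)) * g⁻¹)
          = g * ((b * x ^ i * b) * x ^ (i + j)) * g⁻¹ := by group
        _ = g * x ^ j * g⁻¹ := by rw [h1, pow_add, inv_mul_cancel_left]
    rintro ⟨q, j, i⟩ ⟨q', j', i'⟩ h
    simp only [Φ, Prod.mk.injEq, Subtype.mk.injEq] at h
    obtain ⟨h1, h2⟩ := h
    have hp := hprod q.out i ((j : ℕ) + 1)
    rw [h1, h2, hprod] at hp
    have hq : q = q' := by
      rw [← q.out_eq, ← q'.out_eq]
      refine QuotientGroup.eq.2 ?_
      set g := q'.out⁻¹ * q.out with hg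
      have h3 : g * x ^ ((j : ℕ) + 1) * g⁻¹ = x ^ ((j' : ℕ) + 1) := by
        calc g * x ^ ((j : ℕ) + 1) * g⁻¹
            = q'.out⁻¹ * (q.out * x ^ ((j : ℕ) + 1) * q.out⁻¹) * q'.out := by rw [hg]; group
          _ = x ^ ((j' : ℕ) + 1) := by rw [← hp]; group
      obtain ⟨m, hm⟩ : ∃ m, (x ^ ((j : ℕ) + 1)) ^ m = x := by
        refine exists_pow_eq_self_of_coprime ?_
        rw [hx, Nat.coprime_comm, Nat.Prime.coprime_iff_not_dvd (by norm_num)]
        exact fun hd => absurd (Nat.le_of_dvd (by omega) hd) (by omega)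
      have hgx : g * x * g⁻¹ ∈ zpowers x := by
        have h4 : (g * x ^ ((j : ℕ) + 1) * g⁻¹) ^ m = (x ^ ((j' : ℕ) + 1)) ^ m := by rw [h3]
        rw [conj_pow, hm] at h4
        rw [h4, ← pow_mul]
        exact pow_mem (mem_zpowers x) _
      have hgN : g ∈ N x := by
        have hmap : (zpowers x).map (MulAut.conj g).toMonoidHom = zpowers x := by
          refine eq_of_le_of_card_ge ?_ (le_of_eq ?_)
          · rw [MonoidHom.map_zpowers]
            exact zpowers_le.2 hgx
          · rw [card_map_of_injective (MulAut.conj g).injective]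
        refine mem_normalizer_iff.2 fun y => ⟨fun hy => hmap ▸ ⟨y, hy, rfl⟩, fun hy => ?_⟩
        obtain ⟨z, hz, hz'⟩ := hmap.symm ▸ hy
        have : z = y := by simpa using hz'
        exact this ▸ hz
      have := inv_mem hgN
      rwa [hg, mul_inv_rev, inv_inv] at this
    subst hq
    have hj : j = j' := by
      have := mul_left_cancel (mul_right_cancel hp)
      rw [pow_eq_pow_iff_modEq, hx] at this
      have := j.2; have := j'.2
      exact Fin.ext (by unfold Nat.ModEq at *; omega)
    have hi : i = i' := by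
      have := mul_left_cancel (mul_left_cancel (mul_right_cancel h1))
      rw [pow_eq_pow_iff_modEq, hx] at this
      have := i.2; have := i'.2
      exact Fin.ext (by unfold Nat.ModEq at *; omega)
    rw [hj, hi]
  have := Nat.card_le_card_of_injective Φ hΦ
  rw [Nat.card_prod, Nat.card_prod, Nat.card_prod, hK, hidx] at this
  simp at this

/-- Elements of order 11 are self-centralising with normaliser of order 55. -/
theorem eleven {x : G} (hx : orderOf x = 11) :
    Nat.card (C x) = 11 ∧ Nat.card (N x) = 55 := by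
  haveI : Fact (Nat.Prime 11) := ⟨by norm_num⟩
  obtain ⟨e, hN, he, he1, hc, hd, hn1, hmod⟩ :=
    local_data hG (factorization_eleven hG) hx
  set n := Nat.card (N x)
  set c := Nat.card (C x)
  obtain ⟨i, hi⟩ := hd
  have hn0 : 0 < n := Nat.card_pos
  have hin : 7920 / n = i := by rw [hi, Nat.mul_div_cancel_left _ hn0]
  rw [hin] at hn1 hmod
  have hi720 : i ∣ 720 := by
    have : 11 * i ∣ 11 * 720 := by
      rw [show 11 * 720 = n * i from hi]
      exact Nat.mul_dvd_mul_right (hc.trans ⟨e, hN⟩) i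
    exact Nat.dvd_of_mul_dvd_mul_left (by norm_num) this
  have key : ∀ i < 721, i % 11 = 1 → i ∣ 720 → i ≠ 1 → i = 12 ∨ i = 45 ∨ i = 144 := by decide +kernel
  have hen : e ≤ 10 := Nat.le_of_dvd (by norm_num) he
  rcases key i (Nat.lt_succ_of_le (Nat.le_of_dvd (by norm_num) hi720)) hmod hi720 hn1 with
    rfl | rfl | rfl
  · exfalso
    have hcard : Nat.card (Sylow 11 G) = 12 := by
      obtain ⟨P, hP, hPs⟩ := exists_sylow hG (factorization_eleven hG) hx
      rw [P.card_eq_index_normalizer, hPs]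
      have h2 := (N x).index_mul_card
      rw [hG] at h2
      change (N x).index * n = 7920 at h2
      have h3 : n = 660 := by omega
      have h4 : Nat.card (N x) = 660 := h3
      rw [show n = 660 from h3] at h2
      change (N x).index = 12
      omega
    have h1 : c ≤ 11 := by
      have := card_le_of_le (C_eleven_of_twelve hG hx hcard)
      rwa [Nat.card_zpowers, hx] at this
    nlinarith
  · exfalso
    have h3 : n = 176 := by omega
    have hd2 : e ∣ 2 := by
      have h1 : e ∣ 176 := h3 ▸ ⟨c, hN.trans (mul_comm _ _)⟩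
      exact (Nat.dvd_gcd h1 he).trans (by norm_num)
    have : e = 2 := ((Nat.dvd_prime Nat.prime_two).1 hd2).resolve_left he1
    subst this
    exact not_forty_five hG hx h3 (by omega)
  · have h3 : n = 55 := by omega
    have hd2 : e ∣ 5 := by
      have h1 : e ∣ 55 := h3 ▸ ⟨c, hN.trans (mul_comm _ _)⟩
      exact (Nat.dvd_gcd h1 he).trans (by norm_num)
    have : e = 5 := ((Nat.dvd_prime (by norm_num : Nat.Prime 5)).1 hd2).resolve_left he1
    subst this
    exact ⟨by omega, h3⟩

theorem five_dvd_conj {x : G} (hx : orderOf x = 11) :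
    ∀ h, h = 1 ∨ h = 3 ∨ h = 4 ∨ h = 5 ∨ h = 9 → IsConj x (x ^ h) := by
  haveI : Fact (Nat.Prime 5) := ⟨by norm_num⟩
  obtain ⟨hC, hN⟩ := eleven hG hx
  obtain ⟨g, hg⟩ := exists_prime_orderOf_dvd_card' (G := N x) 5 (by rw [hN]; norm_num)
  obtain ⟨k, hk11, hk⟩ := exists_pow_of_mem_N g.2
  rw [hx] at hk11
  have hgo : orderOf (g : G) = 5 := by rw [Subgroup.orderOf_coe, hg]
  have h5 := conj_pow_pow hk 5
  rw [← hgo, pow_orderOf_eq_one, inv_one, one_mul, mul_one, hgo] at h5
  have h5' : x ^ 1 = x ^ k ^ 5 := by rw [pow_one]; exact h5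
  rw [pow_eq_pow_iff_modEq, hx] at h5'
  have hk1 : k ≠ 1 := by
    rintro rfl
    rw [pow_one, mul_inv_eq_iff_eq_mul] at hk
    have hd : orderOf (g : G) ∣ Nat.card (C x) := by
      rw [show (g : G) = ((⟨g, mem_C.2 hk⟩ : C x) : G) from rfl, Subgroup.orderOf_coe]
      exact orderOf_dvd_natCard _
    rw [hgo, hC] at hd
    norm_num at hd
  have key : ∀ k < 11, k ≠ 1 → 1 ≡ k ^ 5 [MOD 11] → k = 3 ∨ k = 4 ∨ k = 5 ∨ k = 9 := by decide
  have hmem : ∀ h i, k ^ i ≡ h [MOD 11] → IsConj x (x ^ h) := fun h i hi =>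
    isConj_iff.2 ⟨(g : G) ^ i, (conj_pow_pow hk i).trans (pow_eq_pow_iff_modEq.2 (hx.symm ▸ hi))⟩
  intro h hh
  rcases key k hk11 hk1 h5' with rfl | rfl | rfl | rfl <;>
    rcases hh with rfl | rfl | rfl | rfl | rfl <;>
    first
      | exact hmem _ 0 (by decide)
      | exact hmem _ 1 (by decide)
      | exact hmem _ 2 (by decide)
      | exact hmem _ 3 (by decide)
      | exact hmem _ 4 (by decide)

theorem not_isConj_inv {x : G} (hx : orderOf x = 11) : ¬ IsConj x x⁻¹ := by
  intro h
  obtain ⟨g, hg⟩ := isConj_iff.1 h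
  have hgN : g ∈ N x := by
    refine mem_normalizer_iff.2 fun y => ?_
    have hmap : (zpowers x).map (MulAut.conj g).toMonoidHom = zpowers x := by
      rw [MonoidHom.map_zpowers]
      show zpowers (g * x * g⁻¹) = _
      rw [hg, zpowers_inv]
    refine ⟨fun hy => hmap ▸ ⟨y, hy, rfl⟩, fun hy => ?_⟩
    obtain ⟨z, hz, hz'⟩ := hmap.symm ▸ hy
    have : z = y := by simpa using hz'
    exact this ▸ hz
  have h55 : g ^ 55 = 1 := by
    have := pow_card_eq_one' (x := (⟨g, hgN⟩ : N x))
    rw [(eleven hG hx).2] at this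
    simpa using congrArg Subtype.val this
  have hk : g * x * g⁻¹ = x ^ 10 := by
    rw [hg, inv_eq_iff_mul_eq_one, ← pow_succ', show (10 + 1 : ℕ) = orderOf x by omega,
      pow_orderOf_eq_one]
  have h1 := conj_pow_pow hk 55
  rw [h55, inv_one, one_mul, mul_one] at h1
  have h1' : x ^ 1 = x ^ 10 ^ 55 := by rw [pow_one]; exact h1
  rw [pow_eq_pow_iff_modEq, hx] at h1'
  revert h1'
  decide +kernel

end Cfsg.Agent.Order7920
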