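import Cfsg.Agent.Lib.Order7920.Values
import Cfsg.Agent.Lib.Blocks.PrimePowerDegree

/-!
# Elements of order 5 in a simple group of order 7920 with a character of degree 10
-/

namespace Cfsg.Agent.Order7920

open Subgroup

set_option linter.style.haveILetI false

variable {G : Type*} [Group G] [Finite G] [IsSimpleGroup G] (hG : Nat.card G = 7920)
include hG

/-- A character of degree 10 forbids involutions centralising an element of order 5. -/
theorem odd_C_five (χ : Cfsg.IrrCharacter G) (hχ : Char.degree χ = 10) {y : G}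
    (hy : orderOf y = 5) : ¬ 2 ∣ Nat.card (C y) := by
  classical
  haveI : Fact (Nat.Prime 5) := ⟨by norm_num⟩
  haveI : Fact (Nat.Prime 2) := ⟨Nat.prime_two⟩
  intro h2
  obtain ⟨a', ha'⟩ := exists_prime_orderOf_dvd_card' (G := C y) 2 h2
  set a : G := (a' : G) with hadef
  have hao : orderOf a = 2 := by rw [hadef, Subgroup.orderOf_coe, ha']
  have hc : Commute y a := (mem_C.1 a'.2).symm
  set z := y * a with hzdef
  have hz : orderOf z = 10 := by
    rw [hzdef, hc.orderOf_mul_eq_mul_orderOf_of_coprime (by rw [hy, hao]; norm_num), hy, hao]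
  obtain ⟨n, μ, hn, hμ, hval⟩ := CharInt.exists_roots (Char.irr_isCharacter χ) z
  obtain ⟨M, hM⟩ := CharInt.exists_isPModular_of_prime (q := 5) (by norm_num)
  haveI := hM.2.1
  have hf : (Char.degree χ).factorization 5 = (Nat.card G).factorization 5 := by
    rw [factorization_five hG, hχ, show (10 : ℕ) = 5 * 2 by rfl,
      Nat.factorization_mul (by norm_num) (by norm_num), Finsupp.add_apply,
      (by norm_num : Nat.Prime 5).factorization_self,
      Nat.factorization_eq_zero_of_not_dvd (by norm_num)]
  have hvan : ∀ i < 10, i ≠ 0 → i ≠ 5 → χ.1 (z ^ i) = 0 := by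
    intro i hi hi0 hi5
    refine Blocks.apply_eq_zero_of_defect_zero hM.2.2 χ hf fun hreg => hreg ?_
    rw [orderOf_pow' _ hi0, hz]
    revert hi0 hi5
    interval_cases i <;> norm_num
  have hz5 : z ^ 5 = a := by
    rw [hzdef, hc.mul_pow, show y ^ 5 = 1 by rw [← hy, pow_orderOf_eq_one], one_mul,
      show a ^ 5 = a ^ 2 * a ^ 2 * a by group, show a ^ 2 = 1 by rw [← hao, pow_orderOf_eq_one]]
    simp
  obtain ⟨m, hev, hm0, hmlt, hma⟩ :=
    involution_value (noncomm hG) χ (fun h => by
      have := Char.apply_one_eq_degree χ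
      rw [hχ, h, Char.trivialChar_apply] at this
      norm_num at this) hao
  set k := (Finset.univ.filter fun i => μ i = 1).card
  have hsum : ∀ i, ∑ j ∈ Finset.range 10, μ i ^ j = if μ i = 1 then 10 else 0 := by
    intro i
    by_cases h : μ i = 1
    · simp [h]
    · rw [if_neg h, geom_sum_eq h, show μ i ^ 10 = 1 by rw [← hz]; exact hμ i, sub_self, zero_div]
  have h1 : ∑ j ∈ Finset.range 10, χ.1 (z ^ j) = 10 * (k : ℂ) := by
    simp only [hval]
    rw [Finset.sum_comm, Finset.sum_congr rfl fun i _ => hsum i, ← Finset.sum_filter,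
      Finset.sum_const, nsmul_eq_mul, mul_comm]
  have h2' : ∑ j ∈ Finset.range 10, χ.1 (z ^ j) = 10 + ((10 : ℂ) - 2 * m) := by
    rw [Finset.sum_range_succ, Finset.sum_range_succ, Finset.sum_range_succ, Finset.sum_range_succ,
      Finset.sum_range_succ, Finset.sum_range_succ, Finset.sum_range_succ, Finset.sum_range_succ,
      Finset.sum_range_succ, Finset.sum_range_succ, Finset.sum_range_zero,
      hvan 1 (by norm_num) (by norm_num) (by norm_num),
      hvan 2 (by norm_num) (by norm_num) (by norm_num),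
      hvan 3 (by norm_num) (by norm_num) (by norm_num),
      hvan 4 (by norm_num) (by norm_num) (by norm_num),
      hvan 6 (by norm_num) (by norm_num) (by norm_num),
      hvan 7 (by norm_num) (by norm_num) (by norm_num),
      hvan 8 (by norm_num) (by norm_num) (by norm_num),
      hvan 9 (by norm_num) (by norm_num) (by norm_num),
      pow_zero, hz5, hma, Char.apply_one_eq_degree, hχ]
    push_cast
    ring
  rw [h1] at h2'
  have h3 : ((10 * k + 2 * m : ℕ) : ℂ) = ((20 : ℕ) : ℂ) := by
    push_cast
    linear_combination h2'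
  have h4 : 10 * k + 2 * m = 20 := by exact_mod_cast h3
  rw [hχ] at hmlt
  obtain ⟨r, rfl⟩ := hev
  omega

/-- With an odd centralizer, an element of order 5 is self-centralising and conjugate to its
powers. -/
theorem five {y : G} (hy : orderOf y = 5) (hodd : ¬ 2 ∣ Nat.card (C y)) :
    Nat.card (C y) = 5 ∧ ∀ k, k = 1 ∨ k = 2 ∨ k = 3 ∨ k = 4 → IsConj y (y ^ k) := by
  classical
  haveI : Fact (Nat.Prime 5) := ⟨by norm_num⟩
  haveI : Fact (Nat.Prime 11) := ⟨by norm_num⟩
  obtain ⟨e, hN, he, he1, hc5, hd, -, hmod⟩ := local_data hG (factorization_five hG) hy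
  have hc : Nat.card (C y) ∣ 7920 := hG ▸ card_subgroup_dvd_card _
  have h11 : ¬ 11 ∣ Nat.card (C y) := by
    intro h
    obtain ⟨x', hx'⟩ := exists_prime_orderOf_dvd_card' (G := C y) 11 h
    have hxo : orderOf (x' : G) = 11 := by rw [Subgroup.orderOf_coe, hx']
    have hmem : y ∈ C (x' : G) := mem_C.2 (mem_C.1 x'.2).symm
    have := _root_.orderOf_dvd_natCard (⟨y, hmem⟩ : C (x' : G))
    rw [← Subgroup.orderOf_coe, (eleven hG hxo).1] at this
    change orderOf y ∣ 11 at this
    rw [hy] at this
    norm_num at this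
  have key : Nat.card (C y) = 5 ∧ e = 4 := by
    set c := Nat.card (C y)
    have hc' : c ∣ 45 := by
      have h2 : Nat.Coprime c 16 := by
        rw [show (16 : ℕ) = 2 ^ 4 by rfl]
        exact Nat.Coprime.pow_right 4 ((Nat.prime_two.coprime_iff_not_dvd.2 hodd).symm)
      have h1 : Nat.Coprime c 11 := ((by norm_num : Nat.Prime 11).coprime_iff_not_dvd.2 h11).symm
      rw [show (7920 : ℕ) = 45 * (16 * 11) by rfl] at hc
      exact (h2.mul_right h1).dvd_of_dvd_mul_right hc
    have hcs : c = 5 ∨ c = 15 ∨ c = 45 := by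
      have key : ∀ c < 46, c ∣ 45 → 5 ∣ c → c = 5 ∨ c = 15 ∨ c = 45 := by decide
      exact key c (Nat.lt_succ_of_le (Nat.le_of_dvd (by norm_num) hc')) hc' hc5
    have hes : e = 2 ∨ e = 4 := by
      have key : ∀ e < 5, e ∣ 4 → e ≠ 1 → e = 2 ∨ e = 4 := by decide
      exact key e (Nat.lt_succ_of_le (Nat.le_of_dvd (by norm_num) he)) he he1
    rw [hN] at hmod
    rcases hcs with h | h | h <;> rcases hes with h' | h' <;> rw [h, h'] at hmod <;>
      first
        | exact ⟨h, h'⟩
        | (exfalso; norm_num at hmod)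
  refine ⟨key.1, fun k hk => ?_⟩
  have hcard : Nat.card (zpowers y) = 5 := by rw [Nat.card_zpowers, hy]
  haveI : IsCyclic (zpowers y) := inferInstance
  have hrel : (C y).relIndex (N y) = 4 := by
    have e' := relIndex_mul_relIndex (H := ⊥) (K := C y) (L := N y) bot_le (C_le_N y)
    rw [relIndex_bot_left, relIndex_bot_left, hN, key.1, key.2] at e'
    omega
  have htop : (zpowers y).normalizerMonoidHom.range = ⊤ := by
    refine eq_top_of_card_eq _ ?_
    rw [IsCyclic.card_mulAut, hcard, Nat.totient_prime (by norm_num), ← Subgroup.index_ker,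
      Subgroup.normalizerMonoidHom_ker, centralizer_zpowers]
    exact hrel
  have hcop : (Nat.card (zpowers y)).Coprime k := by
    rw [hcard]
    rcases hk with rfl | rfl | rfl | rfl <;> norm_num
  let φ : MulAut (zpowers y) :=
    { powCoprime hcop with
      map_mul' := fun a b => Commute.mul_pow (Subtype.ext (by
        obtain ⟨i, hi⟩ := a.2
        obtain ⟨j, hj⟩ := b.2
        show (a : G) * b = b * a
        rw [← hi, ← hj]
        exact (Commute.refl y).zpow_zpow i j)) k }
  obtain ⟨g, hg⟩ : φ ∈ (zpowers y).normalizerMonoidHom.range := htop ▸ mem_top φ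
  refine isConj_iff.2 ⟨g, ?_⟩
  exact congrArg Subtype.val (DFunLike.congr_fun hg ⟨y, mem_zpowers y⟩)

end Cfsg.Agent.Order7920
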