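import Cfsg.Agent.Lib.Order7920.Involutions

/-!
# The graph on the 55 Sylow 3-subgroups of a simple group of order 7920

Two Sylow 3-subgroups are adjacent when an involution inverts both.  The neighbourhood of a vertex
`P` is two `P`-orbits of length 9, each a clique, joined by a matching.
-/

namespace Cfsg.Agent.Order7920

open Subgroup MulAction

set_option linter.style.haveILetI false

variable {G : Type*} [Group G]

/-- Two Sylow 3-subgroups inverted by a common involution. -/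
def Adj (P Q : Sylow 3 G) : Prop := P ≠ Q ∧ ∃ t, Inverts t P ∧ Inverts t Q

theorem Adj.symm {P Q : Sylow 3 G} (h : Adj P Q) : Adj Q P :=
  ⟨h.1.symm, h.2.imp fun _ ht => ⟨ht.2, ht.1⟩⟩

theorem adj_smul (g : G) {P Q : Sylow 3 G} : Adj (g • P) (g • Q) ↔ Adj P Q := by
  have key : ∀ (g : G) (P Q : Sylow 3 G), Adj P Q → Adj (g • P) (g • Q) :=
    fun g P Q ⟨hne, t, h1, h2⟩ =>
      ⟨fun e => hne (smul_left_cancel g e), g * t * g⁻¹, h1.smul g, h2.smul g⟩
  refine ⟨fun h => ?_, key g P Q⟩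
  have := key g⁻¹ _ _ h
  rwa [inv_smul_smul, inv_smul_smul] at this

open scoped Classical in
/-- The neighbours. -/
noncomputable def nb [Fintype G] (P : Sylow 3 G) : Finset (Sylow 3 G) :=
  haveI := Fintype.ofFinite (Sylow 3 G)
  Finset.univ.filter fun Q => Adj P Q

theorem mem_nb [Fintype G] {P Q : Sylow 3 G} : Q ∈ nb P ↔ Adj P Q := by
  classical
  simp [nb]

variable [Fintype G] [IsSimpleGroup G] (hG : Nat.card G = 7920) [Fact (Nat.Prime 3)]
include hG

theorem exists_refl {r : G} (hr : orderOf r = 2) : ∃ P, Refl r P := by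
  haveI : Fact (Nat.Prime 2) := ⟨Nat.prime_two⟩
  obtain ⟨P⟩ : Nonempty (Sylow 3 G) := inferInstance
  obtain ⟨z', hz'⟩ := exists_prime_orderOf_dvd_card' (G := (P : Subgroup G)) 3
    (by rw [card_sylow_three hG P]; norm_num)
  have hzo : orderOf (z' : G) = 3 := by rw [Subgroup.orderOf_coe, hz']
  obtain ⟨r', hr'⟩ := exists_prime_orderOf_dvd_card' (G := C (z' : G)) 2
    (by rw [card_C_three hG hzo]; norm_num)
  have hr'o : orderOf (r' : G) = 2 := by rw [Subgroup.orderOf_coe, hr']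
  obtain ⟨g, hg⟩ := isConj_iff.1 (isConj_involutions hG hr'o hr)
  have h : Refl (r' : G) P :=
    ⟨z', z'.2, fun e => by rw [e, orderOf_one] at hzo; omega, mem_C.1 r'.2⟩
  exact ⟨g • P, hg ▸ h.smul g⟩

theorem card_refl_orbit {r : G} (hr : orderOf r = 2) {P : Sylow 3 G} (hP : Refl r P) :
    Nat.card (orbit (C r) P) = 4 := by
  have h := card_orbit_sylow (C r) P
  rw [(card_C_refl hG hr hP).2, card_C_involution hG hr] at h
  omega

theorem card_inverts_orbit {t : G} {P : Sylow 3 G} (h : Inverts t P) :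
    Nat.card (orbit (C t) P) = 3 := by
  have e := card_orbit_sylow (C t) P
  rw [card_C_inverts hG h, card_C_involution hG h.1] at e
  omega

theorem refl_mem_orbit {r : G} (hr : orderOf r = 2) {P Q : Sylow 3 G} (hP : Refl r P)
    (hQ : Refl r Q) : Q ∈ orbit (C r) P := by
  obtain ⟨c, hc, hcQ⟩ := refl_orbit hG hr hP hQ
  exact ⟨⟨c, hc⟩, hcQ⟩

theorem inverts_mem_orbit {t : G} {P Q : Sylow 3 G} (hP : Inverts t P) (hQ : Inverts t Q) :
    Q ∈ orbit (C t) P := by
  obtain ⟨c, hc, hcQ⟩ := hP.exists_smul hG hQ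
  exact ⟨⟨c, hc⟩, hcQ⟩

theorem inverts_exists_three {t : G} {P : Sylow 3 G} (h : Inverts t P) :
    ∃ Q R, P ≠ Q ∧ P ≠ R ∧ Q ≠ R ∧ Inverts t Q ∧ Inverts t R ∧
      ∀ X, Inverts t X → X = P ∨ X = Q ∨ X = R := by
  classical
  haveI := Fintype.ofFinite (Sylow 3 G)
  set I := Finset.univ.filter fun X => Inverts t X
  have hI : I.card = 3 := by
    refine Eq.trans ?_ (card_inverts_orbit hG h)
    rw [← Fintype.card_subtype, ← Nat.card_eq_fintype_card]
    refine Nat.card_congr (Equiv.subtypeEquivRight fun X => ⟨fun hX => inverts_mem_orbit hG h hX, ?_⟩)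
    rintro ⟨c, rfl⟩
    exact h.smul_C c.2
  have hPI : P ∈ I := Finset.mem_filter.2 ⟨Finset.mem_univ _, h⟩
  obtain ⟨Q, R, hQR, he⟩ := Finset.card_eq_two.1
    (by rw [Finset.card_erase_of_mem hPI, hI] : (I.erase P).card = 2)
  have hQ : Q ∈ I.erase P := he ▸ Finset.mem_insert_self Q _
  have hR : R ∈ I.erase P := he ▸ Finset.mem_insert_of_mem (Finset.mem_singleton_self R)
  refine ⟨Q, R, (Finset.ne_of_mem_erase hQ).symm, (Finset.ne_of_mem_erase hR).symm, hQR,
    (Finset.mem_filter.1 (Finset.mem_of_mem_erase hQ)).2,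
    (Finset.mem_filter.1 (Finset.mem_of_mem_erase hR)).2, fun X hX => ?_⟩
  by_cases hXP : X = P
  · exact Or.inl hXP
  · have : X ∈ I.erase P := Finset.mem_erase.2 ⟨hXP, Finset.mem_filter.2 ⟨Finset.mem_univ _, hX⟩⟩
    rw [he] at this
    simpa using Or.inr (Finset.mem_insert.1 this)

/-- A permutation of the fourth Sylow subgroup: fixing three means fixing all four. -/
theorem refl_fix_all {r c : G} (hr : orderOf r = 2) (hc : c ∈ C r) {X Y Z : Sylow 3 G}
    (hX : Refl r X) (hY : Refl r Y) (hZ : Refl r Z) (hXY : X ≠ Y) (hXZ : X ≠ Z) (hYZ : Y ≠ Z)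
    (fX : c • X = X) (fY : c • Y = Y) (fZ : c • Z = Z) {W : Sylow 3 G} (hW : Refl r W) :
    c • W = W := by
  classical
  haveI := Fintype.ofFinite (Sylow 3 G)
  by_contra hne
  set I := Finset.univ.filter fun X => Refl r X
  have hI : I.card = 4 := by
    rw [← card_refl_orbit hG hr hX, ← Fintype.card_subtype, ← Nat.card_eq_fintype_card]
    refine Nat.card_congr (Equiv.subtypeEquivRight fun V => ⟨fun hV => refl_mem_orbit hG hr hX hV, ?_⟩)
    rintro ⟨a, rfl⟩
    exact hX.smul_C a.2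
  have hsub : ({X, Y, Z, W, c • W} : Finset (Sylow 3 G)) ⊆ I := by
    intro V hV
    simp only [Finset.mem_insert, Finset.mem_singleton] at hV
    refine Finset.mem_filter.2 ⟨Finset.mem_univ _, ?_⟩
    rcases hV with rfl | rfl | rfl | rfl | rfl
    exacts [hX, hY, hZ, hW, hW.smul_C hc]
  have hnot : ∀ V, c • V = V → V ≠ W ∧ V ≠ c • W := fun V hV =>
    ⟨fun e => hne (e ▸ hV), fun e => hne (by rw [e] at hV; exact smul_left_cancel c hV)⟩
  obtain ⟨a1, a2⟩ := hnot X fX
  obtain ⟨b1, b2⟩ := hnot Y fY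
  obtain ⟨c1, c2⟩ := hnot Z fZ
  have := Finset.card_le_card hsub
  rw [Finset.card_insert_of_notMem (by simp [hXY, hXZ, a1, a2]),
    Finset.card_insert_of_notMem (by simp [hYZ, b1, b2]),
    Finset.card_insert_of_notMem (by simp [c1, c2]),
    Finset.card_pair (fun e => hne e.symm), hI] at this
  omega

/-- The stabilizer of an edge-triangle moves the other two vertices. -/
theorem exists_swap {t : G} {P Q : Sylow 3 G} (hP : Inverts t P) (hQ : Inverts t Q) (hne : P ≠ Q) :
    ∃ k ∈ C t ⊓ NS P, k • Q ≠ Q := by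
  classical
  haveI : Fact (Nat.Prime 2) := ⟨Nat.prime_two⟩
  by_contra h
  push_neg at h
  set K := C t ⊓ NS P
  obtain ⟨Q', R, h1, h2, h3, hQ', hR, hall⟩ := inverts_exists_three hG hP
  obtain ⟨R', hPR, hQR, hR', hall'⟩ : ∃ R', P ≠ R' ∧ Q ≠ R' ∧ Inverts t R' ∧
      ∀ X, Inverts t X → X = P ∨ X = Q ∨ X = R' := by
    rcases hall Q hQ with e | e | e
    · exact absurd e.symm hne
    · exact ⟨R, h2, e ▸ h3, hR, e ▸ hall⟩
    · refine ⟨Q', h1, e ▸ h3.symm, hQ', fun X hX => ?_⟩
      rcases hall X hX with e' | e' | e'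
      · exact Or.inl e'
      · exact Or.inr (Or.inr e')
      · exact Or.inr (Or.inl (e'.trans e.symm))
  have hKfix : ∀ k ∈ K, ∀ X, Inverts t X → k • X = X := by
    intro k hk X hX
    have hkP : k • P = P := mem_normalizer_sylow.1 hk.2
    rcases hall' X hX with rfl | rfl | rfl
    · exact hkP
    · exact h k hk
    · rcases hall' (k • X) (hX.smul_C hk.1) with e | e | e
      · exact absurd (smul_left_cancel k (e.trans hkP.symm)) hPR.symm
      · exact absurd (smul_left_cancel k (e.trans (h k hk).symm)) hQR.symm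
      · exact e
  have hKeq : ∀ X, Inverts t X → C t ⊓ NS X = K := fun X hX =>
    (eq_of_le_of_card_ge (le_inf inf_le_left fun k hk => mem_normalizer_sylow.2 (hKfix k hk X hX))
      (by rw [card_C_inverts hG hX, card_C_inverts hG hP])).symm
  obtain ⟨W, hW⟩ := exists_refl hG hP.1
  obtain ⟨hWN, hW12⟩ := card_C_refl hG hP.1 hW
  obtain ⟨v', hv'⟩ := exists_prime_orderOf_dvd_card' (G := (C t ⊓ NS W : Subgroup G)) 3
    (by rw [hW12]; norm_num)
  set v : G := (v' : G) with hvdef
  have hvo : orderOf v = 3 := by rw [hvdef, Subgroup.orderOf_coe, hv']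
  have hvK : ∀ k ∈ K, v * k * v⁻¹ ∈ K := by
    intro k hk
    have hvP := hP.smul_C v'.2.1
    rw [← hKeq _ hvP]
    refine ⟨(C t).mul_mem ((C t).mul_mem v'.2.1 hk.1) ((C t).inv_mem v'.2.1),
      mem_normalizer_sylow.2 ?_⟩
    rw [mul_smul, mul_smul, inv_smul_smul, mem_normalizer_sylow.1 hk.2]
  set V := K ⊓ NS W
  have hV4 : Nat.card V = 4 := by
    have he := card_orbit_sylow K W
    rw [card_C_inverts hG hP] at he
    have hle : Nat.card (orbit K W) ≤ 4 := by
      rw [← card_refl_orbit hG hP.1 hW]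
      refine Nat.card_le_card_of_injective (fun X => ⟨X.1, ?_⟩) fun a b e =>
        Subtype.ext (congrArg (fun z : orbit (C t) W => z.1) e)
      obtain ⟨k, hk⟩ := X.2
      exact ⟨⟨k, k.2.1⟩, hk⟩
    have hd : Nat.card V ∣ 12 :=
      hW12 ▸ card_dvd_of_le (inf_le_inf_right _ inf_le_left)
    have hd16 : Nat.card V ∣ 16 := Dvd.intro_left _ he
    have := Nat.le_of_dvd (by norm_num) ((Nat.dvd_gcd hd hd16).trans (by norm_num : Nat.gcd 12 16 ∣ 4))
    change Nat.card (orbit K W) * Nat.card V = 16 at he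
    nlinarith only [he, this, hle]
  have hvV : ∀ k ∈ V, v * k * v⁻¹ ∈ V := fun k hk =>
    ⟨hvK k hk.1, (NS W).mul_mem ((NS W).mul_mem v'.2.2 hk.2) ((NS W).inv_mem v'.2.2)⟩
  have htV : t ∈ V := ⟨⟨mem_C.2 rfl, hP.mem_N⟩, hWN⟩
  have hvt : Commute v t := mem_C.1 v'.2.1
  let V2 := {k : G // k ∈ V ∧ k ≠ 1 ∧ k ≠ t}
  have hV2 : Fintype.card V2 = 2 := by
    have h4 : (Finset.univ.filter fun k : G => k ∈ V).card = 4 := by
      rw [← hV4, Nat.card_eq_fintype_card, Fintype.card_subtype]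
    have : (Finset.univ.filter fun k : G => k ∈ V ∧ k ≠ 1 ∧ k ≠ t) =
        ((Finset.univ.filter fun k : G => k ∈ V).erase 1).erase t := by
      ext k; simp; tauto
    rw [Fintype.card_subtype, this, Finset.card_erase_of_mem, Finset.card_erase_of_mem, h4]
    · exact Finset.mem_filter.2 ⟨Finset.mem_univ _, one_mem _⟩
    · refine Finset.mem_erase.2 ⟨fun e => ?_, Finset.mem_filter.2 ⟨Finset.mem_univ _, htV⟩⟩
      have := hP.1
      rw [e, orderOf_one] at this
      omega
  let σ : Equiv.Perm V2 := Equiv.ofBijective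
    (fun k => ⟨v * (k : G) * v⁻¹, hvV _ k.2.1, fun e => k.2.2.1 (conj_eq_one_iff.1 e),
      fun e => k.2.2.2 (by
        calc (k : G) = v⁻¹ * (v * (k : G) * v⁻¹) * v := by group
          _ = v⁻¹ * t * v := congrArg (fun z => v⁻¹ * z * v) e
          _ = v⁻¹ * (t * v) := mul_assoc _ _ _
          _ = v⁻¹ * (v * t) := congrArg _ hvt.eq.symm
          _ = t := inv_mul_cancel_left _ _)⟩)
    (Finite.injective_iff_bijective.1 fun a b e =>
      Subtype.ext (mul_left_cancel (mul_right_cancel (congrArg Subtype.val e))))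
  have hσ : σ ^ 3 ^ 1 = 1 := by
    refine Equiv.ext fun a => Subtype.ext ?_
    show ((σ ^ 3) a : G) = a
    simp only [pow_succ, pow_zero, one_mul, Equiv.Perm.mul_apply]
    show v * (v * (v * (a : G) * v⁻¹) * v⁻¹) * v⁻¹ = a
    rw [show v * (v * (v * (a : G) * v⁻¹) * v⁻¹) * v⁻¹ = v ^ 3 * a * (v ^ 3)⁻¹ by rw [pow_succ, pow_two]; group,
      show v ^ 3 = 1 from hvo ▸ pow_orderOf_eq_one v, one_mul, inv_one, mul_one]
  obtain ⟨a, ha⟩ := Equiv.Perm.exists_fixed_point_of_prime (p := 3) (n := 1)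
    (by rw [hV2]; norm_num) hσ
  have hva : Commute v (a : G) := mul_inv_eq_iff_eq_mul.1 (congrArg Subtype.val ha)
  have hVC : V ≤ C v := by
    intro k hk
    by_contra hkv
    have hk1 : k ≠ 1 := fun e => hkv (e ▸ one_mem _)
    have hkt : k ≠ t := fun e => hkv (mem_C.2 (e ▸ hvt.symm.eq))
    have hka : k ≠ a := fun e => hkv (mem_C.2 (e ▸ hva.symm.eq))
    have hat : (a : G) * t ∈ V := V.mul_mem a.2.1 htV
    have hat1 : (a : G) * t ≠ 1 := fun e => a.2.2.2 (by rw [eq_inv_of_mul_eq_one_left e, hP.inv])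
    have hatt : (a : G) * t ≠ t := fun e => a.2.2.1 (mul_right_cancel (e.trans (one_mul t).symm))
    have hata : (a : G) * t ≠ a := fun e => by
      have := hP.1
      rw [mul_left_cancel (e.trans (mul_one (a : G)).symm), orderOf_one] at this
      omega
    have hkat : k ≠ (a : G) * t := fun e => hkv (mem_C.2 (e ▸ (hva.mul_right hvt).symm.eq))
    have hsub : ({⟨k, hk, hk1, hkt⟩, a, ⟨(a : G) * t, hat, hat1, hatt⟩} : Finset V2) ⊆
        Finset.univ := Finset.subset_univ _
    have := Finset.card_le_card hsub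
    rw [Finset.card_univ, hV2, Finset.card_insert_of_notMem (by
        simp only [Finset.mem_insert, Finset.mem_singleton, not_or]
        exact ⟨fun e => hka (congrArg Subtype.val e), fun e => hkat (congrArg Subtype.val e)⟩),
      Finset.card_pair (fun e => hata (congrArg Subtype.val e).symm)] at this
    omega
  have := card_dvd_of_le hVC
  rw [hV4, card_C_three hG hvo] at this
  norm_num at this

theorem card_edge_stab {t : G} {P Q : Sylow 3 G} (hP : Inverts t P) (hQ : Inverts t Q)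
    (hne : P ≠ Q) : Nat.card (NS P ⊓ NS Q : Subgroup G) = 8 := by
  classical
  have he : (NS P ⊓ NS Q : Subgroup G) = (C t ⊓ NS P) ⊓ NS Q := by
    refine le_antisymm (fun n hn => ⟨⟨mem_C.2 ?_, hn.1⟩, hn.2⟩) (inf_le_inf_right _ inf_le_right)
    have h1 := hP.smul n
    have h2 := hQ.smul n
    rw [mem_normalizer_sylow.1 hn.1] at h1
    rw [mem_normalizer_sylow.1 hn.2] at h2
    exact mul_inv_eq_iff_eq_mul.1 (inverts_unique hG hne h1 hP h2 hQ)
  rw [he]
  have h := card_orbit_sylow (C t ⊓ NS P) Q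
  rw [card_C_inverts hG hP] at h
  obtain ⟨k, hk, hkQ⟩ := exists_swap hG hP hQ hne
  have h2 : 2 ≤ Nat.card (orbit (C t ⊓ NS P : Subgroup G) Q) := by
    haveI : Nontrivial (orbit (C t ⊓ NS P : Subgroup G) Q) :=
      ⟨⟨⟨Q, mem_orbit_self Q⟩, ⟨k • Q, ⟨⟨k, hk⟩, rfl⟩⟩,
        fun e => hkQ (congrArg Subtype.val e).symm⟩⟩
    exact Finite.one_lt_card
  have h3 : Nat.card (orbit (C t ⊓ NS P : Subgroup G) Q) ≤ 2 := by
    haveI := Fintype.ofFinite (Sylow 3 G)
    obtain ⟨Q', R', h1, h2, h3, hQ', hR', hall⟩ := inverts_exists_three hG hP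
    rw [Nat.card_eq_fintype_card, Fintype.card_subtype]
    refine (Finset.card_le_card (t := {Q', R'}) fun X hX => ?_).trans Finset.card_le_two
    obtain ⟨k, rfl⟩ := (Finset.mem_filter.1 hX).2
    rcases hall _ (hQ.smul_C k.2.1) with e | e | e
    · exact absurd (smul_left_cancel (k : G) (e.trans (mem_normalizer_sylow.1 k.2.2).symm))
        hne.symm
    · exact Finset.mem_insert.2 (Or.inl e)
    · exact Finset.mem_insert.2 (Or.inr (Finset.mem_singleton.2 e))
  have heq : Nat.card (orbit (C t ⊓ NS P : Subgroup G) Q) = 2 := le_antisymm h3 h2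
  rw [heq] at h
  omega

omit [IsSimpleGroup G] in
theorem card_vertices (P : Sylow 3 G) (hN : Nat.card (NS P) = 144) :
    Nat.card (Sylow 3 G) = 55 := by
  have h := (NS P).index_mul_card
  rw [hN, hG] at h
  rw [P.card_eq_index_normalizer]
  exact show (NS P).index = 55 by omega

theorem nb_subset_orbit {P Q : Sylow 3 G} (hPQ : Adj P Q) :
    ∀ Q' ∈ nb P, ∃ n ∈ NS P, n • Q = Q' := by
  intro Q' hQ'
  obtain ⟨hne, t, h1, h2⟩ := hPQ
  obtain ⟨hne', t', h1', h2'⟩ := mem_nb.1 hQ'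
  obtain ⟨p, hp, hpt⟩ := h1.conj_to hG h1'
  have hpP : p ∈ NS P := le_normalizer hp
  have h3 := h2.smul p
  rw [hpt] at h3
  by_cases he : p • Q = Q'
  · exact ⟨p, hpP, he⟩
  · have hne3 : P ≠ p • Q := fun e =>
      hne (smul_left_cancel p ((mem_normalizer_sylow.1 hpP).trans e))
    obtain ⟨k, hk, hkQ⟩ := exists_swap hG h1' h3 hne3
    obtain ⟨A, B, a1, a2, a3, hA, hB, hall⟩ := inverts_exists_three hG h1'
    refine ⟨k * p, (NS P).mul_mem hk.2 hpP, ?_⟩
    rw [mul_smul]
    have hk3 := h3.smul_C hk.1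
    have hkP : k • P = P := mem_normalizer_sylow.1 hk.2
    have e1 := hall _ h3
    have e2 := hall _ h2'
    have e3 := hall _ hk3
    have n3 : k • p • Q ≠ P := fun e => hne3 (smul_left_cancel k (hkP.trans e.symm))
    rcases e1 with e1 | e1 | e1 <;> rcases e2 with e2 | e2 | e2 <;> rcases e3 with e3 | e3 | e3 <;>
      first
        | exact absurd e1.symm hne3
        | exact absurd e2.symm hne'
        | exact absurd e3 n3
        | exact absurd (e1.trans e2.symm) he
        | exact absurd (e3.trans e1.symm) hkQ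
        | exact e3.trans e2.symm

theorem card_nb (P : Sylow 3 G) : (nb P).card = 18 := by
  classical
  obtain ⟨t, ht⟩ := exists_inverts hG P
  obtain ⟨Q, R, hPQ, -, -, hQ, -, -⟩ := inverts_exists_three hG ht
  have hadj : Adj P Q := ⟨hPQ, t, ht, hQ⟩
  have h := card_orbit_sylow (NS P) Q
  rw [card_edge_stab hG ht hQ hPQ, card_normalizer_three hG P] at h
  have he : Nat.card (orbit (NS P) Q) = (nb P).card := by
    rw [← Nat.card_eq_finsetCard]
    refine Nat.card_congr (Equiv.subtypeEquivRight fun X => ⟨?_, fun hX => ?_⟩)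
    · rintro ⟨n, rfl⟩
      refine mem_nb.2 ?_
      have := (adj_smul (n : G)).2 hadj
      rwa [mem_normalizer_sylow.1 n.2] at this
    · obtain ⟨n, hn, rfl⟩ := nb_subset_orbit hG hadj X hX
      exact ⟨⟨n, hn⟩, rfl⟩
  omega

/-- Non-adjacent vertices form one orbit of the normalizer. -/
theorem far_transitive {P X Y : Sylow 3 G} (hX : X ≠ P ∧ ¬ Adj P X) (hY : Y ≠ P ∧ ¬ Adj P Y) :
    ∃ n ∈ NS P, n • X = Y := by
  classical
  haveI := Fintype.ofFinite (Sylow 3 G)
  obtain ⟨t, ht⟩ := exists_inverts hG P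
  obtain ⟨W, hW⟩ := exists_refl hG ht.1
  have hWN := (card_C_refl hG ht.1 hW).1
  set F := (Finset.univ.erase P) \ nb P with hF
  have hFmem : ∀ V, V ∈ F ↔ V ≠ P ∧ ¬ Adj P V := fun V => by simp [hF, mem_nb]
  have hFc : F.card = 36 := by
    rw [hF, Finset.card_sdiff_of_subset, card_nb hG P, Finset.card_erase_of_mem (Finset.mem_univ _),
      Finset.card_univ, ← Nat.card_eq_fintype_card, card_vertices hG P (card_normalizer_three hG P)]
    intro V hV
    exact Finset.mem_erase.2 ⟨(mem_nb.1 hV).1.symm, Finset.mem_univ _⟩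
  have hWF : W ≠ P ∧ ¬ Adj P W := by
    have hWP : W ≠ P := fun e => ht.not_refl hG (e ▸ hW)
    refine ⟨hWP, fun ⟨_, t', h1, h2⟩ => ?_⟩
    have h1' := h1.smul t
    have h2' := h2.smul t
    rw [mem_normalizer_sylow.1 ht.mem_N] at h1'
    rw [mem_normalizer_sylow.1 hWN] at h2'
    have hc : Commute t t' :=
      mul_inv_eq_iff_eq_mul.1 (inverts_unique hG hWP.symm h1' h1 h2' h2)
    exact (ht.eq_of_commute hG h1 hc ▸ h2).not_refl hG hW
  have hstab : Nat.card (NS P ⊓ NS W : Subgroup G) ≤ 4 := by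
    have hle : (NS P ⊓ NS W : Subgroup G) ≤ C t ⊓ NS P := fun n hn => by
      refine ⟨mem_C.2 ?_, hn.1⟩
      have h1 := ht.smul n
      rw [mem_normalizer_sylow.1 hn.1] at h1
      have hp := h1.mul_mem_of hG ht
      have hpW : n * t * n⁻¹ * t ∈ NS W :=
        (NS W).mul_mem ((NS W).mul_mem ((NS W).mul_mem hn.2 hWN) ((NS W).inv_mem hn.2)) hWN
      by_cases he : n * t * n⁻¹ * t = 1
      · rw [mul_eq_one_iff_eq_inv, ht.inv, mul_inv_eq_iff_eq_mul] at he
        exact he
      · exfalso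
        have ho := orderOf_sylow hG P hp he
        have hq : IsPGroup 3 (zpowers (n * t * n⁻¹ * t)) :=
          IsPGroup.of_card (n := 1) (by rw [Nat.card_zpowers, ho, pow_one])
        have := hq.inf_normalizer_sylow W
        rw [inf_eq_left.2 (show zpowers (n * t * n⁻¹ * t) ≤ normalizer (W : Set G) from
          zpowers_le.2 hpW)] at this
        exact hWF.1 (sylow_eq_of_mem hG W P (inf_eq_left.1 this.symm (mem_zpowers _)) hp he)
    have hd1 : Nat.card (NS P ⊓ NS W : Subgroup G) ∣ 16 :=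
      card_C_inverts hG ht ▸ card_dvd_of_le hle
    have hd2 : Nat.card (NS P ⊓ NS W : Subgroup G) ∣ 12 :=
      (card_C_refl hG ht.1 hW).2 ▸ card_dvd_of_le (le_inf (hle.trans inf_le_left) inf_le_right)
    exact Nat.le_of_dvd (by norm_num) ((Nat.dvd_gcd hd1 hd2).trans (by norm_num))
  set Orb := Finset.univ.filter fun V => V ∈ orbit (NS P) W with hOrb
  have hsub : Orb ⊆ F := by
    intro V hV
    obtain ⟨n, rfl⟩ := (Finset.mem_filter.1 hV).2
    refine (hFmem _).2 ⟨fun e => hWF.1 ?_, fun h => hWF.2 ?_⟩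
    · exact smul_left_cancel (n : G) (e.trans (mem_normalizer_sylow.1 n.2).symm)
    · have h' : Adj ((n : G) • P) ((n : G) • W) := by rw [mem_normalizer_sylow.1 n.2]; exact h
      exact (adj_smul _).1 h'
  have hOc : 36 ≤ Orb.card := by
    have h := card_orbit_sylow (NS P) W
    rw [card_normalizer_three hG P, Nat.card_eq_fintype_card, Fintype.card_subtype] at h
    change Orb.card * _ = 144 at h
    nlinarith only [h, hstab]
  have heq := Finset.eq_of_subset_of_card_le hsub (by rw [hFc]; exact hOc)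
  have hX' := heq.symm ▸ (hFmem X).2 hX
  have hY' := heq.symm ▸ (hFmem Y).2 hY
  obtain ⟨a, ha⟩ := (Finset.mem_filter.1 hX').2
  obtain ⟨b, hb⟩ := (Finset.mem_filter.1 hY').2
  refine ⟨(b : G) * (a : G)⁻¹, (NS P).mul_mem b.2 ((NS P).inv_mem a.2), ?_⟩
  rw [← ha, ← hb, mul_smul]
  exact congrArg _ (inv_smul_smul (a : G) W)

end Cfsg.Agent.Order7920
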