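import Cfsg.Agent.Lib.Order7920.ThreeLocal

/-!
# Involutions and Sylow 3-subgroups in a simple group of order 7920

Every involution inverts exactly three Sylow 3-subgroups and fixes a non-identity element in exactly
four others.
-/

namespace Cfsg.Agent.Order7920

open Subgroup MulAction

set_option linter.style.haveILetI false

variable {G : Type*} [Group G]

/-- `t` is an involution inverting `P` elementwise. -/
def Inverts (t : G) (P : Sylow 3 G) : Prop :=
  orderOf t = 2 ∧ ∀ w ∈ (P : Subgroup G), t * w * t⁻¹ = w⁻¹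

/-- `t` commutes with a non-identity element of `P`. -/
def Refl (t : G) (P : Sylow 3 G) : Prop :=
  ∃ z ∈ (P : Subgroup G), z ≠ 1 ∧ Commute t z

/-- The normalizer of a Sylow 3-subgroup. -/
abbrev NS (P : Sylow 3 G) : Subgroup G := normalizer ((P : Subgroup G) : Set G)

theorem Inverts.sq {t : G} {P : Sylow 3 G} (h : Inverts t P) : t * t = 1 := by
  rw [← pow_two, ← h.1, pow_orderOf_eq_one]

theorem Inverts.inv {t : G} {P : Sylow 3 G} (h : Inverts t P) : t⁻¹ = t :=
  inv_eq_of_mul_eq_one_right h.sq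

theorem Inverts.mem_N {t : G} {P : Sylow 3 G} (h : Inverts t P) : t ∈ NS P := by
  refine mem_normalizer_iff.2 fun w => ⟨fun hw => ?_, fun hw => ?_⟩
  · rw [h.2 w hw]; exact (P : Subgroup G).inv_mem hw
  · have h' := h.2 _ hw
    have : w = t * (t * w * t⁻¹) * t⁻¹ := by
      rw [h.inv, show t * (t * w * t) * t = (t * t) * w * (t * t) by group, h.sq, one_mul, mul_one]
    rw [this, h']
    exact (P : Subgroup G).inv_mem hw

theorem Inverts.smul {t : G} {P : Sylow 3 G} (h : Inverts t P) (g : G) :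
    Inverts (g * t * g⁻¹) (g • P) := by
  refine ⟨by rw [orderOf_conj_elem]; exact h.1, fun w hw => ?_⟩
  rw [mem_smul_sylow] at hw
  calc g * t * g⁻¹ * w * (g * t * g⁻¹)⁻¹ = g * (t * (g⁻¹ * w * g) * t⁻¹) * g⁻¹ := by group
    _ = g * (g⁻¹ * w * g)⁻¹ * g⁻¹ := by rw [h.2 _ hw]
    _ = w⁻¹ := by group

theorem Refl.smul {t : G} {P : Sylow 3 G} (h : Refl t P) (g : G) :
    Refl (g * t * g⁻¹) (g • P) := by
  obtain ⟨z, hz, hz1, hc⟩ := h
  refine ⟨g * z * g⁻¹, mem_smul_sylow.2 (by simpa [mul_assoc] using hz),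
    fun e => hz1 (conj_eq_one_iff.1 e), ?_⟩
  show g * t * g⁻¹ * (g * z * g⁻¹) = g * z * g⁻¹ * (g * t * g⁻¹)
  rw [conj_mul, conj_mul, hc.eq]

variable [Fintype G] [IsSimpleGroup G] (hG : Nat.card G = 7920) [Fact (Nat.Prime 3)]
include hG

theorem Inverts.not_commute {t : G} {P : Sylow 3 G} (h : Inverts t P) {w : G}
    (hw : w ∈ (P : Subgroup G)) (hw1 : w ≠ 1) : ¬ Commute t w := by
  intro hc
  have h' := h.2 w hw
  rw [hc.eq, mul_inv_cancel_right, eq_inv_iff_mul_eq_one, ← pow_two,
    ← orderOf_dvd_iff_pow_eq_one, orderOf_sylow hG P hw hw1] at h'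
  norm_num at h'

theorem Inverts.not_refl {t : G} {P : Sylow 3 G} (h : Inverts t P) : ¬ Refl t P :=
  fun ⟨_, hz, hz1, hc⟩ => h.not_commute hG hz hz1 hc

theorem Inverts.mul_mem_of {t t' : G} {P : Sylow 3 G} (h : Inverts t P) (h' : Inverts t' P) :
    t * t' ∈ (P : Subgroup G) := by
  refine mem_of_centralizes hG P fun w hw => ?_
  have : t * t' * w * (t * t')⁻¹ = w := by
    rw [show t * t' * w * (t * t')⁻¹ = t * (t' * w * t'⁻¹) * t⁻¹ by group, h'.2 w hw,
      h.2 _ ((P : Subgroup G).inv_mem hw), inv_inv]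
  exact mul_inv_eq_iff_eq_mul.1 this

theorem Inverts.mul_mem_P {t : G} {P : Sylow 3 G} (h : Inverts t P) {p : G}
    (hp : p ∈ (P : Subgroup G)) : Inverts (t * p) P := by
  haveI : Fact (Nat.Prime 2) := ⟨Nat.prime_two⟩
  refine ⟨orderOf_eq_prime ?_ ?_, fun w hw => ?_⟩
  · have := h.2 p hp
    rw [h.inv] at this
    rw [pow_two, show t * p * (t * p) = t * p * t * p by group, this, inv_mul_cancel]
  · intro he
    have ht : t ∈ (P : Subgroup G) := by
      rw [eq_inv_of_mul_eq_one_left he]
      exact (P : Subgroup G).inv_mem hp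
    exact h.not_commute hG ht (fun e => by have := h.1; rw [e, orderOf_one] at this; omega) rfl
  · rw [show t * p * w * (t * p)⁻¹ = t * (p * w * p⁻¹) * t⁻¹ by group,
      mul_comm_sylow hG P hp hw, mul_inv_cancel_right, h.2 w hw]

/-- Conjugation by `p` multiplies an inverting involution by `p`. -/
theorem Inverts.conj_eq {t : G} {P : Sylow 3 G} (h : Inverts t P) {p : G}
    (hp : p ∈ (P : Subgroup G)) : p * t * p⁻¹ = t * p := by
  by_cases hp1 : p = 1
  · subst hp1; group
  have h3 : p ^ 3 = 1 := by rw [← orderOf_sylow hG P hp hp1, pow_orderOf_eq_one]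
  have h' : t * p * t = p⁻¹ := by have := h.2 p hp; rwa [h.inv] at this
  have h1 : p * t = t * p⁻¹ := by
    rw [← h', show t * (t * p * t) = (t * t) * p * t by group, h.sq, one_mul]
  rw [h1, mul_assoc]
  congr 1
  rw [← mul_inv_rev, inv_eq_iff_mul_eq_one, ← h3, pow_succ, pow_two]

theorem Inverts.conj_to {t t' : G} {P : Sylow 3 G} (h : Inverts t P) (h' : Inverts t' P) :
    ∃ p ∈ (P : Subgroup G), p * t * p⁻¹ = t' := by
  refine ⟨t * t', h.mul_mem_of hG h', ?_⟩
  rw [h.conj_eq hG (h.mul_mem_of hG h'), ← mul_assoc, h.sq, one_mul]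

theorem Inverts.eq_of_commute {t t' : G} {P : Sylow 3 G} (h : Inverts t P) (h' : Inverts t' P)
    (hc : Commute t t') : t = t' := by
  by_contra hne
  refine h.not_commute hG (h.mul_mem_of hG h') (fun e => hne ?_) ((Commute.refl t).mul_right hc)
  rw [eq_inv_of_mul_eq_one_left e, h'.inv]

omit [IsSimpleGroup G] in
theorem sylow_inter_two (P : Sylow 3 G) {S : Subgroup G} (hS : Nat.card S = 16) :
    S ⊓ (P : Subgroup G) = ⊥ :=
  inf_eq_bot_of_coprime (by rw [hS, card_sylow_three hG P]; norm_num)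

theorem card_inf_C_le (P : Sylow 3 G) {S : Subgroup G} (hS : Nat.card S = 16) {z : G}
    (hz : z ∈ (P : Subgroup G)) (hz1 : z ≠ 1) : Nat.card (S ⊓ C z : Subgroup G) ≤ 2 := by
  have h1 : Nat.card (S ⊓ C z : Subgroup G) ∣ 16 := hS ▸ card_dvd_of_le inf_le_left
  have h2 : Nat.card (S ⊓ C z : Subgroup G) ∣ 18 :=
    card_C_three hG (orderOf_sylow hG P hz hz1) ▸ card_dvd_of_le inf_le_right
  exact Nat.le_of_dvd (by norm_num) ((Nat.dvd_gcd h1 h2).trans (by norm_num))

/-- A subgroup of order 16 of the normalizer is transitive on the non-identity elements. -/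
theorem transitive_sixteen (P : Sylow 3 G) {S : Subgroup G} (hSN : S ≤ NS P)
    (hS : Nat.card S = 16) {z w : G} (hz : z ∈ (P : Subgroup G)) (hz1 : z ≠ 1)
    (hw : w ∈ (P : Subgroup G)) (hw1 : w ≠ 1) : ∃ s ∈ S, s * z * s⁻¹ = w := by
  classical
  set S0 := Finset.univ.filter fun n : G => n ∈ S
  set P1 := Finset.univ.filter fun w : G => w ∈ (P : Subgroup G) ∧ w ≠ 1 with hP1
  have hS0 : S0.card = 16 := by rw [← hS, Nat.card_eq_fintype_card, Fintype.card_subtype]
  have hP1c : P1.card = 8 := by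
    have : P1 = (Finset.univ.filter fun w : G => w ∈ (P : Subgroup G)).erase 1 := by
      ext w; simp [hP1, and_comm]
    rw [this, Finset.card_erase_of_mem (by simp [one_mem]), ← Fintype.card_subtype,
      ← Nat.card_eq_fintype_card]
    exact congrArg (· - 1) (card_sylow_three hG P)
  have hsub : S0.image (fun n => n * z * n⁻¹) ⊆ P1 := by
    intro v hv
    obtain ⟨n, hn, rfl⟩ := Finset.mem_image.1 hv
    exact Finset.mem_filter.2 ⟨Finset.mem_univ _,
      (mem_normalizer_iff.1 (hSN (Finset.mem_filter.1 hn).2) z).1 hz,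
      fun h => hz1 (conj_eq_one_iff.1 h)⟩
  have hfib : ∀ v ∈ S0.image (fun n => n * z * n⁻¹),
      (S0.filter fun n => n * z * n⁻¹ = v).card ≤ Nat.card (S ⊓ C z : Subgroup G) := by
    intro v hv
    obtain ⟨n₀, hn₀, rfl⟩ := Finset.mem_image.1 hv
    rw [Nat.card_eq_fintype_card, Fintype.card_subtype]
    refine Finset.card_le_card_of_injOn (fun n => n₀⁻¹ * n) (fun n hn => ?_)
      (fun a _ b _ h => mul_left_cancel h)
    obtain ⟨hn1, hn2⟩ := Finset.mem_filter.1 hn
    refine Finset.mem_filter.2 ⟨Finset.mem_univ _,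
      ⟨S.mul_mem (S.inv_mem (Finset.mem_filter.1 hn₀).2) (Finset.mem_filter.1 hn1).2, mem_C.2 ?_⟩⟩
    calc n₀⁻¹ * n * z = n₀⁻¹ * (n * z * n⁻¹) * n := by group
      _ = n₀⁻¹ * (n₀ * z * n₀⁻¹) * n := by rw [hn2]
      _ = z * (n₀⁻¹ * n) := by group
  have h16 := Finset.card_le_mul_card_image S0 _ hfib
  have h2 := card_inf_C_le hG P hS hz hz1
  have he : (S0.image fun n => n * z * n⁻¹) = P1 :=
    Finset.eq_of_subset_of_card_le hsub (by rw [hP1c]; nlinarith only [h16, h2, hS0])
  have hwm : w ∈ P1 := Finset.mem_filter.2 ⟨Finset.mem_univ _, hw, hw1⟩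
  rw [← he] at hwm
  obtain ⟨n, hn, hnw⟩ := Finset.mem_image.1 hwm
  exact ⟨n, (Finset.mem_filter.1 hn).2, hnw⟩

/-- An involution normalizing `P` inverts it or fixes a non-identity element. -/
theorem inverts_or_refl {r : G} {P : Sylow 3 G} (hr : orderOf r = 2) (hN : r ∈ NS P) :
    Inverts r P ∨ Refl r P := by
  by_cases h : Refl r P
  · exact Or.inr h
  refine Or.inl ⟨hr, fun w hw => ?_⟩
  have hrr : r * r = 1 := by rw [← pow_two, ← hr, pow_orderOf_eq_one]
  have hri : r⁻¹ = r := inv_eq_of_mul_eq_one_right hrr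
  have hw' : r * w * r⁻¹ ∈ (P : Subgroup G) := (mem_normalizer_iff.1 hN w).1 hw
  set w' := r * w * r⁻¹ with hw'def
  have hprod : w' * w = 1 := by
    by_contra hne
    refine h ⟨w' * w, mul_mem hw' hw, hne, ?_⟩
    show r * (w' * w) = w' * w * r
    rw [mul_comm_sylow hG P hw' hw, hw'def, hri]
    calc r * (w * (r * w * r)) = r * w * r * w * r := by group
      _ = w * (r * w * r) * r := by
        rw [show r * w * r * w = w * (r * w * r) by
          have := mul_comm_sylow hG P hw' hw
          rwa [hw'def, hri] at this]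
  exact eq_inv_of_mul_eq_one_left hprod

omit [IsSimpleGroup G] in
theorem exists_sixteen (P : Sylow 3 G) (hN : Nat.card (NS P) = 144) :
    ∃ S : Subgroup G, S ≤ NS P ∧ Nat.card S = 16 := by
  haveI : Fact (Nat.Prime 2) := ⟨Nat.prime_two⟩
  obtain ⟨S', hS'⟩ := Sylow.exists_subgroup_card_pow_prime 2 (n := 4) (G := NS P)
    (by rw [hN]; norm_num)
  exact ⟨S'.map (NS P).subtype, map_subtype_le S',
    by rw [card_map_of_injective (NS P).subtype_injective, hS']; norm_num⟩

/-- A central involution of a Sylow 2-subgroup of the normalizer inverts `P`. -/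
theorem exists_inverts_central (P : Sylow 3 G) {S : Subgroup G} (hSN : S ≤ NS P)
    (hS : Nat.card S = 16) : ∃ t ∈ S, Inverts t P ∧ S ≤ C t := by
  haveI : Fact (Nat.Prime 2) := ⟨Nat.prime_two⟩
  have hSp : IsPGroup 2 S := IsPGroup.of_card (n := 4) (by rw [hS]; norm_num)
  haveI : Nontrivial S := by rw [← Finite.one_lt_card_iff_nontrivial, hS]; norm_num
  have hnt : Nontrivial (center S) := hSp.center_nontrivial
  obtain ⟨t', ht'⟩ := exists_prime_orderOf_dvd_card' (G := center S) 2 (by
    obtain ⟨k, hk⟩ := (hSp.to_subgroup (center S)).exists_card_eq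
    rcases k with _ | k
    · rw [← Finite.one_lt_card_iff_nontrivial, hk] at hnt
      simp at hnt
    · rw [hk]; exact dvd_pow_self 2 (by omega))
  set t : G := ((t' : S) : G) with htdef
  have hto : orderOf t = 2 := by rw [htdef, Subgroup.orderOf_coe, Subgroup.orderOf_coe, ht']
  have hSC : S ≤ C t := fun s hs => mem_C.2 (by
    have := congrArg Subtype.val (mem_center_iff.1 t'.2 ⟨s, hs⟩)
    simpa [htdef] using this)
  refine ⟨t, (t' : S).2, (inverts_or_refl hG hto (hSN (t' : S).2)).resolve_right ?_, hSC⟩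
  rintro ⟨z, hz, hz1, hc⟩
  have htP : t ∈ (P : Subgroup G) := mem_of_centralizes hG P fun w hw => by
    by_cases hw1 : w = 1
    · simp [hw1]
    obtain ⟨s, hs, rfl⟩ := transitive_sixteen hG P hSN hS hz hz1 hw hw1
    have hts : Commute t s := (mem_C.1 (hSC hs)).symm
    exact (((hts.mul_right hc).mul_right hts.inv_right)).eq
  have := orderOf_sylow hG P htP (fun e => by rw [e, orderOf_one] at hto; omega)
  omega

theorem exists_inverts (P : Sylow 3 G) : ∃ t, Inverts t P := by
  obtain ⟨S, hSN, hS⟩ := exists_sixteen hG P (card_normalizer_three hG P)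
  obtain ⟨t, -, ht, -⟩ := exists_inverts_central hG P hSN hS
  exact ⟨t, ht⟩

theorem card_C_inverts {t : G} {P : Sylow 3 G} (h : Inverts t P) :
    Nat.card (C t ⊓ NS P : Subgroup G) = 16 := by
  classical
  obtain ⟨S, hSN, hS⟩ := exists_sixteen hG P (card_normalizer_three hG P)
  obtain ⟨t0, -, h0, hSC⟩ := exists_inverts_central hG P hSN hS
  obtain ⟨p, hp, hpt⟩ := h0.conj_to hG h
  have hge : 16 ≤ Nat.card (C t ⊓ NS P : Subgroup G) := by
    have hle : S.map (MulAut.conj p).toMonoidHom ≤ C t ⊓ NS P := by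
      rintro _ ⟨s, hs, rfl⟩
      show p * s * p⁻¹ ∈ _
      refine ⟨mem_C.2 ?_, ?_⟩
      · rw [← hpt, conj_mul, conj_mul, mem_C.1 (hSC hs)]
      · have hpN : p ∈ NS P := le_normalizer hp
        exact (NS P).mul_mem ((NS P).mul_mem hpN (hSN hs)) ((NS P).inv_mem hpN)
    have := card_le_of_le hle
    rwa [card_map_of_injective (MulAut.conj p).injective, hS] at this
  refine le_antisymm ?_ hge
  let φ : (C t ⊓ NS P : Subgroup G) × (P : Subgroup G) → NS P := fun q =>
    ⟨(q.1 : G) * q.2, mul_mem q.1.2.2 (le_normalizer q.2.2)⟩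
  have hφ : Function.Injective φ := by
    rintro ⟨⟨a, ha⟩, ⟨b, hb⟩⟩ ⟨⟨a', ha'⟩, ⟨b', hb'⟩⟩ e
    simp only [φ, Subtype.mk.injEq] at e
    have e' : a'⁻¹ * a = b' * b⁻¹ := by
      rw [eq_mul_inv_iff_mul_eq, mul_assoc, e, inv_mul_cancel_left]
    have h1 : b' * b⁻¹ = 1 := by
      by_contra hne
      exact h.not_commute hG (mul_mem hb' ((P : Subgroup G).inv_mem hb)) hne
        (e' ▸ ((mem_C.1 ((C t).mul_mem ((C t).inv_mem ha'.1) ha.1)).symm))
    have hbb : b' = b := mul_inv_eq_one.1 h1
    subst hbb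
    have := mul_right_cancel e
    subst this
    rfl
  have := Nat.card_le_card_of_injective φ hφ
  rw [Nat.card_prod, card_sylow_three hG P, card_normalizer_three hG P] at this
  omega

theorem refl_ne {t r : G} {P : Sylow 3 G} (h : Inverts t P) (hr : orderOf r = 2)
    (hN : r ∈ NS P) (hc : Commute t r) (hne : r ≠ t) : Refl r P :=
  (inverts_or_refl hG hr hN).resolve_left fun h' => hne (h.eq_of_commute hG h' hc).symm

/-- Any two involutions are conjugate. -/
theorem isConj_involutions {r r' : G} (hr : orderOf r = 2) (hr' : orderOf r' = 2) :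
    IsConj r r' := by
  classical
  haveI : Fact (Nat.Prime 2) := ⟨Nat.prime_two⟩
  obtain ⟨P⟩ : Nonempty (Sylow 3 G) := inferInstance
  obtain ⟨S, hSN, hS⟩ := exists_sixteen hG P (card_normalizer_three hG P)
  obtain ⟨t, htS, ht, hSC⟩ := exists_inverts_central hG P hSN hS
  have hf : (Nat.card G).factorization 2 = 4 := by
    rw [hG, show (7920 : ℕ) = 2 ^ 4 * 495 by rfl, Nat.factorization_mul (by norm_num) (by norm_num),
      Finsupp.add_apply, Nat.prime_two.factorization_pow, Finsupp.single_eq_same,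
      Nat.factorization_eq_zero_of_not_dvd (by norm_num)]
  let T : Sylow 2 G := Sylow.ofCard S (by rw [hf, hS]; norm_num)
  have hrefl : ∀ a b, a ∈ S → b ∈ S → orderOf a = 2 → orderOf b = 2 → a ≠ t → b ≠ t →
      IsConj a b := by
    intro a b ha hb hao hbo hat hbt
    obtain ⟨z, hz, hz1, hza⟩ := refl_ne hG ht hao (hSN ha) (mem_C.1 (hSC ha)).symm hat
    obtain ⟨z', hz', hz1', hzb⟩ := refl_ne hG ht hbo (hSN hb) (mem_C.1 (hSC hb)).symm hbt
    obtain ⟨s, hs, hsz⟩ := transitive_sixteen hG P hSN hS hz hz1 hz' hz1'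
    refine isConj_iff.2 ⟨s, ?_⟩
    by_contra hne
    have h2 := card_inf_C_le hG P hS hz' hz1'
    have hsub : ({1, s * a * s⁻¹, b} : Finset G) ⊆
        Finset.univ.filter fun g => g ∈ S ⊓ C z' := by
      intro g hg
      simp only [Finset.mem_insert, Finset.mem_singleton] at hg
      refine Finset.mem_filter.2 ⟨Finset.mem_univ _, ?_⟩
      rcases hg with rfl | rfl | rfl
      · exact one_mem _
      · refine ⟨S.mul_mem (S.mul_mem hs ha) (S.inv_mem hs), mem_C.2 ?_⟩
        rw [← hsz, conj_mul, conj_mul, hza.eq]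
      · exact ⟨hb, mem_C.2 hzb.eq⟩
    have h3 := Finset.card_le_card hsub
    rw [← Fintype.card_subtype, ← Nat.card_eq_fintype_card,
      Finset.card_insert_of_notMem (by
        simp only [Finset.mem_insert, Finset.mem_singleton, not_or]
        refine ⟨fun e => ?_, fun e => ?_⟩
        · rw [conj_eq_one_iff.1 e.symm, orderOf_one] at hao; omega
        · rw [← e, orderOf_one] at hbo; omega),
      Finset.card_pair hne] at h3
    omega
  have hall : ∀ a, orderOf a = 2 → ∃ b ∈ S, IsConj a b := by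
    intro a ha
    have hp : IsPGroup 2 (zpowers a) :=
      IsPGroup.of_card (n := 1) (by rw [Nat.card_zpowers, ha, pow_one])
    obtain ⟨Q, hQ⟩ := hp.exists_le_sylow
    obtain ⟨g, hg⟩ := MulAction.exists_smul_eq G Q T
    refine ⟨g * a * g⁻¹, ?_, isConj_iff.2 ⟨g, rfl⟩⟩
    have : g * a * g⁻¹ ∈ ((g • Q : Sylow 2 G) : Subgroup G) :=
      mem_smul_sylow.2 (by simpa [mul_assoc] using hQ (mem_zpowers a))
    rw [hg] at this
    exact this
  -- `t` has another conjugate in `S`
  obtain ⟨g0, hg0c, hg0ne⟩ : ∃ g : G, Commute t (g * t * g⁻¹) ∧ g * t * g⁻¹ ≠ t := by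
    by_contra h
    push_neg at h
    have hz : IsIsolatedInvolution t := ⟨ht.1, h⟩
    have hO : oddCore G = ⊥ := by
      rcases (inferInstance : (oddCore G).Normal).eq_bot_or_eq_top with h' | h'
      · exact h'
      · exfalso
        have := PCore.odd_card_oddCore (G := G)
        rw [h', card_top, hG] at this
        exact absurd this (by decide)
    have h1 := eq_one_of_central hG (ZStar.mem_center_of_oddCore_eq_bot (ZStar.inZStar hz) hO)
    have := ht.1
    rw [h1, orderOf_one] at this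
    omega
  set t' := g0 * t * g0⁻¹
  have ht'o : orderOf t' = 2 := (orderOf_conj_elem g0 t).trans ht.1
  obtain ⟨c, hcS, hct, hc⟩ : ∃ c ∈ S, c ≠ t ∧ IsConj t c := by
    obtain ⟨Qc, hQc⟩ := (IsPGroup.of_card (n := 1) (show Nat.card (zpowers
      (⟨t', mem_C.2 hg0c.symm.eq⟩ : C t)) = 2 ^ 1 by
        rw [Nat.card_zpowers, ← Subgroup.orderOf_coe, ht'o, pow_one])).exists_le_sylow
    have htQ : (⟨t, mem_C.2 rfl⟩ : C t) ∈ (Qc : Subgroup (C t)) := by
      have hq : IsPGroup 2 (zpowers (⟨t, mem_C.2 rfl⟩ : C t)) :=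
        IsPGroup.of_card (n := 1) (by rw [Nat.card_zpowers, ← Subgroup.orderOf_coe, ht.1, pow_one])
      have hle : zpowers (⟨t, mem_C.2 rfl⟩ : C t) ≤ normalizer (Qc : Set (C t)) := by
        refine zpowers_le.2 (mem_normalizer_iff.2 fun v => ?_)
        have : (⟨t, mem_C.2 rfl⟩ : C t) * v * (⟨t, mem_C.2 rfl⟩ : C t)⁻¹ = v :=
          Subtype.ext (by
            show t * (v : G) * t⁻¹ = v
            rw [← mem_C.1 v.2, mul_inv_cancel_right])
        rw [this]
      have := hq.inf_normalizer_sylow Qc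
      rw [inf_eq_left.2 hle] at this
      exact inf_eq_left.1 this.symm (mem_zpowers _)
    have hQp : IsPGroup 2 ((Qc : Subgroup (C t)).map (C t).subtype) := Qc.2.map _
    obtain ⟨Q, hQ⟩ := hQp.exists_le_sylow
    obtain ⟨g, hg⟩ := MulAction.exists_smul_eq G Q T
    have hin : ∀ v : C t, v ∈ (Qc : Subgroup (C t)) → g * (v : G) * g⁻¹ ∈ S := by
      intro v hv
      have : g * (v : G) * g⁻¹ ∈ ((g • Q : Sylow 2 G) : Subgroup G) :=
        mem_smul_sylow.2 (by simpa [mul_assoc] using hQ (mem_map_of_mem _ hv))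
      rw [hg] at this
      exact this
    by_cases he : g * t * g⁻¹ = t
    · refine ⟨g * t' * g⁻¹, hin _ (hQc (mem_zpowers _)), fun e => hg0ne ?_,
        (isConj_iff.2 ⟨g0, rfl⟩).trans (isConj_iff.2 ⟨g, rfl⟩)⟩
      exact mul_left_cancel (mul_right_cancel (e.trans he.symm))
    · exact ⟨g * t * g⁻¹, hin _ htQ, he, isConj_iff.2 ⟨g, rfl⟩⟩
  have hto : ∀ a, orderOf a = 2 → IsConj a t := by
    intro a ha
    obtain ⟨b, hb, hab⟩ := hall a ha
    refine hab.trans ?_
    by_cases hbt : b = t
    · rw [hbt]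
    · have hbo : orderOf b = 2 := by
        obtain ⟨g, rfl⟩ := isConj_iff.1 hab
        exact (orderOf_conj_elem g a).trans ha
      have hco : orderOf c = 2 := by
        obtain ⟨g, rfl⟩ := isConj_iff.1 hc
        exact (orderOf_conj_elem g t).trans ht.1
      exact (hrefl b c hb hcS hbo hco hbt hct).trans hc.symm
  exact (hto r hr).trans (hto r' hr').symm

theorem exists_inverted {t : G} (ht : orderOf t = 2) : ∃ P, Inverts t P := by
  obtain ⟨P⟩ : Nonempty (Sylow 3 G) := inferInstance
  obtain ⟨t0, h0⟩ := exists_inverts hG P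
  obtain ⟨g, hg⟩ := isConj_iff.1 (isConj_involutions hG h0.1 ht)
  exact ⟨g • P, hg ▸ h0.smul g⟩

/-- The centralizer of an involution is transitive on the Sylow 3-subgroups it inverts. -/
theorem Inverts.exists_smul {t : G} {P Q : Sylow 3 G} (h : Inverts t P) (h' : Inverts t Q) :
    ∃ c ∈ C t, c • P = Q := by
  obtain ⟨g, hg⟩ := MulAction.exists_smul_eq G P Q
  have hg' := h.smul g
  rw [hg] at hg'
  obtain ⟨q, hq, hqt⟩ := hg'.conj_to hG h'
  refine ⟨q * g, mem_C.2 ?_, by rw [mul_smul, hg]; exact mem_normalizer_sylow.1 (le_normalizer hq)⟩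
  calc q * g * t = q * (g * t * g⁻¹) * q⁻¹ * (q * g) := by group
    _ = t * (q * g) := by rw [hqt]

/-- Two Sylow 3-subgroups have at most one common inverting involution. -/
theorem inverts_unique {t t' : G} {P Q : Sylow 3 G} (hne : P ≠ Q) (h : Inverts t P)
    (h' : Inverts t' P) (k : Inverts t Q) (k' : Inverts t' Q) : t = t' := by
  by_contra htt
  refine hne (sylow_eq_of_mem hG P Q (h.mul_mem_of hG h') (k.mul_mem_of hG k') fun e => htt ?_)
  rw [eq_inv_of_mul_eq_one_left e, h'.inv]

/-- The stabilizer of a fixed Sylow 3-subgroup in the centralizer of an involution. -/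
theorem card_C_refl {r : G} {P : Sylow 3 G} (hr : orderOf r = 2) (h : Refl r P) :
    r ∈ NS P ∧ Nat.card (C r ⊓ NS P : Subgroup G) = 12 := by
  classical
  haveI : Fact (Nat.Prime 2) := ⟨Nat.prime_two⟩
  obtain ⟨z, hz, hz1, hc⟩ := h
  have hzo := orderOf_sylow hG P hz hz1
  have hrN : r ∈ NS P := C_three_le_normalizer hG P hz hz1 (mem_C.2 hc.eq)
  refine ⟨hrN, ?_⟩
  -- an inverting involution commuting with `r`
  obtain ⟨t₀, ht₀⟩ := exists_inverts hG P
  obtain ⟨t, ht, htr⟩ : ∃ t, Inverts t P ∧ Commute r t := by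
    let I := {t : G // Inverts t P}
    have hrr : r * r = 1 := by rw [← pow_two, ← hr, pow_orderOf_eq_one]
    have hmap : ∀ t : I, Inverts (r * (t : G) * r⁻¹) P := fun t => by
      have := t.2.smul r
      rwa [mem_normalizer_sylow.1 hrN] at this
    let f : I → I := fun t => ⟨r * (t : G) * r⁻¹, hmap t⟩
    have hff : Function.Involutive f := fun t => Subtype.ext (by
      show r * (r * (t : G) * r⁻¹) * r⁻¹ = t
      rw [show r * (r * (t : G) * r⁻¹) * r⁻¹ = (r * r) * t * (r * r)⁻¹ by group, hrr]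
      group)
    have hcard : Fintype.card I = 9 := by
      rw [← Nat.card_eq_fintype_card, ← card_sylow_three hG P]
      refine Nat.card_congr
        { toFun := fun t => ⟨t₀ * t, ht₀.mul_mem_of hG t.2⟩
          invFun := fun p => ⟨t₀ * p, ht₀.mul_mem_P hG p.2⟩
          left_inv := fun t => Subtype.ext (by
            show t₀ * (t₀ * (t : G)) = t
            rw [← mul_assoc, ht₀.sq, one_mul])
          right_inv := fun p => Subtype.ext (by
            show t₀ * (t₀ * (p : G)) = p
            rw [← mul_assoc, ht₀.sq, one_mul]) }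
    obtain ⟨a, ha⟩ := Equiv.Perm.exists_fixed_point_of_prime (p := 2) (n := 1)
      (σ := hff.toPerm f) (by rw [hcard]; norm_num)
      (Equiv.ext fun a => by simp [pow_succ, Equiv.Perm.mul_apply, hff a])
    exact ⟨a, a.2, mul_inv_eq_iff_eq_mul.1 (congrArg Subtype.val ha)⟩
  set K := C r ⊓ NS P
  have h3 : 3 ∣ Nat.card K := by
    rw [← hzo]
    exact Subgroup.orderOf_dvd_natCard _ ⟨mem_C.2 hc.eq.symm, le_normalizer hz⟩
  have hne : t ≠ r := fun e => ht.not_commute hG hz hz1 (e ▸ hc)
  have h4 : 4 ∣ Nat.card K := by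
    have hrr : r * r = 1 := by rw [← pow_two, ← hr, pow_orderOf_eq_one]
    let V : Subgroup G := zpowers r ⊔ zpowers t
    have hVK : V ≤ K := sup_le (zpowers_le.2 ⟨mem_C.2 rfl, hrN⟩)
      (zpowers_le.2 ⟨mem_C.2 htr.symm.eq, ht.mem_N⟩)
    have hdis : zpowers r ⊓ zpowers t = ⊥ := by
      refine (eq_bot_iff).2 fun v hv => ?_
      rw [mem_bot]
      by_contra hv1
      obtain ⟨hvr, hvt⟩ := hv
      have e1 : v = r := by
        change v ∈ zpowers r at hvr
        rw [mem_zpowers_iff_mem_range_orderOf, hr] at hvr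
        obtain ⟨i, hi, rfl⟩ := Finset.mem_image.1 hvr
        have := Finset.mem_range.1 hi
        interval_cases i
        · exact absurd (pow_zero r) hv1
        · exact pow_one r
      have e2 : v = t := by
        change v ∈ zpowers t at hvt
        rw [mem_zpowers_iff_mem_range_orderOf, ht.1] at hvt
        obtain ⟨i, hi, rfl⟩ := Finset.mem_image.1 hvt
        have := Finset.mem_range.1 hi
        interval_cases i
        · exact absurd (pow_zero t) hv1
        · exact pow_one t
      exact hne (e2.symm.trans e1)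
    let φ : zpowers r × zpowers t → K := fun q =>
      ⟨(q.1 : G) * q.2, mul_mem (hVK (mem_sup_left q.1.2)) (hVK (mem_sup_right q.2.2))⟩
    let ψ : zpowers r × zpowers t →* K :=
      { toFun := φ
        map_one' := Subtype.ext (mul_one 1)
        map_mul' := fun p q => Subtype.ext (by
          obtain ⟨i, hi⟩ := mem_zpowers_iff.1 q.1.2
          obtain ⟨j, hj⟩ := mem_zpowers_iff.1 p.2.2
          show (p.1 : G) * q.1 * ((p.2 : G) * q.2) = (p.1 : G) * p.2 * ((q.1 : G) * q.2)
          rw [← hi, ← hj]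
          have := (htr.zpow_zpow i j).eq
          calc (p.1 : G) * r ^ i * (t ^ j * q.2) = p.1 * (r ^ i * t ^ j) * q.2 := by group
            _ = p.1 * (t ^ j * r ^ i) * q.2 := by rw [this]
            _ = _ := by group) }
    have hψ : Function.Injective ψ := by
      rw [← MonoidHom.ker_eq_bot_iff, eq_bot_iff]
      rintro ⟨⟨a, ha⟩, ⟨b, hb⟩⟩ hab
      have hab' : a * b = 1 := congrArg Subtype.val (MonoidHom.mem_ker.1 hab)
      have : a ∈ zpowers r ⊓ zpowers t :=
        ⟨ha, by rw [eq_inv_of_mul_eq_one_left hab']; exact (zpowers t).inv_mem hb⟩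
      rw [hdis, mem_bot] at this
      subst this
      rw [one_mul] at hab'
      subst hab'
      exact mem_bot.2 rfl
    have h := card_subgroup_dvd_card ψ.range
    rw [← Nat.card_congr (MonoidHom.ofInjective hψ).toEquiv, Nat.card_prod, Nat.card_zpowers,
      Nat.card_zpowers, hr, ht.1] at h
    exact h
  have h12 : 12 ∣ Nat.card K :=
    (by norm_num : Nat.Coprime 3 4).mul_dvd_of_dvd_of_dvd h3 h4
  have hKd : Nat.card K ∣ 48 := card_C_involution hG hr ▸ card_dvd_of_le inf_le_left
  -- `K` normalizes the subgroup generated by `z`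
  have hfix : ∀ k ∈ K, k * z * k⁻¹ = z ∨ k * z * k⁻¹ = z⁻¹ := by
    intro k hk
    have hkP : k * z * k⁻¹ ∈ (P : Subgroup G) := (mem_normalizer_iff.1 hk.2 z).1 hz
    have hkc : Commute r (k * z * k⁻¹) := by
      have hkr : Commute r k := (mem_C.1 hk.1).symm
      exact (hkr.mul_right hc).mul_right hkr.inv_right
    by_cases hin : k * z * k⁻¹ ∈ zpowers z
    · rw [mem_zpowers_iff_mem_range_orderOf, hzo] at hin
      obtain ⟨i, hi, hi'⟩ := Finset.mem_image.1 hin
      have := Finset.mem_range.1 hi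
      interval_cases i
      · rw [pow_zero] at hi'
        exact absurd (conj_eq_one_iff.1 hi'.symm) hz1
      · exact Or.inl (by rw [← hi', pow_one])
      · refine Or.inr (hi'.symm.trans ?_)
        rw [eq_inv_iff_mul_eq_one, ← pow_succ, show (2 + 1 : ℕ) = orderOf z by omega,
          pow_orderOf_eq_one]
    · exfalso
      have hrP : r ∈ (P : Subgroup G) := mem_of_centralizes hG P fun v hv => by
        obtain ⟨i, -, j, -, rfl⟩ := exists_pow_mul_pow hG P hz hz1 hkP hin hv
        exact ((hc.pow_right i).mul_right (hkc.pow_right j)).eq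
      have := orderOf_sylow hG P hrP (fun e => by rw [e, orderOf_one] at hr; omega)
      omega
  have h36 : Nat.card K ≤ 2 * Nat.card (K ⊓ C z : Subgroup G) := by
    by_cases hall : ∀ k ∈ K, k * z * k⁻¹ = z
    · have : Nat.card K ≤ Nat.card (K ⊓ C z : Subgroup G) := card_le_of_le fun k hk =>
        ⟨hk, mem_C.2 (mul_inv_eq_iff_eq_mul.1 (hall k hk))⟩
      omega
    · push_neg at hall
      obtain ⟨k0, hk0, hk0z⟩ := hall
      have hk0' := (hfix k0 hk0).resolve_left hk0z
      let f : K → Bool × (K ⊓ C z : Subgroup G) := fun k =>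
        if h : (k : G) * z * (k : G)⁻¹ = z then
          (true, ⟨k, k.2, mem_C.2 (mul_inv_eq_iff_eq_mul.1 h)⟩)
        else (false, ⟨k0 * k, K.mul_mem hk0 k.2, mem_C.2 (mul_inv_eq_iff_eq_mul.1 (by
          calc k0 * k * z * (k0 * k)⁻¹ = k0 * ((k : G) * z * (k : G)⁻¹) * k0⁻¹ := by group
            _ = k0 * z⁻¹ * k0⁻¹ := by rw [(hfix k k.2).resolve_left h]
            _ = z := by rw [← conj_inv, hk0', inv_inv]))⟩)
      have hf : Function.Injective f := by
        intro a b hab
        simp only [f] at hab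
        split_ifs at hab with ha hb hb <;>
          simp only [Prod.mk.injEq, Bool.true_eq_false, Bool.false_eq_true,
            false_and, true_and] at hab
        · exact Subtype.ext (congrArg (fun x : (K ⊓ C z : Subgroup G) => (x : G)) hab)
        · exact Subtype.ext (mul_left_cancel
            (congrArg (fun x : (K ⊓ C z : Subgroup G) => (x : G)) hab))
      have := Nat.card_le_card_of_injective f hf
      rwa [Nat.card_prod, Nat.card_eq_fintype_card (α := Bool), Fintype.card_bool] at this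
  have h6 : Nat.card (K ⊓ C z : Subgroup G) ≤ 6 := by
    have h1 : Nat.card (K ⊓ C z : Subgroup G) ∣ 48 :=
      (card_dvd_of_le inf_le_left).trans hKd
    have h2 : Nat.card (K ⊓ C z : Subgroup G) ∣ 18 :=
      card_C_three hG hzo ▸ card_dvd_of_le inf_le_right
    exact Nat.le_of_dvd (by norm_num) ((Nat.dvd_gcd h1 h2).trans (by norm_num))
  have := Nat.le_of_dvd Nat.card_pos h12
  omega

omit hG in
theorem Refl.smul_C {r c : G} {P : Sylow 3 G} (h : Refl r P) (hc : c ∈ C r) : Refl r (c • P) := by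
  have := h.smul c
  rwa [mem_C.1 hc, mul_inv_cancel_right] at this

omit hG in
theorem Inverts.smul_C {t c : G} {P : Sylow 3 G} (h : Inverts t P) (hc : c ∈ C t) :
    Inverts t (c • P) := by
  have := h.smul c
  rwa [mem_C.1 hc, mul_inv_cancel_right] at this

omit [IsSimpleGroup G] hG in
/-- The orbit-stabilizer relation for Sylow subgroups. -/
theorem card_orbit_sylow (H : Subgroup G) (P : Sylow 3 G) :
    Nat.card (orbit H P) * Nat.card (H ⊓ NS P : Subgroup G) = Nat.card H := by
  rw [Nat.card_congr (orbitEquivQuotientStabilizer H P),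
    show Nat.card (H ⊓ NS P : Subgroup G) = Nat.card (stabilizer H P) by
      rw [← card_map_of_injective (K := stabilizer H P) H.subtype_injective]
      congr 2
      ext g
      simp only [Subgroup.mem_map, mem_stabilizer_iff, Subgroup.coe_subtype, mem_inf]
      constructor
      · rintro ⟨hg, hg'⟩
        exact ⟨⟨g, hg⟩, mem_normalizer_sylow.1 hg', rfl⟩
      · rintro ⟨x, hx, rfl⟩
        exact ⟨x.2, mem_normalizer_sylow.2 hx⟩]
  exact (Subgroup.card_eq_card_quotient_mul_card_subgroup _).symm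

/-- Four Sylow 3-subgroups meet the centralizer of an involution, in one orbit. -/
theorem refl_orbit {r : G} (hr : orderOf r = 2) {P Q : Sylow 3 G} (hP : Refl r P) (hQ : Refl r Q) :
    ∃ c ∈ C r, c • P = Q := by
  obtain ⟨z, hz, hz1, hzc⟩ := hP
  obtain ⟨z', hz', hz1', hzc'⟩ := hQ
  have hf : (Nat.card (C r)).factorization 3 = 1 := by
    rw [card_C_involution hG hr, show (48 : ℕ) = 3 * 16 by rfl,
      Nat.factorization_mul (by norm_num) (by norm_num), Finsupp.add_apply,
      (by norm_num : Nat.Prime 3).factorization_self,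
      Nat.factorization_eq_zero_of_not_dvd (by norm_num)]
  let mk : (v : C r) → orderOf v = 3 → Sylow 3 (C r) := fun v hv => Sylow.ofCard (zpowers v)
    (by rw [hf, Nat.card_zpowers, hv, pow_one])
  set v : C r := ⟨z, mem_C.2 hzc.symm.eq⟩
  set v' : C r := ⟨z', mem_C.2 hzc'.symm.eq⟩
  have hv : orderOf v = 3 := by rw [← Subgroup.orderOf_coe]; exact orderOf_sylow hG P hz hz1
  have hv' : orderOf v' = 3 := by rw [← Subgroup.orderOf_coe]; exact orderOf_sylow hG Q hz' hz1'
  obtain ⟨c, hc⟩ := MulAction.exists_smul_eq (C r) (mk v hv) (mk v' hv')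
  refine ⟨c, c.2, ?_⟩
  have hm : c * v * c⁻¹ ∈ ((c • mk v hv : Sylow 3 (C r)) : Subgroup (C r)) :=
    mem_smul_sylow.2 (by simp [mul_assoc, mk, Sylow.ofCard])
  rw [hc] at hm
  obtain ⟨k, hk⟩ : c * v * c⁻¹ ∈ zpowers v' := hm
  refine sylow_eq_of_mem hG _ _ (z := (c : G) * z * (c : G)⁻¹)
    (mem_smul_sylow.2 (by simpa [mul_assoc] using hz)) ?_ fun e => hz1 (conj_eq_one_iff.1 e)
  have hk' : z' ^ k = (c : G) * z * (c : G)⁻¹ := congrArg Subtype.val hk
  rw [← hk']
  exact zpow_mem hz' k

end Cfsg.Agent.Order7920
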