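import Cfsg.Agent.Lib.Order7920.Graph

/-!
# Triangles of Sylow 3-subgroups in a simple group of order 7920

An edge lies in one triangle `P, Q, R` of Sylow subgroups inverted by the same involution.  The
neighbourhood of `P` is the union of the two `P`-orbits of `Q` and of `R`; each of them is a
clique, and the only edges between them form a matching.
-/

namespace Cfsg.Agent.Order7920

open Subgroup MulAction

set_option linter.style.haveILetI false

variable {G : Type*} [Group G]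

/-- Three different Sylow 3-subgroups inverted by the same involution. -/
def Tri (P Q R : Sylow 3 G) : Prop :=
  P ≠ Q ∧ P ≠ R ∧ Q ≠ R ∧ ∃ t, Inverts t P ∧ Inverts t Q ∧ Inverts t R

theorem Tri.comm12 {P Q R : Sylow 3 G} : Tri P Q R → Tri Q P R :=
  fun ⟨a, b, c, t, p, q, r⟩ => ⟨a.symm, c, b, t, q, p, r⟩

theorem Tri.comm23 {P Q R : Sylow 3 G} : Tri P Q R → Tri P R Q :=
  fun ⟨a, b, c, t, p, q, r⟩ => ⟨b, a, c.symm, t, p, r, q⟩

theorem Tri.smul {P Q R : Sylow 3 G} (h : Tri P Q R) (g : G) : Tri (g • P) (g • Q) (g • R) := by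
  obtain ⟨a, b, c, t, p, q, r⟩ := h
  exact ⟨fun e => a (smul_left_cancel g e), fun e => b (smul_left_cancel g e),
    fun e => c (smul_left_cancel g e), g * t * g⁻¹, p.smul g, q.smul g, r.smul g⟩

theorem Tri.adj {P Q R : Sylow 3 G} : Tri P Q R → Adj P Q :=
  fun ⟨a, _, _, t, p, q, _⟩ => ⟨a, t, p, q⟩

open scoped Classical in
/-- The orbit of `Q` under the elements of `P`. -/
noncomputable def orb [Fintype G] (P Q : Sylow 3 G) : Finset (Sylow 3 G) :=
  (Finset.univ.filter fun p : G => p ∈ (P : Subgroup G)).image (· • Q)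

theorem mem_orb [Fintype G] {P Q X : Sylow 3 G} :
    X ∈ orb P Q ↔ ∃ p ∈ (P : Subgroup G), p • Q = X := by
  classical
  simp [orb]

theorem self_mem_orb [Fintype G] {P Q : Sylow 3 G} : Q ∈ orb P Q :=
  mem_orb.2 ⟨1, one_mem _, one_smul _ _⟩

theorem orb_eq_of_mem [Fintype G] {P Q X : Sylow 3 G} (hX : X ∈ orb P Q) :
    orb P X = orb P Q := by
  obtain ⟨p, hp, rfl⟩ := mem_orb.1 hX
  ext Y
  simp only [mem_orb]
  constructor
  · rintro ⟨q, hq, rfl⟩
    exact ⟨q * p, mul_mem hq hp, mul_smul _ _ _⟩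
  · rintro ⟨q, hq, rfl⟩
    exact ⟨q * p⁻¹, mul_mem hq (inv_mem hp), by rw [mul_smul, inv_smul_smul]⟩

theorem mem_orb_smul [Fintype G] (g : G) {P Q X : Sylow 3 G} :
    X ∈ orb (g • P) (g • Q) ↔ g⁻¹ • X ∈ orb P Q := by
  simp only [mem_orb, mem_smul_sylow]
  constructor
  · rintro ⟨w, hw, rfl⟩
    exact ⟨g⁻¹ * w * g, hw, by rw [mul_smul, mul_smul]⟩
  · rintro ⟨p, hp, hpX⟩
    refine ⟨g * p * g⁻¹, by simpa [mul_assoc] using hp, ?_⟩
    rw [mul_smul, mul_smul, inv_smul_smul, hpX, smul_inv_smul]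

variable [Fintype G] [IsSimpleGroup G] (hG : Nat.card G = 7920) [Fact (Nat.Prime 3)]
include hG

theorem mem_of_mem_NS (P Q : Sylow 3 G) {z : G} (hz : z ∈ (P : Subgroup G)) (hzQ : z ∈ NS Q) :
    z ∈ (Q : Subgroup G) := by
  by_cases h1 : z = 1
  · rw [h1]; exact one_mem _
  have hq : IsPGroup 3 (zpowers z) :=
    IsPGroup.of_card (n := 1) (by rw [Nat.card_zpowers, orderOf_sylow hG P hz h1, pow_one])
  have := hq.inf_normalizer_sylow Q
  rw [inf_eq_left.2 (show zpowers z ≤ normalizer (Q : Set G) from zpowers_le.2 hzQ)] at this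
  exact inf_eq_left.1 this.symm (mem_zpowers _)

theorem smul_ne_of_ne {P Q : Sylow 3 G} (hne : P ≠ Q) {p : G} (hp : p ∈ (P : Subgroup G))
    (h1 : p ≠ 1) : p • Q ≠ Q := fun e =>
  hne (sylow_eq_of_mem hG P Q hp (mem_of_mem_NS hG P Q hp (mem_normalizer_sylow.2 e)) h1)

theorem orb_inj {P Q : Sylow 3 G} (hne : P ≠ Q) {p p' : G} (hp : p ∈ (P : Subgroup G))
    (hp' : p' ∈ (P : Subgroup G)) (e : p • Q = p' • Q) : p = p' := by
  by_contra hpp
  refine smul_ne_of_ne hG hne (mul_mem (inv_mem hp') hp) (fun e' => hpp ?_)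
    (by rw [mul_smul, e, inv_smul_smul])
  exact (inv_mul_eq_one.1 e').symm

omit hG in
theorem smul_self_sylow {P : Sylow 3 G} {p : G} (hp : p ∈ (P : Subgroup G)) : p • P = P :=
  mem_normalizer_sylow.1 (le_normalizer hp)

theorem card_orb {P Q : Sylow 3 G} (hne : P ≠ Q) : (orb P Q).card = 9 := by
  classical
  rw [orb, Finset.card_image_of_injOn, ← Fintype.card_subtype, ← Nat.card_eq_fintype_card,
    card_sylow_three hG P]
  intro p hp p' hp' e
  exact orb_inj hG hne (Finset.mem_filter.1 hp).2 (Finset.mem_filter.1 hp').2 e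

theorem exists_tri (P : Sylow 3 G) : ∃ Q R, Tri P Q R := by
  obtain ⟨t, ht⟩ := exists_inverts hG P
  obtain ⟨Q, R, a, b, c, hQ, hR, -⟩ := inverts_exists_three hG ht
  exact ⟨Q, R, a, b, c, t, ht, hQ, hR⟩

theorem Adj.exists_third {P Q : Sylow 3 G} (h : Adj P Q) : ∃ R, Tri P Q R := by
  obtain ⟨hne, t, hP, hQ⟩ := h
  obtain ⟨A, B, a, b, c, hA, hB, hall⟩ := inverts_exists_three hG hP
  rcases hall Q hQ with e | e | e
  · exact absurd e.symm hne
  · subst e; exact ⟨B, a, b, c, t, hP, hQ, hB⟩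
  · subst e; exact ⟨A, b, a, c.symm, t, hP, hQ, hA⟩

theorem Tri.inverted {P Q R : Sylow 3 G} (h : Tri P Q R) {t : G} (hP : Inverts t P)
    (hQ : Inverts t Q) : Inverts t R ∧ ∀ X, Inverts t X → X = P ∨ X = Q ∨ X = R := by
  obtain ⟨a, b, c, t', p, q, r⟩ := h
  obtain rfl := inverts_unique hG a hP p hQ q
  refine ⟨r, fun X hX => ?_⟩
  obtain ⟨A, B, a', b', c', -, -, hall⟩ := inverts_exists_three hG hP
  rcases hall Q hQ with e1 | e1 | e1 <;> rcases hall R r with e2 | e2 | e2 <;>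
    rcases hall X hX with e3 | e3 | e3 <;> subst_vars <;> simp_all

theorem Tri.third_unique {P Q R R' : Sylow 3 G} (h : Tri P Q R) (h' : Tri P Q R') : R = R' := by
  obtain ⟨a, b, c, t, p, q, r⟩ := h'
  rcases (h.inverted hG p q).2 R' r with e | e | e
  · exact absurd e.symm b
  · exact absurd e.symm c
  · exact e.symm

theorem Tri.stab {P Q R : Sylow 3 G} (h : Tri P Q R) {t : G} (hP : Inverts t P)
    (hQ : Inverts t Q) {s : G} (hs : s ∈ NS P ⊓ NS Q) : s ∈ C t ∧ s • R = R := by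
  have hsP : s • P = P := mem_normalizer_sylow.1 hs.1
  have hsQ : s • Q = Q := mem_normalizer_sylow.1 hs.2
  have h1 := hP.smul s
  have h2 := hQ.smul s
  rw [hsP] at h1
  rw [hsQ] at h2
  refine ⟨mem_C.2 (mul_inv_eq_iff_eq_mul.1 (inverts_unique hG h.1 h1 hP h2 hQ)), ?_⟩
  have h3 := h.smul s
  rw [hsP, hsQ] at h3
  exact h3.third_unique hG h

/-- The stabilizer of an edge is semiregular on the non-identity elements of `P`. -/
theorem Tri.not_commute {P Q R : Sylow 3 G} (h : Tri P Q R) {s z : G} (hs : s ∈ NS P ⊓ NS Q)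
    (hz : z ∈ (P : Subgroup G)) (hz1 : z ≠ 1) (hsz : Commute s z) : s = 1 := by
  haveI : Fact (Nat.Prime 2) := ⟨Nat.prime_two⟩
  by_contra hs1
  obtain ⟨a, b, c, t, hP, hQ, hR⟩ := id h
  set K := (NS P ⊓ NS Q) ⊓ C z
  have hK1 : Nat.card K ≠ 1 := fun e => hs1 (by
    have : s ∈ K := ⟨hs, mem_C.2 hsz⟩
    rw [eq_bot_of_card_eq K e] at this
    exact this)
  have hK8 : Nat.card K ∣ 8 := card_edge_stab hG hP hQ a ▸ card_dvd_of_le inf_le_left
  have h2 : 2 ∣ Nat.card K := by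
    obtain ⟨k, -, hk⟩ := (Nat.dvd_prime_pow Nat.prime_two).1 (show Nat.card K ∣ 2 ^ 3 from hK8)
    rcases k with _ | k
    · exact absurd hk hK1
    · rw [hk]; exact dvd_pow_self 2 (by omega)
  obtain ⟨r', hr'⟩ := exists_prime_orderOf_dvd_card' (G := K) 2 h2
  set r : G := (r' : G) with hrdef
  have hr : orderOf r = 2 := by rw [hrdef, Subgroup.orderOf_coe, hr']
  obtain ⟨hrt, hrR⟩ := h.stab hG hP hQ r'.2.1
  have htr : Commute t r := (mem_C.1 hrt).symm
  have hrz : Commute r z := mem_C.1 r'.2.2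
  have hne : r ≠ t := fun e => hP.not_commute hG hz hz1 (e ▸ hrz)
  have rP : Refl r P := ⟨z, hz, hz1, hrz⟩
  have rQ : Refl r Q := refl_ne hG hQ hr r'.2.1.2 htr hne
  have rR : Refl r R := refl_ne hG hR hr (mem_normalizer_sylow.2 hrR) htr hne
  have hfix := refl_fix_all hG hr (mem_C.2 htr) rP rQ rR a b c
    (mem_normalizer_sylow.1 hP.mem_N) (mem_normalizer_sylow.1 hQ.mem_N)
    (mem_normalizer_sylow.1 hR.mem_N) (rQ.smul_C (c := z) (mem_C.2 hrz.symm))
  have h3 : (t * z) • z • Q = z • Q := by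
    rw [← hP.conj_eq hG hz, mul_smul, mul_smul, inv_smul_smul,
      mem_normalizer_sylow.1 hQ.mem_N]
  rw [mul_smul] at h3
  exact smul_ne_of_ne hG a hz hz1
    (smul_left_cancel z (smul_left_cancel t (h3.trans hfix.symm)))

/-- The stabilizer of an edge is transitive on the non-identity elements of `P`. -/
theorem Tri.exists_conj {P Q R : Sylow 3 G} (h : Tri P Q R) {z w : G}
    (hz : z ∈ (P : Subgroup G)) (hz1 : z ≠ 1) (hw : w ∈ (P : Subgroup G)) (hw1 : w ≠ 1) :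
    ∃ s ∈ NS P ⊓ NS Q, s * z * s⁻¹ = w := by
  classical
  obtain ⟨a, b, c, t, hP, hQ, hR⟩ := id h
  let f : (NS P ⊓ NS Q : Subgroup G) → {w : G // w ∈ (P : Subgroup G) ∧ w ≠ 1} := fun s =>
    ⟨s * z * (s : G)⁻¹, (mem_normalizer_iff.1 s.2.1 z).1 hz, fun e => hz1 (conj_eq_one_iff.1 e)⟩
  have hf : Function.Injective f := by
    intro s s' e
    have e' : (s : G) * z * (s : G)⁻¹ = s' * z * (s' : G)⁻¹ := congrArg Subtype.val e
    have hc : Commute ((s' : G)⁻¹ * s) z := by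
      show (s' : G)⁻¹ * s * z = z * ((s' : G)⁻¹ * s)
      calc (s' : G)⁻¹ * s * z = (s' : G)⁻¹ * (s * z * (s : G)⁻¹) * s := by group
        _ = (s' : G)⁻¹ * (s' * z * (s' : G)⁻¹) * s := by rw [e']
        _ = z * ((s' : G)⁻¹ * s) := by group
    exact Subtype.ext
      (inv_mul_eq_one.1 (h.not_commute hG (mul_mem (inv_mem s'.2) s.2) hz hz1 hc)).symm
  have hc8 : Nat.card {w : G // w ∈ (P : Subgroup G) ∧ w ≠ 1} = 8 := by
    rw [Nat.card_eq_fintype_card, Fintype.card_subtype,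
      show (Finset.univ.filter fun w : G => w ∈ (P : Subgroup G) ∧ w ≠ 1) =
        (Finset.univ.filter fun w : G => w ∈ (P : Subgroup G)).erase 1 by ext v; simp [and_comm],
      Finset.card_erase_of_mem (by simp [one_mem]), ← Fintype.card_subtype,
      ← Nat.card_eq_fintype_card, card_sylow_three hG P]
  have hb : Function.Bijective f :=
    hf.bijective_of_nat_card_le (by rw [hc8, card_edge_stab hG hP hQ a])
  obtain ⟨s, hs⟩ := hb.2 ⟨w, hw, hw1⟩
  exact ⟨s, s.2, congrArg Subtype.val hs⟩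

/-- All ordered triangles are conjugate. -/
theorem Tri.exists_smul {P Q R P' Q' R' : Sylow 3 G} (h : Tri P Q R) (h' : Tri P' Q' R') :
    ∃ g : G, g • P = P' ∧ g • Q = Q' ∧ g • R = R' := by
  obtain ⟨g, hg⟩ := MulAction.exists_smul_eq G P P'
  have h1 := h.smul g
  rw [hg] at h1
  obtain ⟨n, hn, hnQ⟩ := nb_subset_orbit hG h1.adj Q' (mem_nb.2 h'.adj)
  have hnP : n • P' = P' := mem_normalizer_sylow.1 hn
  refine ⟨n * g, by rw [mul_smul, hg, hnP], by rw [mul_smul, hnQ], ?_⟩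
  have h2 := h1.smul n
  rw [hnP, hnQ] at h2
  rw [mul_smul]
  exact h2.third_unique hG h'

theorem Tri.orb_ne {P Q R : Sylow 3 G} (h : Tri P Q R) {X : Sylow 3 G} (hX : X ∈ orb P Q) :
    X ∉ orb P R := by
  intro hX'
  have hQR : Q ∈ orb P R := by
    rw [← orb_eq_of_mem hX', orb_eq_of_mem hX]; exact self_mem_orb
  obtain ⟨p, hp, e⟩ := mem_orb.1 hQR
  obtain ⟨a, b, c, t, hP, hQ, hR⟩ := h
  have h3 := hR.smul p
  rw [e, hP.conj_eq hG hp] at h3
  have := inverts_unique hG a hP (hP.mul_mem_P hG hp) hQ h3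
  rw [left_eq_mul.1 this, one_smul] at e
  exact c e.symm

theorem Tri.nb_eq [DecidableEq (Sylow 3 G)] {P Q R : Sylow 3 G} (h : Tri P Q R) :
    nb P = orb P Q ∪ orb P R := by
  symm
  refine Finset.eq_of_subset_of_card_le (Finset.union_subset ?_ ?_) ?_
  · intro X hX
    obtain ⟨p, hp, rfl⟩ := mem_orb.1 hX
    exact mem_nb.2 (smul_self_sylow hp ▸ (adj_smul p).2 h.adj)
  · intro X hX
    obtain ⟨p, hp, rfl⟩ := mem_orb.1 hX
    exact mem_nb.2 (smul_self_sylow hp ▸ (adj_smul p).2 h.comm23.adj)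
  · rw [Finset.card_union_of_disjoint (Finset.disjoint_left.2 fun X hX => h.orb_ne hG hX),
      card_orb hG h.1, card_orb hG h.2.1, card_nb hG P]

theorem Tri.adj_cases {P Q R X : Sylow 3 G} (h : Tri P Q R) (hX : Adj P X) :
    (∃ p ∈ (P : Subgroup G), p • Q = X) ∨ ∃ p ∈ (P : Subgroup G), p • R = X := by
  classical
  have := mem_nb.2 hX
  rw [h.nb_eq hG, Finset.mem_union, mem_orb, mem_orb] at this
  exact this

/-- The pattern inside the neighbourhood does not depend on the triangle. -/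
theorem Tri.pattern {P Q R P' Q' R' : Sylow 3 G} (h : Tri P Q R) (h' : Tri P' Q' R') {p p' : G}
    (hp : p ∈ (P : Subgroup G)) (h1 : p ≠ 1) (hp' : p' ∈ (P' : Subgroup G)) (h1' : p' ≠ 1) :
    (Adj Q (p • Q) → Adj Q' (p' • Q')) ∧ (Adj Q (p • R) → Adj Q' (p' • R')) := by
  obtain ⟨g, gP, gQ, gR⟩ := h.exists_smul hG h'
  have hq : g * p * g⁻¹ ∈ (P' : Subgroup G) := by
    rw [← gP, mem_smul_sylow]; simpa [mul_assoc] using hp
  obtain ⟨s, hs, hsp⟩ := h'.exists_conj hG hq (fun e => h1 (conj_eq_one_iff.1 e)) hp' h1'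
  obtain ⟨a, b, c, t, hP, hQ, hR⟩ := id h'
  have sQ : s • Q' = Q' := mem_normalizer_sylow.1 hs.2
  have sR : s • R' = R' := (h'.stab hG hP hQ hs).2
  have key : ∀ X : Sylow 3 G, s • g • p • X = p' • s • g • X := by
    intro X
    rw [← mul_smul, ← mul_smul, ← mul_smul, ← mul_smul, ← hsp]
    congr 1
    group
  refine ⟨fun hA => ?_, fun hA => ?_⟩
  · have := (adj_smul s).2 ((adj_smul g).2 hA)
    rwa [key, gQ, sQ] at this
  · have := (adj_smul s).2 ((adj_smul g).2 hA)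
    rwa [key, gQ, sQ, gR, sR] at this

omit [IsSimpleGroup G] hG in
theorem adj_shift {p p' : G} {Q X : Sylow 3 G} :
    Adj (p • Q) (p' • X) ↔ Adj Q ((p⁻¹ * p') • X) := by
  rw [← adj_smul p⁻¹, inv_smul_smul, mul_smul]

end Cfsg.Agent.Order7920
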