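import Cfsg.Agent.Lib.Order7920.Local

/-!
# The neighbourhood pattern of the graph on 55 vertices

The orbit of a neighbour under `P` is a clique, and two orbits are joined only by a matching: the
three other possible patterns contradict counting on 55 vertices.
-/

namespace Cfsg.Agent.Order7920

open Subgroup MulAction

set_option linter.style.haveILetI false

variable {G : Type*} [Group G]

/-- Neighbours in one orbit are adjacent. -/
def PatSame (G : Type*) [Group G] : Prop :=
  ∀ P Q R : Sylow 3 G, Tri P Q R → ∀ p ∈ (P : Subgroup G), p ≠ 1 → Adj Q (p • Q)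

/-- Neighbours in different orbits are adjacent. -/
def PatCross (G : Type*) [Group G] : Prop :=
  ∀ P Q R : Sylow 3 G, Tri P Q R → ∀ p ∈ (P : Subgroup G), p ≠ 1 → Adj Q (p • R)

theorem Adj.ne {P Q : Sylow 3 G} (h : Adj P Q) : P ≠ Q := h.1

variable [Fintype G] [IsSimpleGroup G] (hG : Nat.card G = 7920) [Fact (Nat.Prime 3)]
include hG

theorem not_patSame (h : ¬ PatSame G) {P Q R : Sylow 3 G} (hT : Tri P Q R) {p : G}
    (hp : p ∈ (P : Subgroup G)) (h1 : p ≠ 1) : ¬ Adj Q (p • Q) :=
  fun hA => h fun _ _ _ hT' _ hp' h1' => (hT.pattern hG hT' hp h1 hp' h1').1 hA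

theorem not_patCross (h : ¬ PatCross G) {P Q R : Sylow 3 G} (hT : Tri P Q R) {p : G}
    (hp : p ∈ (P : Subgroup G)) (h1 : p ≠ 1) : ¬ Adj Q (p • R) :=
  fun hA => h fun _ _ _ hT' _ hp' h1' => (hT.pattern hG hT' hp h1 hp' h1').2 hA

omit [IsSimpleGroup G] hG in
theorem same_adj (ha : PatSame G) {P Q R : Sylow 3 G} (hT : Tri P Q R) {p p' : G}
    (hp : p ∈ (P : Subgroup G)) (hp' : p' ∈ (P : Subgroup G)) (hne : p ≠ p') :
    Adj (p • Q) (p' • Q) :=
  adj_shift.2 (ha P Q R hT _ (mul_mem (inv_mem hp) hp') fun e => hne (inv_mul_eq_one.1 e))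

omit [IsSimpleGroup G] hG in
theorem cross_adj (hb : PatCross G) {P Q R : Sylow 3 G} (hT : Tri P Q R) {p p' : G}
    (hp : p ∈ (P : Subgroup G)) (hp' : p' ∈ (P : Subgroup G)) :
    Adj (p • Q) (p' • R) := by
  refine adj_shift.2 ?_
  by_cases e : p⁻¹ * p' = 1
  · rw [e, one_smul]; exact hT.comm12.comm23.adj
  · exact hb P Q R hT _ (mul_mem (inv_mem hp) hp') e

theorem card_univ_sylow [Fintype (Sylow 3 G)] : (Finset.univ : Finset (Sylow 3 G)).card = 55 := by
  obtain ⟨P⟩ : Nonempty (Sylow 3 G) := inferInstance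
  rw [Finset.card_univ, ← Nat.card_eq_fintype_card]
  exact card_vertices hG P (card_normalizer_three hG P)

theorem patterns_not_both (ha : PatSame G) (hb : PatCross G) : False := by
  classical
  haveI := Fintype.ofFinite (Sylow 3 G)
  have hcl : ∀ {P X Y : Sylow 3 G}, Adj P X → Adj P Y → X ≠ Y → Adj X Y := by
    intro P X Y hX hY hne
    obtain ⟨Q, R, hT⟩ := exists_tri hG P
    rcases hT.adj_cases hG hX with ⟨p, hp, rfl⟩ | ⟨p, hp, rfl⟩ <;>
      rcases hT.adj_cases hG hY with ⟨p', hp', rfl⟩ | ⟨p', hp', rfl⟩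
    · exact same_adj ha hT hp hp' fun e => hne (by rw [e])
    · exact cross_adj hb hT hp hp'
    · exact (cross_adj hb hT hp' hp).symm
    · exact same_adj ha hT.comm23 hp hp' fun e => hne (by rw [e])
  have hcard : ∀ P : Sylow 3 G, (insert P (nb P)).card = 19 := by
    intro P
    rw [Finset.card_insert_of_notMem fun h => (mem_nb.1 h).1 rfl, card_nb hG P]
  have hdis : ∀ P W : Sylow 3 G, W ∉ insert P (nb P) →
      Disjoint (insert P (nb P)) (insert W (nb W)) := by
    intro P W hW
    rw [Finset.disjoint_left]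
    intro Z hZ hZ'
    simp only [Finset.mem_insert, mem_nb, not_or] at hW hZ hZ'
    rcases hZ with rfl | hZ <;> rcases hZ' with e | hZ'
    · exact hW.1 e.symm
    · exact hW.2 hZ'.symm
    · subst e; exact hW.2 hZ
    · exact hW.2 (hcl hZ.symm hZ'.symm (Ne.symm hW.1))
  obtain ⟨P⟩ : Nonempty (Sylow 3 G) := inferInstance
  obtain ⟨W, hW⟩ := Finset.exists_mem_notMem_of_card_lt_card
    (s := insert P (nb P)) (t := Finset.univ) (by rw [hcard, card_univ_sylow hG]; norm_num)
  obtain ⟨V, hV⟩ := Finset.exists_mem_notMem_of_card_lt_card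
    (s := insert P (nb P) ∪ insert W (nb W)) (t := Finset.univ) (by
      rw [Finset.card_union_of_disjoint (hdis P W hW.2), hcard, hcard, card_univ_sylow hG]
      norm_num)
  have h57 := Finset.card_le_univ (insert P (nb P) ∪ insert W (nb W) ∪ insert V (nb V))
  rw [Finset.card_union_of_disjoint (Finset.disjoint_union_left.2
      ⟨hdis P V fun h => hV.2 (Finset.mem_union_left _ h),
        hdis W V fun h => hV.2 (Finset.mem_union_right _ h)⟩),
    Finset.card_union_of_disjoint (hdis P W hW.2), hcard, hcard, hcard,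
    ← Finset.card_univ, card_univ_sylow hG] at h57
  omega

theorem patterns_not_cross (ha : ¬ PatSame G) (hb : PatCross G) : False := by
  classical
  haveI := Fintype.ofFinite (Sylow 3 G)
  have horb : ∀ {P Q R : Sylow 3 G}, Tri P Q R → orb P R = orb Q R := by
    intro P Q R hT
    refine Finset.eq_of_subset_of_card_le (fun X hX => ?_)
      (by rw [card_orb hG hT.2.2.1, card_orb hG hT.2.1])
    obtain ⟨p, hp, rfl⟩ := mem_orb.1 hX
    by_cases hp1 : p = 1
    · rw [hp1, one_smul]; exact self_mem_orb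
    rcases hT.comm12.adj_cases hG (hb P Q R hT p hp hp1) with ⟨q, hq, e⟩ | ⟨q, hq, e⟩
    · exfalso
      by_cases hq1 : q = 1
      · rw [hq1, one_smul] at e
        exact hT.2.1 (smul_left_cancel p ((smul_self_sylow hp).trans e))
      · exact not_patSame hG ha hT.comm23 hp hp1 (e ▸ hb Q R P hT.comm12.comm23 q hq hq1)
    · exact mem_orb.2 ⟨q, hq, e⟩
  have hclass : ∀ P : Sylow 3 G, (Finset.univ.filter fun Y => nb Y = nb P).card = 9 := by
    intro P
    obtain ⟨Q, R, hT⟩ := exists_tri hG P
    have he : (Finset.univ.filter fun Y => nb Y = nb P) = orb Q P := by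
      ext Y
      simp only [Finset.mem_filter, Finset.mem_univ, true_and]
      refine ⟨fun hY => ?_, fun hY => ?_⟩
      · have hQY : Adj Q Y := by
          have : Adj Y Q := mem_nb.1 (hY ▸ mem_nb.2 hT.adj)
          exact this.symm
        rcases hT.comm12.adj_cases hG hQY with h | h
        · exact mem_orb.2 h
        · exfalso
          have : Y ∈ orb P R := horb hT ▸ mem_orb.2 h
          obtain ⟨p, hp, rfl⟩ := mem_orb.1 this
          have h' : p • R ∈ nb P := mem_nb.2 (smul_self_sylow hp ▸ (adj_smul p).2 hT.comm23.adj)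
          exact (mem_nb.1 (hY.symm ▸ h')).1 rfl
      · refine (Finset.eq_of_subset_of_card_le (fun X hX => mem_nb.2 ?_)
          (by rw [card_nb hG, card_nb hG])).symm
        rcases hT.adj_cases hG (mem_nb.1 hX) with h | h
        · have h1 : X ∈ orb R Q := horb hT.comm23 ▸ mem_orb.2 h
          have h2 : Y ∈ orb R P := horb hT.comm12.comm23 ▸ hY
          obtain ⟨r, hr, rfl⟩ := mem_orb.1 h1
          obtain ⟨r', hr', rfl⟩ := mem_orb.1 h2
          exact cross_adj hb hT.comm23.comm12 hr' hr
        · have h1 : X ∈ orb Q R := horb hT ▸ mem_orb.2 h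
          obtain ⟨q, hq, rfl⟩ := mem_orb.1 h1
          obtain ⟨q', hq', rfl⟩ := mem_orb.1 hY
          exact cross_adj hb hT.comm12 hq' hq
    rw [he, card_orb hG hT.1.symm]
  have h := Finset.card_eq_sum_card_image (fun Y : Sylow 3 G => nb Y) Finset.univ
  rw [card_univ_sylow hG, Finset.sum_const_nat (m := 9)] at h
  · omega
  · intro s hs
    obtain ⟨P, -, rfl⟩ := Finset.mem_image.1 hs
    exact hclass P

theorem patterns_not_neither (ha : ¬ PatSame G) (hb : ¬ PatCross G) : False := by
  classical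
  haveI := Fintype.ofFinite (Sylow 3 G)
  -- an edge lies in one triangle of the graph
  have L1 : ∀ {P Q R Z : Sylow 3 G}, Tri P Q R → Adj P Z → Adj Q Z → Z = R := by
    intro P Q R Z hT hPZ hQZ
    rcases hT.adj_cases hG hPZ with ⟨p, hp, rfl⟩ | ⟨p, hp, rfl⟩ <;> by_cases h1 : p = 1
    · rw [h1, one_smul] at hQZ; exact absurd rfl hQZ.1
    · exact absurd hQZ (not_patSame hG ha hT hp h1)
    · rw [h1, one_smul]
    · exact absurd hQZ (not_patCross hG hb hT hp h1)
  let F : Sylow 3 G → Finset (Sylow 3 G) := fun P => Finset.univ.filter fun W => W ≠ P ∧ ¬ Adj P W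
  have hF : ∀ {P W}, W ∈ F P ↔ W ≠ P ∧ ¬ Adj P W := fun {P W} => by simp [F]
  have hFc : ∀ P, (F P).card = 36 := by
    intro P
    have : F P = (Finset.univ.erase P) \ nb P := by ext W; simp [F, mem_nb]
    rw [this, Finset.card_sdiff_of_subset, card_nb hG P, Finset.card_erase_of_mem (Finset.mem_univ _),
      card_univ_sylow hG]
    intro V hV
    exact Finset.mem_erase.2 ⟨(mem_nb.1 hV).1.symm, Finset.mem_univ _⟩
  -- two vertices at distance two have eight common neighbours
  have h8 : ∀ {P W}, W ∈ F P → ((nb P).filter fun X => Adj X W).card = 8 := by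
    intro P W hW
    have hconst : ∀ V ∈ F P,
        ((nb P).filter fun X => Adj X V).card = ((nb P).filter fun X => Adj X W).card := by
      intro V hV
      obtain ⟨n, hn, rfl⟩ := far_transitive hG (hF.1 hW) (hF.1 hV)
      have hnP : n • P = P := mem_normalizer_sylow.1 hn
      symm
      refine Finset.card_bij (fun X _ => n • X) (fun X hX => ?_)
        (fun a _ b _ e => smul_left_cancel n e) (fun Y hY => ?_)
      · simp only [Finset.mem_filter, mem_nb] at hX ⊢
        exact ⟨by rw [← hnP, adj_smul]; exact hX.1, (adj_smul n).2 hX.2⟩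
      · simp only [Finset.mem_filter, mem_nb] at hY
        refine ⟨n⁻¹ • Y, ?_, smul_inv_smul n Y⟩
        simp only [Finset.mem_filter, mem_nb]
        refine ⟨(adj_smul n).1 ?_, (adj_smul n).1 ?_⟩ <;> rw [smul_inv_smul]
        · rw [hnP]; exact hY.1
        · exact hY.2
    have h16 : ∀ X ∈ nb P, ((F P).filter fun V => Adj X V).card = 16 := by
      intro X hX
      obtain ⟨R, hT⟩ := (mem_nb.1 hX).exists_third hG
      have : ((F P).filter fun V => Adj X V) = ((nb X).erase P).erase R := by
        ext V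
        simp only [Finset.mem_filter, hF, Finset.mem_erase, mem_nb]
        refine ⟨fun h => ⟨fun e => h.1.2 (e ▸ hT.comm23.adj), h.1.1, h.2⟩, fun h => ⟨⟨h.2.1, fun h' => h.1 ?_⟩, h.2.2⟩⟩
        exact L1 hT h' h.2.2
      rw [this, Finset.card_erase_of_mem, Finset.card_erase_of_mem, card_nb hG X]
      · exact mem_nb.2 hT.comm12.adj
      · exact Finset.mem_erase.2 ⟨hT.2.1.symm, mem_nb.2 hT.comm12.comm23.adj⟩
    have := Finset.sum_card_bipartiteAbove_eq_sum_card_bipartiteBelow
      (fun X V => Adj X V) (s := nb P) (t := F P)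
    simp only [Finset.bipartiteAbove, Finset.bipartiteBelow] at this
    rw [Finset.sum_const_nat h16, Finset.sum_const_nat hconst, hFc, card_nb hG P] at this
    omega
  obtain ⟨P⟩ : Nonempty (Sylow 3 G) := inferInstance
  obtain ⟨Q, R, hT⟩ := exists_tri hG P
  set O := orb P Q with hO
  set O2 := orb P R with hO2
  have hnb : nb P = O ∪ O2 := hT.nb_eq hG
  have hdisj : Disjoint O O2 := Finset.disjoint_left.2 fun X hX => hT.orb_ne hG hX
  -- the product of the two numbers of neighbours is constant on the far vertices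
  let f : Sylow 3 G → ℕ := fun W => (O.filter (Adj · W)).card * (O2.filter (Adj · W)).card
  have himg : ∀ (n : G) (A : Sylow 3 G) (W : Sylow 3 G), n ∈ NS P →
      ((orb P (n • A)).filter (Adj · (n • W))).card = ((orb P A).filter (Adj · W)).card := by
    intro n A W hn
    have hnP : n • P = P := mem_normalizer_sylow.1 hn
    symm
    refine Finset.card_bij (fun X _ => n • X) (fun X hX => ?_)
      (fun a _ b _ e => smul_left_cancel n e) (fun Y hY => ?_)
    · rw [Finset.mem_filter] at hX ⊢
      have : n • X ∈ orb (n • P) (n • A) := (mem_orb_smul n).2 (by rw [inv_smul_smul]; exact hX.1)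
      rw [hnP] at this
      exact ⟨this, (adj_smul n).2 hX.2⟩
    · rw [Finset.mem_filter] at hY
      refine ⟨n⁻¹ • Y, Finset.mem_filter.2 ⟨?_, (adj_smul n).1 ?_⟩, smul_inv_smul n Y⟩
      · exact (mem_orb_smul n).1 (by rw [hnP]; exact hY.1)
      · rw [smul_inv_smul]; exact hY.2
  have hf : ∀ W ∈ F P, ∀ V ∈ F P, f V = f W := by
    intro W hW V hV
    obtain ⟨n, hn, rfl⟩ := far_transitive hG (hF.1 hW) (hF.1 hV)
    have hT' := hT.smul n
    rw [mem_normalizer_sylow.1 hn] at hT'
    show _ * _ = (O.filter (Adj · W)).card * (O2.filter (Adj · W)).card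
    rw [← himg n Q W hn, ← himg n R W hn]
    rcases hT.adj_cases hG hT'.adj with ⟨p, hp, e⟩ | ⟨p, hp, e⟩
    · have h' := hT.smul p
      rw [smul_self_sylow hp, e] at h'
      have eR : p • R = n • R := h'.third_unique hG hT'
      rw [orb_eq_of_mem (mem_orb.2 ⟨p, hp, e⟩), orb_eq_of_mem (mem_orb.2 ⟨p, hp, eR⟩)]
    · have h' := hT.comm23.smul p
      rw [smul_self_sylow hp, e] at h'
      have eQ : p • Q = n • R := h'.third_unique hG hT'
      rw [orb_eq_of_mem (mem_orb.2 ⟨p, hp, e⟩), orb_eq_of_mem (mem_orb.2 ⟨p, hp, eQ⟩), mul_comm]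
  -- count the paths of length two between the two orbits
  have hpair : ∀ X ∈ O, ∀ Y ∈ O2,
      ((F P).filter fun W => Adj X W ∧ Adj Y W).card = if Adj X Y then 0 else 7 := by
    intro X hX Y hY
    have hXn : Adj P X := mem_nb.1 (hnb ▸ Finset.mem_union_left _ hX)
    have hYn : Adj P Y := mem_nb.1 (hnb ▸ Finset.mem_union_right _ hY)
    have hXY : X ≠ Y := fun e => hT.orb_ne hG hX (e ▸ hY)
    obtain ⟨Z, hTX⟩ := hXn.exists_third hG
    obtain ⟨Z', hTY⟩ := hYn.exists_third hG
    split_ifs with hA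
    · have hYZ : Y = Z := L1 hTX hYn hA
      subst hYZ
      rw [Finset.card_eq_zero, Finset.filter_eq_empty_iff]
      intro W hW h
      exact (hF.1 hW).1 (L1 hTX.comm12.comm23 h.1 h.2)
    · have hfar : Y ∈ F X := hF.2 ⟨hXY.symm, hA⟩
      have h := h8 hfar
      have he : ((nb X).filter fun W => Adj W Y) =
          insert P ((F P).filter fun W => Adj X W ∧ Adj Y W) := by
        ext W
        simp only [Finset.mem_filter, mem_nb, Finset.mem_insert, hF]
        constructor
        · intro hW
          by_cases hWP : W = P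
          · exact Or.inl hWP
          refine Or.inr ⟨⟨hWP, fun hPW => ?_⟩, hW.1, hW.2.symm⟩
          have e1 : W = Z := L1 hTX hPW hW.1
          subst e1
          exact hXY (L1 hTX.comm23 hYn hW.2).symm
        · rintro (rfl | hW)
          · exact ⟨hXn.symm, hYn⟩
          · exact ⟨hW.2.1, hW.2.2.symm⟩
      rw [he, Finset.card_insert_of_notMem (by simp [hF])] at h
      omega
  have hm : ∀ X ∈ O, ((O2.filter fun Y => Adj X Y)).card = 1 := by
    intro X hX
    obtain ⟨p, hp, rfl⟩ := mem_orb.1 hX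
    refine Finset.card_eq_one.2 ⟨p • R, ?_⟩
    ext Y
    simp only [Finset.mem_filter, Finset.mem_singleton]
    refine ⟨fun h => ?_, ?_⟩
    · have h' := hT.smul p
      rw [smul_self_sylow hp] at h'
      exact L1 h' (mem_nb.1 (hnb ▸ Finset.mem_union_right _ h.1)) h.2
    · rintro rfl
      exact ⟨mem_orb.2 ⟨p, hp, rfl⟩, (adj_smul p).2 hT.comm12.comm23.adj⟩
  have hsum : ∑ W ∈ F P, f W = 504 := by
    have e1 : ∀ W, f W = ((O ×ˢ O2).filter fun q => Adj q.1 W ∧ Adj q.2 W).card := fun W => by
      rw [Finset.filter_product (fun X => Adj X W) (fun Y => Adj Y W), Finset.card_product]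
    simp only [e1]
    have h := Finset.sum_card_bipartiteAbove_eq_sum_card_bipartiteBelow
      (fun (q : Sylow 3 G × Sylow 3 G) W => Adj q.1 W ∧ Adj q.2 W) (s := O ×ˢ O2) (t := F P)
    simp only [Finset.bipartiteAbove, Finset.bipartiteBelow] at h
    rw [← h, Finset.sum_product, Finset.sum_const_nat (m := 56) (fun X hX => ?_),
      card_orb hG hT.1]
    rw [Finset.sum_congr rfl fun Y hY => hpair X hX Y hY, Finset.sum_ite, Finset.sum_const_zero,
      Finset.sum_const, Finset.filter_not, Finset.card_sdiff_of_subset (Finset.filter_subset _ _),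
      hm X hX, card_orb hG hT.2.1, zero_add, smul_eq_mul]
  obtain ⟨W, hW⟩ : (F P).Nonempty := Finset.card_pos.1 (by rw [hFc]; norm_num)
  rw [Finset.sum_const_nat (hf W hW), hFc] at hsum
  have hab : (O.filter (Adj · W)).card + (O2.filter (Adj · W)).card = 8 := by
    rw [← Finset.card_union_of_disjoint (Finset.disjoint_filter_filter hdisj), ← Finset.filter_union,
      ← hnb]
    exact h8 hW
  have h14 : f W = 14 := by omega
  have key : ∀ a ≤ 8, a * (8 - a) ≠ 14 := by decide
  refine key _ (by omega : (O.filter (Adj · W)).card ≤ 8) ?_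
  rw [show 8 - (O.filter (Adj · W)).card = (O2.filter (Adj · W)).card by omega]
  exact h14

theorem pattern : PatSame G ∧ ¬ PatCross G := by
  by_cases ha : PatSame G
  · exact ⟨ha, fun hb => patterns_not_both hG ha hb⟩
  · by_cases hb : PatCross G
    · exact (patterns_not_cross hG ha hb).elim
    · exact (patterns_not_neither hG ha hb).elim

end Cfsg.Agent.Order7920
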