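import Cfsg.Agent.Lib.Order7920.Pattern

/-!
# Eleven points for a simple group of order 7920

The points are the 10-cliques of the graph on the Sylow 3-subgroups.  Each vertex lies in exactly
two of them, so there are eleven, any two meeting in one vertex, and the group acts on them
4-transitively.
-/

namespace Cfsg.Agent.Order7920

open Subgroup MulAction

set_option linter.style.haveILetI false

variable {G : Type*} [Group G]

/-- A 10-clique of Sylow 3-subgroups. -/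
def IsPt (s : Finset (Sylow 3 G)) : Prop :=
  s.card = 10 ∧ ∀ X ∈ s, ∀ Y ∈ s, X ≠ Y → Adj X Y

/-- The points. -/
def Pt (G : Type*) [Group G] : Type _ := {s : Finset (Sylow 3 G) // IsPt s}

instance [Finite G] : Finite (Pt G) :=
  haveI := Fintype.ofFinite (Sylow 3 G)
  Subtype.finite

open scoped Classical in
/-- Conjugation of points. -/
noncomputable instance : MulAction G (Pt G) where
  smul g s := ⟨s.1.image (g • ·), by
    refine ⟨by rw [Finset.card_image_of_injective _ (MulAction.injective g), s.2.1], ?_⟩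
    intro X hX Y hY hne
    obtain ⟨X', hX', rfl⟩ := Finset.mem_image.1 hX
    obtain ⟨Y', hY', rfl⟩ := Finset.mem_image.1 hY
    exact (adj_smul g).2 (s.2.2 X' hX' Y' hY' fun e => hne (by rw [e]))⟩
  one_smul s := Subtype.ext (by
    show s.1.image ((1 : G) • ·) = s.1
    simp)
  mul_smul g h s := Subtype.ext (by
    show s.1.image ((g * h) • ·) = (s.1.image (h • ·)).image (g • ·)
    rw [Finset.image_image]
    exact Finset.image_congr fun X _ => mul_smul g h X)

theorem mem_smul_pt {g : G} {s : Pt G} {X : Sylow 3 G} :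
    X ∈ (g • s).1 ↔ g⁻¹ • X ∈ s.1 := by
  classical
  show X ∈ s.1.image (g • ·) ↔ _
  rw [Finset.mem_image]
  exact ⟨fun ⟨Y, hY, e⟩ => by rw [← e, inv_smul_smul]; exact hY,
    fun h => ⟨_, h, smul_inv_smul g X⟩⟩

theorem smul_mem_smul_pt {g : G} {s : Pt G} {X : Sylow 3 G} (h : X ∈ s.1) :
    g • X ∈ (g • s).1 := mem_smul_pt.2 (by rwa [inv_smul_smul])

theorem Pt.ext' {s s' : Pt G} (h : s.1 = s'.1) : s = s' := Subtype.ext h

variable [Fintype G] [IsSimpleGroup G] (hG : Nat.card G = 7920) [Fact (Nat.Prime 3)]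
include hG

omit hG in
theorem orb_subset_nb {P Q R : Sylow 3 G} (h : Tri P Q R) {X : Sylow 3 G} (hX : X ∈ orb P Q) :
    Adj P X := by
  obtain ⟨p, hp, rfl⟩ := mem_orb.1 hX
  exact smul_self_sylow hp ▸ (adj_smul p).2 h.adj

open scoped Classical in
theorem isPt_insert {P Q R : Sylow 3 G} (h : Tri P Q R) : IsPt (insert P (orb P Q)) := by
  refine ⟨by rw [Finset.card_insert_of_notMem fun hP => (orb_subset_nb h hP).1 rfl,
    card_orb hG h.1], ?_⟩
  intro X hX Y hY hne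
  rcases Finset.mem_insert.1 hX with rfl | hX <;> rcases Finset.mem_insert.1 hY with e | hY
  · exact absurd e.symm hne
  · exact orb_subset_nb h hY
  · exact e ▸ (orb_subset_nb h hX).symm
  · obtain ⟨p, hp, rfl⟩ := mem_orb.1 hX
    obtain ⟨p', hp', rfl⟩ := mem_orb.1 hY
    exact same_adj (pattern hG).1 h hp hp' fun e => hne (by rw [e])

open scoped Classical in
theorem isPt_cases {P Q R : Sylow 3 G} (h : Tri P Q R) {s : Finset (Sylow 3 G)} (hs : IsPt s)
    (hP : P ∈ s) : s = insert P (orb P Q) ∨ s = insert P (orb P R) := by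
  have hsub : ∀ X ∈ s.erase P, X ∈ orb P Q ∨ X ∈ orb P R := by
    intro X hX
    have := mem_nb.2 (hs.2 P hP X (Finset.mem_of_mem_erase hX) (Finset.ne_of_mem_erase hX).symm)
    rwa [h.nb_eq hG, Finset.mem_union] at this
  have h9 : (s.erase P).card = 9 := by rw [Finset.card_erase_of_mem hP, hs.1]
  have hmate : ∀ X ∈ s.erase P, ∀ Y ∈ s.erase P, X ∈ orb P Q → Y ∈ orb P R →
      ∀ p ∈ (P : Subgroup G), p • Q = X → p • R = Y := by
    intro X hX Y hY hXo hYo p hp e
    obtain ⟨p', hp', rfl⟩ := mem_orb.1 hYo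
    have hne : X ≠ p' • R := fun e' => h.orb_ne hG hXo (e' ▸ hYo)
    have hadj := hs.2 X (Finset.mem_of_mem_erase hX) _ (Finset.mem_of_mem_erase hY) hne
    rw [← e, adj_shift] at hadj
    by_contra hpp
    exact not_patCross hG (pattern hG).2 h (mul_mem (inv_mem hp) hp')
      (fun e1 => hpp (by rw [inv_mul_eq_one.1 e1])) hadj
  have key : (∀ X ∈ s.erase P, X ∈ orb P Q) ∨ ∀ X ∈ s.erase P, X ∈ orb P R := by
    by_contra hcon
    push_neg at hcon
    obtain ⟨⟨Y, hY, hYn⟩, X, hX, hXn⟩ := hcon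
    have hXo := (hsub X hX).resolve_right hXn
    have hYo := (hsub Y hY).resolve_left hYn
    obtain ⟨Z, hZ, hZn⟩ := Finset.exists_mem_notMem_of_card_lt_card
      (s := ({X, Y} : Finset (Sylow 3 G))) (t := s.erase P)
      (lt_of_le_of_lt Finset.card_le_two (by rw [h9]; norm_num))
    simp only [Finset.mem_insert, Finset.mem_singleton, not_or] at hZn
    obtain ⟨p, hp, e⟩ := mem_orb.1 hXo
    have e1 := hmate X hX Y hY hXo hYo p hp e
    rcases hsub Z hZ with hZo | hZo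
    · obtain ⟨p', hp', e'⟩ := mem_orb.1 hZo
      have e2 := hmate Z hZ Y hY hZo hYo p' hp' e'
      rw [orb_inj hG h.2.1 hp' hp (e2.trans e1.symm), e] at e'
      exact hZn.1 e'.symm
    · exact hZn.2 ((hmate X hX Z hZ hXo hZo p hp e).symm.trans e1)
  rcases key with hk | hk
  · left
    rw [← Finset.eq_of_subset_of_card_le (fun X hX => hk X hX) (by rw [card_orb hG h.1, h9]),
      Finset.insert_erase hP]
  · right
    rw [← Finset.eq_of_subset_of_card_le (fun X hX => hk X hX) (by rw [card_orb hG h.2.1, h9]),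
      Finset.insert_erase hP]

/-- The point through `P` and `Q`. -/
theorem exists_pt {P Q R : Sylow 3 G} (h : Tri P Q R) :
    ∃ c : Pt G, P ∈ c.1 ∧ Q ∈ c.1 ∧ R ∉ c.1 ∧
      ∀ c' : Pt G, P ∈ c'.1 → Q ∈ c'.1 → c' = c := by
  classical
  refine ⟨⟨_, isPt_insert hG h⟩, Finset.mem_insert_self _ _,
    Finset.mem_insert_of_mem self_mem_orb, fun hR => ?_, fun c' hP hQ => ?_⟩
  · rcases Finset.mem_insert.1 hR with e | e
    · exact h.2.1 e.symm
    · exact h.orb_ne hG e self_mem_orb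
  · rcases isPt_cases hG h c'.2 hP with e | e
    · exact Pt.ext' e
    · rw [e] at hQ
      rcases Finset.mem_insert.1 hQ with e' | e'
      · exact absurd e'.symm h.1
      · exact absurd e' (h.orb_ne hG self_mem_orb)

/-- Exactly two points pass through a vertex. -/
theorem pts_through {P Q R : Sylow 3 G} (h : Tri P Q R) {c d : Pt G} (hcP : P ∈ c.1)
    (hcQ : Q ∈ c.1) (hdP : P ∈ d.1) (hdR : R ∈ d.1) :
    c ≠ d ∧ ∀ e : Pt G, P ∈ e.1 → e = c ∨ e = d := by
  classical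
  obtain ⟨c₁, -, -, hcR, hc₁⟩ := exists_pt hG h
  obtain ⟨d₁, -, -, -, hd₁⟩ := exists_pt hG h.comm23
  rw [hc₁ c hcP hcQ, hd₁ d hdP hdR]
  refine ⟨fun e => hcR (e ▸ hd₁ d hdP hdR ▸ hdR), fun e he => ?_⟩
  rcases isPt_cases hG h e.2 he with e' | e'
  · exact Or.inl (hc₁ e he (e' ▸ Finset.mem_insert_of_mem self_mem_orb))
  · exact Or.inr (hd₁ e he (e' ▸ Finset.mem_insert_of_mem self_mem_orb))

theorem exists_two (P : Sylow 3 G) : ∃ c d : Pt G, c ≠ d ∧ P ∈ c.1 ∧ P ∈ d.1 ∧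
    ∀ e : Pt G, P ∈ e.1 → e = c ∨ e = d := by
  obtain ⟨Q, R, h⟩ := exists_tri hG P
  obtain ⟨c, hc1, hc2, -, -⟩ := exists_pt hG h
  obtain ⟨d, hd1, hd2, -, -⟩ := exists_pt hG h.comm23
  obtain ⟨hne, hall⟩ := pts_through hG h hc1 hc2 hd1 hd2
  exact ⟨c, d, hne, hc1, hd1, hall⟩

theorem card_pts : Nat.card (Pt G) = 11 := by
  classical
  haveI := Fintype.ofFinite (Sylow 3 G)
  haveI := Fintype.ofFinite (Pt G)
  rw [Nat.card_eq_fintype_card, ← Finset.card_univ]
  have h := Finset.sum_card_bipartiteAbove_eq_sum_card_bipartiteBelow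
    (fun (X : Sylow 3 G) (c : Pt G) => X ∈ c.1) (s := Finset.univ) (t := Finset.univ)
  simp only [Finset.bipartiteAbove, Finset.bipartiteBelow] at h
  rw [Finset.sum_const_nat (m := 2), Finset.sum_const_nat (m := 10), card_univ_sylow hG] at h
  · omega
  · intro c _
    rw [show (Finset.univ.filter fun X => X ∈ c.1) = c.1 by ext; simp]
    exact c.2.1
  · intro X _
    obtain ⟨c, d, hne, hc, hd, hall⟩ := exists_two hG X
    rw [Finset.card_eq_two]
    refine ⟨c, d, hne, ?_⟩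
    ext e
    simp only [Finset.mem_filter, Finset.mem_univ, true_and, Finset.mem_insert,
      Finset.mem_singleton]
    exact ⟨hall e, by rintro (rfl | rfl) <;> assumption⟩

theorem other_unique {X : Sylow 3 G} {c e e' : Pt G} (hc : X ∈ c.1) (he : X ∈ e.1)
    (he' : X ∈ e'.1) (hne : e ≠ c) (hne' : e' ≠ c) : e = e' := by
  obtain ⟨u, v, -, -, -, hall⟩ := exists_two hG X
  rcases hall c hc with rfl | rfl <;> rcases hall e he with rfl | rfl <;>
    rcases hall e' he' with rfl | rfl <;> simp_all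

theorem meet_unique {c d : Pt G} (hne : c ≠ d) {X Y : Sylow 3 G} (h1 : X ∈ c.1) (h2 : X ∈ d.1)
    (h3 : Y ∈ c.1) (h4 : Y ∈ d.1) : X = Y := by
  by_contra hXY
  obtain ⟨Z, hT⟩ := Adj.exists_third hG (c.2.2 X h1 Y h3 hXY)
  obtain ⟨c₁, -, -, -, hu⟩ := exists_pt hG hT
  exact hne ((hu c h1 h3).trans (hu d h2 h4).symm)

theorem exists_meet {c d : Pt G} (hne : c ≠ d) : ∃ X, X ∈ c.1 ∧ X ∈ d.1 := by
  classical
  haveI := Fintype.ofFinite (Pt G)
  have hex : ∀ X : c.1, ∃ e : Pt G, (X : Sylow 3 G) ∈ e.1 ∧ e ≠ c := by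
    intro X
    obtain ⟨u, v, huv, hu, hv, -⟩ := exists_two hG (X : Sylow 3 G)
    by_cases h : u = c
    · exact ⟨v, hv, fun e => huv (h.trans e.symm)⟩
    · exact ⟨u, hu, h⟩
  choose o ho1 ho2 using hex
  let f : c.1 → {e : Pt G // e ≠ c} := fun X => ⟨o X, ho2 X⟩
  have hf : Function.Injective f := fun X Y e => Subtype.ext
    (meet_unique hG (ho2 X).symm X.2 (ho1 X) Y.2
      ((show o X = o Y from congrArg Subtype.val e).symm ▸ ho1 Y))
  have hb : Function.Bijective f := by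
    refine hf.bijective_of_nat_card_le ?_
    rw [Nat.card_eq_finsetCard, c.2.1, Nat.card_eq_fintype_card, Fintype.card_subtype_compl,
      Fintype.card_subtype_eq, ← Nat.card_eq_fintype_card, card_pts hG]
  obtain ⟨X, hX⟩ := hb.2 ⟨d, hne.symm⟩
  exact ⟨X, X.2, (show o X = d from congrArg Subtype.val hX) ▸ ho1 X⟩

/-- The action on the points is 4-transitive. -/
theorem exists_base : ∃ a₀ b₀ c₀ d₀ : Pt G, ∀ a b c d : Pt G, a ≠ b → a ≠ c → a ≠ d → b ≠ c →
    b ≠ d → c ≠ d → ∃ g : G, g • a₀ = a ∧ g • b₀ = b ∧ g • c₀ = c ∧ g • d₀ = d := by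
  classical
  obtain ⟨P⟩ : Nonempty (Sylow 3 G) := inferInstance
  obtain ⟨Q, R, h⟩ := exists_tri hG P
  obtain ⟨a₀, ha₀P, ha₀Q, -, hua⟩ := exists_pt hG h
  obtain ⟨b₀, hb₀P, hb₀R, -, hub⟩ := exists_pt hG h.comm23
  obtain ⟨hab₀, hP2⟩ := pts_through hG h ha₀P ha₀Q hb₀P hb₀R
  obtain ⟨c₀, hc₀Q, hc₀ne⟩ : ∃ e : Pt G, Q ∈ e.1 ∧ e ≠ a₀ := by
    obtain ⟨u, v, huv, hu, hv, -⟩ := exists_two hG Q
    by_cases h : u = a₀
    · exact ⟨v, hv, fun e => huv (h.trans e.symm)⟩
    · exact ⟨u, hu, h⟩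
  obtain ⟨z', hz'⟩ := exists_prime_orderOf_dvd_card' (G := (P : Subgroup G)) 3
    (by rw [card_sylow_three hG P]; norm_num)
  set z : G := (z' : G)
  have hz : z ∈ (P : Subgroup G) := z'.2
  have hz1 : z ≠ 1 := fun e => by
    have : orderOf z = 3 := by rw [Subgroup.orderOf_coe, hz']
    rw [e, orderOf_one] at this; omega
  have fixP : ∀ {n : G}, n • P = P → n • Q ∈ a₀.1 → n • a₀ = a₀ ∧ n • b₀ = b₀ := by
    intro n hn hQ
    have ha : n • a₀ = a₀ := by
      have hne : P ≠ n • Q := fun e => h.1 (smul_left_cancel n (hn.trans e))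
      obtain ⟨Z, hT⟩ := Adj.exists_third hG (a₀.2.2 P ha₀P _ hQ hne)
      obtain ⟨_, -, -, -, hu⟩ := exists_pt hG hT
      exact (hu _ (hn ▸ smul_mem_smul_pt ha₀P) (smul_mem_smul_pt ha₀Q)).trans
        (hu _ ha₀P hQ).symm
    refine ⟨ha, (hP2 _ (hn ▸ smul_mem_smul_pt hb₀P)).resolve_left fun e => hab₀ ?_⟩
    exact (smul_left_cancel n (e.trans ha.symm)).symm
  refine ⟨a₀, b₀, c₀, z • c₀, fun a b c d hab hac had hbc hbd hcd => ?_⟩
  obtain ⟨X, hXa, hXb⟩ := exists_meet hG hab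
  obtain ⟨Y, Z, hX⟩ := exists_tri hG X
  -- the first two points
  obtain ⟨g₁, hg₁a, hg₁b⟩ : ∃ g : G, g • a₀ = a ∧ g • b₀ = b := by
    obtain ⟨ca, hca1, hca2, -, -⟩ := exists_pt hG hX
    obtain ⟨cb, hcb1, hcb2, -, -⟩ := exists_pt hG hX.comm23
    obtain ⟨-, hall⟩ := pts_through hG hX hca1 hca2 hcb1 hcb2
    have key : ∀ {Y Z : Sylow 3 G}, Tri X Y Z → Y ∈ a.1 → ∃ g : G, g • a₀ = a ∧ g • b₀ = b := by
      intro Y Z hT hY
      obtain ⟨g, gP, gQ, gR⟩ := h.exists_smul hG hT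
      obtain ⟨_, -, -, -, hu⟩ := exists_pt hG hT
      have ga : g • a₀ = a := (hu _ (gP ▸ smul_mem_smul_pt ha₀P) (gQ ▸ smul_mem_smul_pt ha₀Q)).trans
        (hu _ hXa hY).symm
      refine ⟨g, ga, other_unique hG hXa (gP ▸ smul_mem_smul_pt hb₀P) hXb
        (fun e => hab₀ (smul_left_cancel g (ga.trans e.symm))) hab.symm⟩
    rcases hall a hXa with rfl | rfl
    · exact key hX hca2
    · exact key hX.comm23 hcb2
  -- move back
  set c' := g₁⁻¹ • c with hc'
  set d' := g₁⁻¹ • d with hd'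
  have hc'a : c' ≠ a₀ := fun e => hac.symm (by rw [← hg₁a, ← e, hc', smul_inv_smul])
  have hc'b : c' ≠ b₀ := fun e => hbc.symm (by rw [← hg₁b, ← e, hc', smul_inv_smul])
  have hd'a : d' ≠ a₀ := fun e => had.symm (by rw [← hg₁a, ← e, hd', smul_inv_smul])
  have hd'b : d' ≠ b₀ := fun e => hbd.symm (by rw [← hg₁b, ← e, hd', smul_inv_smul])
  have hcd' : c' ≠ d' := fun e => hcd (smul_left_cancel g₁⁻¹ e)
  have horb : ∀ e : Pt G, e ≠ a₀ → e ≠ b₀ → ∀ X, X ∈ a₀.1 → X ∈ e.1 →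
      ∃ p ∈ (P : Subgroup G), p • Q = X := by
    intro e hea heb X hXa hXe
    have hXP : X ≠ P := fun eq => by
      subst eq
      rcases hP2 e hXe with h' | h'
      · exact hea h'
      · exact heb h'
    rcases isPt_cases hG h a₀.2 ha₀P with e' | e'
    · rw [e', Finset.mem_insert] at hXa
      exact mem_orb.1 (hXa.resolve_left hXP)
    · rw [e', Finset.mem_insert] at ha₀Q
      rcases ha₀Q with eq | eq
      · exact absurd eq.symm h.1
      · exact absurd eq (h.orb_ne hG self_mem_orb)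
  obtain ⟨Y', hY'a, hY'c⟩ := exists_meet hG hc'a.symm
  obtain ⟨p, hp, hpQ⟩ := horb c' hc'a hc'b Y' hY'a hY'c
  obtain ⟨hpa, hpb⟩ := fixP (smul_self_sylow hp) (hpQ ▸ hY'a)
  have hpc : p • c₀ = c' := other_unique hG hY'a (hpQ ▸ smul_mem_smul_pt hc₀Q) hY'c
    (fun e => hc₀ne (smul_left_cancel p (e.trans hpa.symm))) hc'a
  -- the fourth point
  set d'' := p⁻¹ • d' with hd''
  have hd''a : d'' ≠ a₀ := fun e => hd'a (by rw [← hpa, ← e, hd'', smul_inv_smul])
  have hd''b : d'' ≠ b₀ := fun e => hd'b (by rw [← hpb, ← e, hd'', smul_inv_smul])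
  have hd''c : d'' ≠ c₀ := fun e => hcd' (by rw [← hpc, ← e, hd'', smul_inv_smul])
  obtain ⟨W, hWa, hWd⟩ := exists_meet hG hd''a.symm
  obtain ⟨w, hw, hwQ⟩ := horb d'' hd''a hd''b W hWa hWd
  have hw1 : w ≠ 1 := fun e => by
    rw [e, one_smul] at hwQ
    subst hwQ
    exact hd''c (other_unique hG ha₀Q hWd hc₀Q hd''a hc₀ne)
  obtain ⟨s, hs, hsz⟩ := h.exists_conj hG hz hz1 hw hw1
  have hsP : s • P = P := mem_normalizer_sylow.1 hs.1
  have hsQ : s • Q = Q := mem_normalizer_sylow.1 hs.2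
  obtain ⟨hsa, hsb⟩ := fixP hsP (by rw [hsQ]; exact ha₀Q)
  have hsc : s • c₀ = c₀ := other_unique hG ha₀Q (hsQ ▸ smul_mem_smul_pt hc₀Q) hc₀Q
    (fun e => hc₀ne (smul_left_cancel s (e.trans hsa.symm))) hc₀ne
  obtain ⟨hza, -⟩ := fixP (smul_self_sylow hz) (by
    rcases isPt_cases hG h a₀.2 ha₀P with e | e
    · rw [e]; exact Finset.mem_insert_of_mem (mem_orb.2 ⟨z, hz, rfl⟩)
    · exfalso
      rw [e, Finset.mem_insert] at ha₀Q
      rcases ha₀Q with eq | eq
      · exact h.1 eq.symm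
      · exact h.orb_ne hG self_mem_orb eq)
  have hsd : s • z • c₀ = d'' := by
    refine other_unique hG hWa ?_ hWd (fun e => hc₀ne ?_) hd''a
    · have : s • z • Q ∈ (s • z • c₀).1 := smul_mem_smul_pt (smul_mem_smul_pt hc₀Q)
      have e : s • z • Q = w • s • Q := by rw [← hsz]; simp [mul_smul]
      rwa [e, hsQ, hwQ] at this
    · exact smul_left_cancel z ((smul_left_cancel s (e.trans hsa.symm)).trans hza.symm)
  refine ⟨g₁ * (p * s), ?_, ?_, ?_, ?_⟩
  · rw [mul_smul, mul_smul, hsa, hpa, hg₁a]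
  · rw [mul_smul, mul_smul, hsb, hpb, hg₁b]
  · rw [mul_smul, mul_smul, hsc, hpc, hc', smul_inv_smul]
  · rw [mul_smul, mul_smul, hsd, hd'', smul_inv_smul, hd', smul_inv_smul]

theorem pt_four_pretransitive : IsMultiplyPretransitive G (Pt G) 4 := by
  obtain ⟨a₀, b₀, c₀, d₀, hbase⟩ := exists_base hG
  have key : ∀ x : Fin 4 ↪ Pt G, ∃ g : G, ∀ i, g • ![a₀, b₀, c₀, d₀] i = x i := by
    intro x
    obtain ⟨g, h0, h1, h2, h3⟩ := hbase (x 0) (x 1) (x 2) (x 3)
      (x.injective.ne (by decide)) (x.injective.ne (by decide)) (x.injective.ne (by decide))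
      (x.injective.ne (by decide)) (x.injective.ne (by decide)) (x.injective.ne (by decide))
    exact ⟨g, fun i => by fin_cases i <;> assumption⟩
  refine ⟨fun x y => ?_⟩
  obtain ⟨g, hg⟩ := key x
  obtain ⟨g', hg'⟩ := key y
  refine ⟨g' * g⁻¹, Function.Embedding.ext fun i => ?_⟩
  rw [Function.Embedding.smul_apply, ← hg i, mul_smul, inv_smul_smul, hg' i]

theorem pt_sharp : ∀ x : Fin 4 ↪ Pt G, stabilizer G x = ⊥ := by
  intro x
  haveI := Fintype.ofFinite (Pt G)
  haveI := pt_four_pretransitive hG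
  refine eq_bot_of_card_eq _ ?_
  have h := Nat.card_congr (orbitProdStabilizerEquivGroup G x)
  rw [Nat.card_prod, show Nat.card (orbit G x) = 7920 by
    rw [Nat.card_congr (Equiv.subtypeUnivEquiv fun y =>
        show y ∈ orbit G x from MulAction.exists_smul_eq G x y),
      Nat.card_eq_fintype_card, Fintype.card_embedding_eq, Fintype.card_fin,
      ← Nat.card_eq_fintype_card, card_pts hG]
    rfl, hG] at h
  omega

end Cfsg.Agent.Order7920
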