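import Cfsg.Agent.Lib.Order7920.Table
import Cfsg.Agent.Lib.SmallSimple.M11OrderTools
import Cfsg.Agent.Lib.PGroup.Basic

/-!
# The normalizer of a Sylow 3-subgroup of a simple group of order 7920 has order 144
-/

namespace Cfsg.Agent.Order7920

open scoped ComplexConjugate
open Subgroup

set_option linter.style.haveILetI false

variable {G : Type*} [Group G] [Fintype G] [IsSimpleGroup G] (hG : Nat.card G = 7920)

omit [IsSimpleGroup G] in
theorem int_value_three {χ : G → ℂ} (h : Cfsg.IsCharacter G χ) {z : G} (hz : orderOf z = 3)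
    (hreal : IsConj z z⁻¹) : ∃ (n : ℕ) (k : ℤ), χ 1 = n ∧ χ z = k ∧ ((n : ℤ) - k) % 3 = 0 := by
  obtain ⟨n, μ, hn, hμ, hval⟩ := CharInt.exists_roots h z
  have h2 : z ^ 2 = z⁻¹ := by
    rw [eq_inv_iff_mul_eq_one, ← pow_succ, show (2 + 1 : ℕ) = orderOf z by omega, pow_orderOf_eq_one]
  have hterm : ∀ i, ∃ s : ℤ, (s + 1) % 3 = 0 ∧ μ i + μ i ^ 2 = s := by
    intro i
    have h3 : μ i ^ 3 = 1 := hz ▸ hμ i
    by_cases h1 : μ i = 1
    · exact ⟨2, by norm_num, by rw [h1]; norm_num⟩
    · refine ⟨-1, by norm_num, ?_⟩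
      have : (μ i - 1) * (μ i + μ i ^ 2 + 1) = 0 := by linear_combination h3
      rcases mul_eq_zero.1 this with h | h
      · exact absurd (sub_eq_zero.1 h) h1
      · push_cast; linear_combination h
  choose s hs hss using hterm
  have e : 2 * χ z = ((∑ i, s i : ℤ) : ℂ) := by
    have h1 := hval 1
    have h1' := hval 2
    rw [h2, ← CharInt.char_eq_of_isConj h hreal] at h1'
    simp only [pow_one] at h1
    calc 2 * χ z = χ z + χ z := two_mul _
      _ = ∑ i, μ i + ∑ i, μ i ^ 2 := congrArg₂ (· + ·) h1 h1'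
      _ = ∑ i, (μ i + μ i ^ 2) := Finset.sum_add_distrib.symm
      _ = _ := by simp only [hss, Int.cast_sum]
  set S := ∑ i, s i with hS
  have hSn : (S + n) % 3 = 0 := by
    rw [hS, show ((∑ i, s i) + (n : ℤ)) = ∑ i, (s i + 1) by simp [Finset.sum_add_distrib]]
    exact Int.emod_eq_zero_of_dvd (Finset.dvd_sum fun i _ => Int.dvd_of_emod_eq_zero (hs i))
  obtain ⟨k, hk⟩ : (2 : ℤ) ∣ S := by
    refine CharInt.dvd_of_isIntegral_div (p := 2) (by norm_num) ?_
    rw [← e, Nat.cast_ofNat, mul_div_cancel_left₀ _ (by norm_num)]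
    exact CharInt.isIntegral_char h z
  refine ⟨n, k, hn, ?_, by omega⟩
  rw [hk] at e
  push_cast at e
  linear_combination e / 2

include hG

theorem not_commute_three {y z : G} {s : ℕ} (hy : orderOf y = s) (hs : s = 5 ∨ s = 11)
    (hz : orderOf z = 3) : y * z ≠ z * y := by
  intro h
  have hmem : z ∈ C y := mem_C.2 h.symm
  have hd : orderOf z ∣ Nat.card (C y) := by
    have := _root_.orderOf_dvd_natCard (⟨z, hmem⟩ : C y)
    rwa [← Subgroup.orderOf_coe] at this
  rcases hs with rfl | rfl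
  · obtain ⟨L⟩ := exists_labels hG
    rw [(five hG hy (odd_C_five hG L.t1 L.dt1 hy)).1, hz] at hd
    norm_num at hd
  · rw [(eleven hG hy).1, hz] at hd
    norm_num at hd

/-- A real element of order 3 does not have a centralizer of order 9. -/
theorem card_C_three_ne_nine {z : G} (hz : orderOf z = 3) (hreal : IsConj z z⁻¹) :
    Nat.card (C z) ≠ 9 := by
  classical
  intro hC
  haveI : Fact (Nat.Prime 5) := ⟨by norm_num⟩
  haveI : Fact (Nat.Prime 11) := ⟨by norm_num⟩
  obtain ⟨L⟩ := exists_labels hG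
  obtain ⟨x, hx⟩ := exists_prime_orderOf_dvd_card' (G := G) 11 (by rw [hG]; norm_num)
  obtain ⟨y, hy⟩ := exists_prime_orderOf_dvd_card' (G := G) 5 (by rw [hG]; norm_num)
  have hval : ∀ χ : Cfsg.IrrCharacter G, ∃ k : ℤ, χ.1 z = k ∧
      ((Char.degree χ : ℤ) - k) % 3 = 0 := by
    intro χ
    obtain ⟨n, k, hn, h⟩ := int_value_three (Char.irr_isCharacter χ) hz hreal
    rw [Char.apply_one_eq_degree] at hn
    have : Char.degree χ = n := by exact_mod_cast hn
    exact ⟨k, by rwa [this]⟩
  choose F hF hF3 using hval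
  have hgo : ∀ {g : G} {p : ℕ}, orderOf g = p → p ≠ 3 → ¬ IsConj z g := fun hg hp h => by
    obtain ⟨c, rfl⟩ := isConj_iff.1 h
    rw [← MulAut.conj_apply, MulEquiv.orderOf_eq, hz] at hg
    exact hp hg.symm
  obtain ⟨-, -, r1, -, -, r4⟩ := column_relations hG L hx hy F hF (hgo hx (by norm_num))
    (hgo hy (by norm_num)) (fun e => by rw [e, orderOf_one] at hz; omega)
  rw [hC] at r4
  push_cast at r4
  have hpos : ∀ χ : Cfsg.IrrCharacter G, Char.degree χ % 3 ≠ 0 → 1 ≤ F χ * F χ := fun χ h => by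
    have := hF3 χ
    have h0 : F χ ≠ 0 := fun e => by rw [e] at this; omega
    have := mul_self_pos.2 h0
    omega
  have p1 := hpos L.t1 (by rw [L.dt1]; decide)
  have p2 := hpos L.t2 (by rw [L.dt2]; decide)
  have p3 := hpos L.t3 (by rw [L.dt3]; decide)
  have p4 := hpos L.e11 (by rw [L.d11]; decide)
  have p5 := hpos L.s1 (by rw [L.ds1]; decide)
  have p7 := hpos L.e44 (by rw [L.d44]; decide)
  have p9 := hpos L.e55 (by rw [L.d55]; decide)
  have p8 := mul_self_nonneg (F L.e45)
  have z8 : F L.e45 = 0 := mul_self_eq_zero.1 (by linarith only [r4, p1, p2, p3, p4, p5, p7, p9, p8])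
  have one : ∀ χ : Cfsg.IrrCharacter G, Char.degree χ % 3 = 1 → F χ * F χ = 1 → F χ = 1 := by
    intro χ hd h
    have := hF3 χ
    rcases mul_self_eq_one_iff.1 h with h' | h'
    · exact h'
    · rw [h'] at this; omega
  have a1 := one L.t1 (by rw [L.dt1]) (by linarith only [r4, p1, p2, p3, p4, p5, p7, p9, p8])
  have a2 := one L.t2 (by rw [L.dt2]) (by linarith only [r4, p1, p2, p3, p4, p5, p7, p9, p8])
  have a3 := one L.t3 (by rw [L.dt3]) (by linarith only [r4, p1, p2, p3, p4, p5, p7, p9, p8])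
  have a5 := one L.s1 (by rw [L.ds1]) (by linarith only [r4, p1, p2, p3, p4, p5, p7, p9, p8])
  rw [a1, a2, a3, a5, z8] at r1
  norm_num at r1

omit [IsSimpleGroup G] in
theorem factorization_three : (Nat.card G).factorization 3 = 2 := by
  have h3 : Nat.Prime 3 := by norm_num
  rw [hG, show (7920 : ℕ) = 3 ^ 2 * 880 by rfl, Nat.factorization_mul (by norm_num) (by norm_num),
    Finsupp.add_apply, h3.factorization_pow, Finsupp.single_eq_same,
    Nat.factorization_eq_zero_of_not_dvd (by norm_num)]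

omit [IsSimpleGroup G] in
theorem card_sylow_three (P : Sylow 3 G) [Fact (Nat.Prime 3)] : Nat.card (P : Subgroup G) = 9 := by
  rw [P.card_eq_multiplicity, factorization_three hG]; norm_num

/-- An element of order 4 exists. -/
theorem exists_orderOf_eq_four : ∃ f : G, orderOf f = 4 := by
  haveI : Fact (Nat.Prime 5) := ⟨by norm_num⟩
  obtain ⟨L⟩ := exists_labels hG
  obtain ⟨y, hy⟩ := exists_prime_orderOf_dvd_card' (G := G) 5 (by rw [hG]; norm_num)
  obtain ⟨hCy, hyc⟩ := five hG hy (odd_C_five hG L.t1 L.dt1 hy)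
  obtain ⟨g, hg⟩ := isConj_iff.1 (hyc 2 (by norm_num))
  have hg4 : g ^ 4 ∈ C y := mem_C.2 (by
    have h := conj_pow_pow hg 4
    rw [show y ^ 2 ^ 4 = y by
      rw [pow_eq_pow_mod _ (show y ^ 5 = 1 by rw [← hy, pow_orderOf_eq_one])]; norm_num] at h
    exact mul_inv_eq_iff_eq_mul.1 h)
  have h20 : g ^ 20 = 1 := by
    have := pow_card_eq_one' (x := (⟨g ^ 4, hg4⟩ : C y))
    rw [hCy] at this
    have h := congrArg Subtype.val this
    simp only [SubmonoidClass.coe_pow, OneMemClass.coe_one] at h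
    rwa [← pow_mul] at h
  have h10 : g ^ 10 ≠ 1 := by
    intro h
    have h' := conj_pow_pow hg 10
    rw [h, inv_one, one_mul, mul_one] at h'
    have h'' : y ^ 1 = y ^ 2 ^ 10 := by rw [pow_one]; exact h'
    rw [pow_eq_pow_iff_modEq, hy] at h''
    revert h''
    decide
  have hd : orderOf g ∣ 20 := orderOf_dvd_of_pow_eq_one h20
  have h4 : 4 ∣ orderOf g := by
    have key : ∀ n < 21, n ∣ 20 → ¬ n ∣ 10 → 4 ∣ n := by decide
    refine key _ (Nat.lt_succ_of_le (Nat.le_of_dvd (by norm_num) hd)) hd fun h => h10 ?_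
    exact orderOf_dvd_iff_pow_eq_one.1 h
  exact ⟨g ^ (orderOf g / 4), orderOf_pow_orderOf_div (orderOf_pos g).ne' h4⟩

omit [IsSimpleGroup G] hG in
theorem card_class_mul (g : G) :
    Nat.card (C g) * Nat.card {h : G // ConjClasses.mk h = ConjClasses.mk g} = Nat.card G := by
  rw [← Char.card_centralizer_mul_card_conj g]
  congr 1
  exact Nat.card_congr (Equiv.subtypeEquivRight fun h => by
    rw [ConjClasses.mk_eq_mk_iff_isConj, isConj_comm])

set_option maxHeartbeats 2000000 in
/-- The case of a normalizer of order 36 does not occur. -/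
theorem not_thirty_six [Fact (Nat.Prime 3)] (P : Sylow 3 G)
    (hN : Nat.card (normalizer ((P : Subgroup G) : Set G)) = 36) : False := by
  classical
  haveI : Fact (Nat.Prime 2) := ⟨Nat.prime_two⟩
  haveI : Fact (Nat.Prime 5) := ⟨by norm_num⟩
  haveI : Fact (Nat.Prime 11) := ⟨by norm_num⟩
  set Np := normalizer ((P : Subgroup G) : Set G) with hNp
  have hP9 := card_sylow_three hG P
  have hPN : (P : Subgroup G) ≤ Np := le_normalizer
  have hcomm : IsMulCommutative (P : Subgroup G) :=
    IsPGroup.isMulCommutative_of_card_eq_prime_sq (p := 3) (by rw [hP9]; norm_num)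
  have hPC : ∀ z ∈ (P : Subgroup G), (P : Subgroup G) ≤ C z := fun z hz w hw =>
    mem_C.2 (congrArg Subtype.val (hcomm.is_comm.comm ⟨w, hw⟩ ⟨z, hz⟩))
  -- the centralizer of P
  have hCP : Nat.card (centralizer ((P : Subgroup G) : Set G)) = 9 := by
    have hle : centralizer ((P : Subgroup G) : Set G) ≤ Np := centralizer_le_normalizer _
    have hd : Nat.card (centralizer ((P : Subgroup G) : Set G)) ∣ 36 := hN ▸ card_dvd_of_le hle
    have h9 : 9 ∣ Nat.card (centralizer ((P : Subgroup G) : Set G)) := hP9 ▸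
      card_dvd_of_le (fun w hw => mem_centralizer_iff.2 fun z hz => (mem_C.1 (hPC z hz hw)).symm)
    have h2 : ¬ 2 ∣ Nat.card (centralizer ((P : Subgroup G) : Set G)) := by
      intro h
      obtain ⟨t', ht'⟩ := exists_prime_orderOf_dvd_card' (G := centralizer ((P : Subgroup G) : Set G))
        2 h
      have hto : orderOf (t' : G) = 2 := by rw [Subgroup.orderOf_coe, ht']
      have hle' : (P : Subgroup G) ≤ C (t' : G) := fun w hw =>
        mem_C.2 (mem_centralizer_iff.1 t'.2 w hw)
      have := card_dvd_of_le hle'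
      rw [hP9, card_C_involution hG hto] at this
      norm_num at this
    have key : ∀ c < 37, c ∣ 36 → 9 ∣ c → ¬ 2 ∣ c → c = 9 := by decide
    exact key _ (Nat.lt_succ_of_le (Nat.le_of_dvd (by norm_num) hd)) hd h9 h2
  -- exponent three
  have hexp : ∀ z ∈ (P : Subgroup G), z ≠ 1 → orderOf z = 3 := by
    intro z hz hz1
    have hd : orderOf z ∣ 3 ^ 2 := by
      rw [show (3 : ℕ) ^ 2 = 9 by norm_num, ← hP9]
      exact Subgroup.orderOf_dvd_natCard _ hz
    obtain ⟨i, hi, hio⟩ := (Nat.dvd_prime_pow (by norm_num : Nat.Prime 3)).1 hd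
    rcases Nat.lt_or_ge i 2 with h | h
    · interval_cases i
      · exact absurd (orderOf_eq_one_iff.1 (by simpa using hio)) hz1
      · simpa using hio
    · exfalso
      have h9 : orderOf (⟨z, hz⟩ : (P : Subgroup G)) = Nat.card (P : Subgroup G) := by
        rw [Subgroup.orderOf_mk, hio, hP9, show i = 2 by omega]; norm_num
      haveI : IsCyclic (P : Subgroup G) := isCyclic_of_orderOf_eq_card _ h9
      have hd6 := TwentyTwo.relIndex_centralizer_dvd (P : Subgroup G)
      have e := relIndex_mul_relIndex (H := ⊥) (K := centralizer ((P : Subgroup G) : Set G))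
        (L := Np) bot_le (centralizer_le_normalizer _)
      rw [relIndex_bot_left, relIndex_bot_left, hCP, hN] at e
      rw [hP9, show (9 : ℕ) = 3 ^ 2 by norm_num, Nat.totient_prime_pow (by norm_num) (by norm_num)]
        at hd6
      rw [show (centralizer ((P : Subgroup G) : Set G)).relIndex Np = 4 by omega] at hd6
      norm_num at hd6
  -- fusion in the normalizer
  let O : G → Finset G := fun z => Finset.univ.filter fun w =>
    w ∈ (P : Subgroup G) ∧ ConjClasses.mk w = ConjClasses.mk z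
  have hO : ∀ z ∈ (P : Subgroup G),
      (O z).card * Nat.card ((C z).subgroupOf Np) = 36 := by
    intro z hz
    rw [← hN, ← Subgroup.index_mul_card ((C z).subgroupOf Np), ← Nat.card_eq_finsetCard (O z)]
    congr 1
    have hmem : ∀ n : Np, (n : G) * z * (n : G)⁻¹ ∈ O z := fun n => Finset.mem_filter.2
      ⟨Finset.mem_univ _, (mem_normalizer_iff.1 n.2 z).1 hz,
        ConjClasses.mk_eq_mk_iff_isConj.2 (IsConj.symm (isConj_iff.2 ⟨(n : G), rfl⟩))⟩
    have hiff : ∀ a b : Np, (a : G) * z * (a : G)⁻¹ = (b : G) * z * (b : G)⁻¹ ↔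
        a⁻¹ * b ∈ (C z).subgroupOf Np := by
      intro a b
      rw [mem_subgroupOf, mem_C]
      push_cast
      constructor <;> intro h
      · calc (a : G)⁻¹ * b * z = (a : G)⁻¹ * ((b : G) * z * (b : G)⁻¹) * b := by group
          _ = (a : G)⁻¹ * ((a : G) * z * (a : G)⁻¹) * b := by rw [h]
          _ = z * ((a : G)⁻¹ * b) := by group
      · calc (a : G) * z * (a : G)⁻¹ = (a : G) * (z * ((a : G)⁻¹ * b)) * (b : G)⁻¹ := by group
          _ = (a : G) * ((a : G)⁻¹ * b * z) * (b : G)⁻¹ := by rw [h]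
          _ = (b : G) * z * (b : G)⁻¹ := by group
    refine (Nat.card_congr (Equiv.ofBijective
      (fun q : Np ⧸ (C z).subgroupOf Np => Quotient.liftOn' q
        (fun n => (⟨(n : G) * z * (n : G)⁻¹, hmem n⟩ : O z))
        (fun a b h => Subtype.ext ((hiff a b).2 (QuotientGroup.leftRel_apply.1 h)))) ⟨?_, ?_⟩)).symm
    · intro a b
      induction a using Quotient.inductionOn'
      induction b using Quotient.inductionOn'
      intro h
      exact Quotient.sound' (QuotientGroup.leftRel_apply.2 ((hiff _ _).1 (congrArg Subtype.val h)))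
    · rintro ⟨w, hw⟩
      obtain ⟨-, hwP, hwc⟩ := Finset.mem_filter.1 hw
      obtain ⟨g, hg⟩ := isConj_iff.1 (ConjClasses.mk_eq_mk_iff_isConj.1 hwc)
      haveI := hcomm
      have hg' : g⁻¹ * z * g = w := by rw [← hg]; group
      obtain ⟨n, hn, hn'⟩ := Sylow.conj_eq_normalizer_conj_of_mem P z g hz (by rw [hg']; exact hwP)
      refine ⟨QuotientGroup.mk ⟨n⁻¹, inv_mem hn⟩, Subtype.ext ?_⟩
      show n⁻¹ * z * n⁻¹⁻¹ = w
      rw [inv_inv, ← hn', hg']
  have hCN : ∀ z ∈ (P : Subgroup G), 9 ∣ Nat.card ((C z).subgroupOf Np) ∧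
      Nat.card ((C z).subgroupOf Np) ∣ Nat.card (C z) := by
    intro z hz
    constructor
    · rw [← hP9, ← Nat.card_congr (subgroupOfEquivOfLe hPN).toEquiv]
      exact card_dvd_of_le fun w hw => hPC z hz hw
    · rw [← card_map_of_injective (K := (C z).subgroupOf Np) Np.subtype_injective]
      exact card_dvd_of_le (by rw [subgroupOf_map_subtype]; exact inf_le_left)
  have hle4 : ∀ z ∈ (P : Subgroup G), (O z).card ≤ 4 := by
    intro z hz
    have h := hO z hz
    have := Nat.le_of_dvd Nat.card_pos (hCN z hz).1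
    nlinarith only [h, this]
  have hodd4 : ∀ z ∈ (P : Subgroup G), ¬ 2 ∣ Nat.card (C z) → (O z).card = 4 := by
    intro z hz h2
    have h := hO z hz
    obtain ⟨h9, hd⟩ := hCN z hz
    have hd36 : Nat.card ((C z).subgroupOf Np) ∣ 36 := ⟨_, by rw [← h, mul_comm]⟩
    have key : ∀ c < 37, c ∣ 36 → 9 ∣ c → ¬ 2 ∣ c → c = 9 := by decide
    have := key _ (Nat.lt_succ_of_le (Nat.le_of_dvd (by norm_num) hd36)) hd36 h9
      fun h' => h2 (h'.trans hd)
    rw [this] at h
    omega
  -- the classes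
  set P1 := Finset.univ.filter fun z : G => z ∈ (P : Subgroup G) ∧ z ≠ 1 with hP1
  have hP1card : P1.card = 8 := by
    have : P1 = (Finset.univ.filter fun z : G => z ∈ (P : Subgroup G)).erase 1 := by
      ext z; simp [hP1, and_comm]
    rw [this, Finset.card_erase_of_mem (by simp [one_mem]), ← Fintype.card_subtype,
      ← Nat.card_eq_fintype_card]
    exact congrArg (· - 1) hP9
  set Z := P1.image ConjClasses.mk with hZ
  have hrep : ∀ c ∈ Z, ∃ z, z ∈ (P : Subgroup G) ∧ orderOf z = 3 ∧ ConjClasses.mk z = c := by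
    intro c hc
    obtain ⟨z, hz, rfl⟩ := Finset.mem_image.1 hc
    obtain ⟨-, hzP, hz1⟩ := Finset.mem_filter.1 hz
    exact ⟨z, hzP, hexp z hzP hz1, rfl⟩
  choose! rep hrepP hrep3 hrepc using hrep
  have hfib : ∀ c ∈ Z, (P1.filter fun z => ConjClasses.mk z = c).card = (O (rep c)).card := by
    intro c hc
    congr 1
    ext w
    simp only [hP1, O, Finset.mem_filter, Finset.mem_univ, true_and, hrepc c hc]
    refine ⟨fun h => ⟨h.1.1, h.2⟩, fun h => ⟨⟨h.1, fun hw1 => ?_⟩, h.2⟩⟩
    have h2 := h.2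
    rw [hw1, ← hrepc c hc, ConjClasses.mk_eq_mk_iff_isConj, isConj_one_right] at h2
    have := hrep3 c hc
    rw [h2, orderOf_one] at this
    omega
  have hsum8 : ∑ c ∈ Z, (O (rep c)).card = 8 := by
    rw [← hP1card, Finset.card_eq_sum_card_image ConjClasses.mk P1]
    exact Finset.sum_congr rfl fun c hc => (hfib c hc).symm
  set E := Z.filter fun c => 2 ∣ Nat.card (C (rep c)) with hE
  have hinv : ∀ c ∈ E, ∃ s : G, orderOf s = 2 ∧ Commute (rep c) s ∧ ∀ T : ℕ, 2 ^ T ∣ Nat.card (C (rep c)) →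
      3 * 2 ^ T ∣ Nat.card (C (rep c * s)) := by
    intro c hc
    obtain ⟨hcZ, h2⟩ := Finset.mem_filter.1 hc
    set z := rep c with hz
    obtain ⟨S⟩ : Nonempty (Sylow 2 (C z)) := inferInstance
    have hScard := S.card_eq_multiplicity
    have hpos : 1 ≤ (Nat.card (C z)).factorization 2 :=
      Nat.prime_two.factorization_pos_of_dvd Nat.card_pos.ne' h2
    haveI : Nontrivial (S : Subgroup (C z)) := by
      rw [← Finite.one_lt_card_iff_nontrivial, hScard]
      exact Nat.one_lt_pow (by omega) Nat.one_lt_two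
    have hnt : Nontrivial (center (S : Subgroup (C z))) := S.2.center_nontrivial
    obtain ⟨s', hs'⟩ := exists_prime_orderOf_dvd_card' (G := center (S : Subgroup (C z))) 2 (by
      obtain ⟨k, hk⟩ := (S.2.to_subgroup (center (S : Subgroup (C z)))).exists_card_eq
      rcases k with _ | k
      · rw [← Finite.one_lt_card_iff_nontrivial, hk] at hnt
        simp at hnt
      · rw [hk]; exact dvd_pow_self 2 (by omega))
    set s : G := (((s' : (S : Subgroup (C z))) : C z) : G) with hs
    have hso : orderOf s = 2 := by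
      rw [hs, Subgroup.orderOf_coe, Subgroup.orderOf_coe, Subgroup.orderOf_coe, hs']
    have hcz : Commute z s := (mem_C.1 ((s' : (S : Subgroup (C z))) : C z).2).symm
    refine ⟨s, hso, hcz, fun T hT => ?_⟩
    have h3 : 3 ∣ Nat.card (C (z * s)) := by
      rw [← hrep3 c hcZ]
      exact Subgroup.orderOf_dvd_natCard _
        (mem_C.2 ((Commute.refl z).mul_right hcz).eq)
    have hS : 2 ^ T ∣ Nat.card (C (z * s)) := by
      have hle : (S : Subgroup (C z)).map (C z).subtype ≤ C (z * s) := by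
        rintro _ ⟨w, hw, rfl⟩
        refine mem_C.2 ?_
        have h1 : Commute (w : G) z := mem_C.1 w.2
        have h2 : Commute (w : G) s := by
          have := congrArg (fun a : (S : Subgroup (C z)) => ((a : C z) : G))
            (mem_center_iff.1 s'.2 ⟨w, hw⟩)
          exact this
        exact (h1.mul_right h2).eq
      refine dvd_trans ?_ (card_dvd_of_le hle)
      rw [card_map_of_injective (C z).subtype_injective, hScard]
      exact Nat.pow_dvd_pow 2 ((Nat.prime_two.pow_dvd_iff_le_factorization Nat.card_pos.ne').1 hT)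
    exact (Nat.Coprime.pow_right T (by norm_num : Nat.Coprime 3 2)).mul_dvd_of_dvd_of_dvd h3 hS
  choose! si hsi2 hsic hsid using hinv
  have h6 : ∀ c ∈ E, orderOf (rep c * si c) = 6 ∧ (rep c * si c) ^ 4 = rep c := by
    intro c hc
    have hcZ := (Finset.mem_filter.1 hc).1
    constructor
    · rw [(hsic c hc).orderOf_mul_eq_mul_orderOf_of_coprime (by rw [hrep3 c hcZ, hsi2 c hc]; norm_num),
        hrep3 c hcZ, hsi2 c hc]
    · rw [(hsic c hc).mul_pow, show si c ^ 4 = 1 by
          rw [← orderOf_dvd_iff_pow_eq_one, hsi2 c hc]; norm_num,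
        mul_one, pow_succ, show rep c ^ 3 = 1 by rw [← hrep3 c hcZ, pow_orderOf_eq_one], one_mul]
  set E6 := E.image fun c => ConjClasses.mk (rep c * si c) with hE6
  have hE6card : E6.card = E.card := Finset.card_image_of_injOn fun c hc d hd h => by
    obtain ⟨g, hg⟩ := isConj_iff.1 (ConjClasses.mk_eq_mk_iff_isConj.1 h)
    rw [← hrepc c (Finset.mem_filter.1 hc).1, ← hrepc d (Finset.mem_filter.1 hd).1,
      ConjClasses.mk_eq_mk_iff_isConj]
    refine isConj_iff.2 ⟨g, ?_⟩
    rw [← (h6 c hc).2, ← (h6 d hd).2, ← conj_pow, hg]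
  obtain ⟨t, ht⟩ := exists_prime_orderOf_dvd_card' (G := G) 2 (by rw [hG]; norm_num)
  obtain ⟨x, hx⟩ := exists_prime_orderOf_dvd_card' (G := G) 11 (by rw [hG]; norm_num)
  obtain ⟨y, hy⟩ := exists_prime_orderOf_dvd_card' (G := G) 5 (by rw [hG]; norm_num)
  obtain ⟨f, hf⟩ := exists_orderOf_eq_four hG
  set B : Finset (ConjClasses G) := {ConjClasses.mk 1, ConjClasses.mk t, ConjClasses.mk f,
    ConjClasses.mk y, ConjClasses.mk x, ConjClasses.mk x⁻¹} with hB
  have hord : ∀ {a b : G}, ConjClasses.mk a = ConjClasses.mk b → orderOf a = orderOf b := by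
    intro a b h
    obtain ⟨g, rfl⟩ := isConj_iff.1 (ConjClasses.mk_eq_mk_iff_isConj.1 h)
    rw [← MulAut.conj_apply, MulEquiv.orderOf_eq]
  have hxi : orderOf x⁻¹ = 11 := by rw [orderOf_inv, hx]
  have hne : ∀ {a b : G} {m n : ℕ}, orderOf a = m → orderOf b = n → m ≠ n →
      ConjClasses.mk a ≠ ConjClasses.mk b := fun ha hb hmn h => hmn (by rw [← ha, ← hb, hord h])
  have h1o : orderOf (1 : G) = 1 := orderOf_one
  have hB6 : B.card = 6 := by
    rw [hB, Finset.card_insert_of_notMem, Finset.card_insert_of_notMem,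
      Finset.card_insert_of_notMem, Finset.card_insert_of_notMem, Finset.card_insert_of_notMem,
      Finset.card_singleton]
    · rw [Finset.mem_singleton, ConjClasses.mk_eq_mk_iff_isConj]
      exact not_isConj_inv hG hx
    all_goals
      simp only [Finset.mem_insert, Finset.mem_singleton, not_or]
      refine ⟨?_, ?_⟩ <;> first
        | (refine hne (by assumption) (by assumption) ?_; norm_num)
        | (refine ⟨?_, ?_⟩ <;> first
            | (refine hne (by assumption) (by assumption) ?_; norm_num)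
            | (refine ⟨?_, ?_⟩ <;> first
                | (refine hne (by assumption) (by assumption) ?_; norm_num)
                | (refine ⟨?_, ?_⟩ <;> refine hne (by assumption) (by assumption) ?_ <;> norm_num)))
  have hBo : ∀ c ∈ B, ∀ a, ConjClasses.mk a = c → orderOf a ≠ 3 ∧ orderOf a ≠ 6 := by
    intro c hc a ha
    simp only [hB, Finset.mem_insert, Finset.mem_singleton] at hc
    rcases hc with rfl | rfl | rfl | rfl | rfl | rfl <;> rw [hord ha] <;>
      simp [h1o, ht, hf, hy, hx, hxi]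
  have hZo : ∀ c ∈ Z, ∀ a, ConjClasses.mk a = c → orderOf a = 3 := fun c hc a ha => by
    rw [← hrep3 c hc]; exact hord (ha.trans (hrepc c hc).symm)
  have hd1 : Disjoint B Z := Finset.disjoint_left.2 fun c h1 h2 =>
    (hBo c h1 _ (hrepc c h2)).1 (hrep3 c h2)
  have hd2 : Disjoint (B ∪ Z) E6 := Finset.disjoint_left.2 fun c h1 h2 => by
    obtain ⟨d, hd, rfl⟩ := Finset.mem_image.1 h2
    rcases Finset.mem_union.1 h1 with h | h
    · exact (hBo _ h _ rfl).2 (h6 d hd).1
    · have h3 := hZo _ h _ rfl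
      rw [(h6 d hd).1] at h3
      omega
  haveI : Fintype (ConjClasses G) := Fintype.ofFinite _
  have hcls : Fintype.card (ConjClasses G) = 10 := by
    obtain ⟨L⟩ := exists_labels hG
    rw [← Nat.card_eq_fintype_card, ← Char.card_irr, Nat.card_eq_fintype_card, Fintype.card,
      Finset.card_eq_sum_ones, degree_sum hG fun _ => 1]
  have hle : 6 + Z.card + E.card ≤ 10 := by
    rw [← hcls, ← hB6, ← hE6card, ← Finset.card_union_of_disjoint hd1,
      ← Finset.card_union_of_disjoint hd2]
    exact Finset.card_le_univ _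
  -- the orbit sizes
  have hEZ : E.card ≤ Z.card := Finset.card_filter_le _ _
  have hsumle : ∑ c ∈ Z, (O (rep c)).card ≤ 4 * Z.card := by
    refine (Finset.sum_le_card_nsmul Z _ 4 fun c hc => hle4 _ (hrepP c hc)).trans ?_
    rw [smul_eq_mul, mul_comm]
  have hpos : ∀ c ∈ Z, 1 ≤ (O (rep c)).card := fun c hc => Finset.card_pos.2
    ⟨rep c, Finset.mem_filter.2 ⟨Finset.mem_univ _, hrepP c hc, rfl⟩⟩
  have hlow : 4 * (Z.card - E.card) + E.card ≤ ∑ c ∈ Z, (O (rep c)).card := by
    rw [← Finset.sum_filter_add_sum_filter_not Z (fun c => 2 ∣ Nat.card (C (rep c))), ← hE]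
    have h1 : E.card ≤ ∑ c ∈ E, (O (rep c)).card := by
      rw [Finset.card_eq_sum_ones]
      exact Finset.sum_le_sum fun c hc => hpos c (Finset.mem_filter.1 hc).1
    have hc' : (Z.filter fun c => ¬ 2 ∣ Nat.card (C (rep c))).card = Z.card - E.card := by
      have := Finset.card_filter_add_card_filter_not (s := Z)
        (fun c => 2 ∣ Nat.card (C (rep c)))
      rw [← hE] at this
      omega
    rw [Finset.sum_congr rfl (fun c hc => hodd4 _ (hrepP c (Finset.mem_filter.1 hc).1)
      (Finset.mem_filter.1 hc).2) (s₁ := Z.filter fun c => ¬ 2 ∣ Nat.card (C (rep c))),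
      Finset.sum_const, smul_eq_mul, hc']
    omega
  have hZ2 : Z.card = 2 := by omega
  have heq4 : ∀ c ∈ Z, (O (rep c)).card = 4 := by
    obtain ⟨a, b, hab, he⟩ := Finset.card_eq_two.1 hZ2
    rw [he, Finset.sum_pair hab] at hsum8
    have ha := hle4 _ (hrepP a (he ▸ by simp))
    have hb := hle4 _ (hrepP b (he ▸ by simp))
    intro c hc
    rw [he, Finset.mem_insert, Finset.mem_singleton] at hc
    rcases hc with rfl | rfl <;> omega
  have hsemi : ∀ w ∈ (P : Subgroup G), w ≠ 1 → Nat.card ((C w).subgroupOf Np) = 9 := by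
    intro w hw hw1
    have hc : ConjClasses.mk w ∈ Z :=
      Finset.mem_image_of_mem _ (Finset.mem_filter.2 ⟨Finset.mem_univ _, hw, hw1⟩)
    have h := hO w hw
    have : O w = O (rep (ConjClasses.mk w)) := by
      ext v; simp only [O, Finset.mem_filter, hrepc _ hc]
    rw [this, heq4 _ hc] at h
    omega
  obtain ⟨s', hs'⟩ := exists_prime_orderOf_dvd_card' (G := Np) 2 (by rw [hN]; norm_num)
  have hso : orderOf (s' : G) = 2 := by rw [Subgroup.orderOf_coe, hs']
  have hnotc : ∀ w ∈ (P : Subgroup G), w ≠ 1 → (s' : G) * w ≠ w * s' := by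
    intro w hw hw1 h
    have hm : s' ∈ (C w).subgroupOf Np := mem_C.2 h
    have := Subgroup.orderOf_dvd_natCard _ hm
    rw [hs', hsemi w hw hw1] at this
    norm_num at this
  have hreal : ∀ w ∈ (P : Subgroup G), IsConj w w⁻¹ := by
    intro w hw
    set w' := (s' : G) * w * (s' : G)⁻¹ with hw'
    have hw'P : w' ∈ (P : Subgroup G) := (mem_normalizer_iff.1 s'.2 w).1 hw
    have hss : (s' : G) * s' = 1 := by rw [← pow_two, ← hso, pow_orderOf_eq_one]
    have hfix : (s' : G) * (w' * w) = w' * w * s' := by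
      have e1 : w' * w = w * w' := congrArg Subtype.val (hcomm.is_comm.comm ⟨w', hw'P⟩ ⟨w, hw⟩)
      have hsi' : (s' : G)⁻¹ = s' := inv_eq_of_mul_eq_one_right hss
      conv_lhs => rw [e1]
      rw [hw', hsi']
      calc (s' : G) * (w * ((s' : G) * w * s')) = (s' : G) * w * s' * w * s' := by group
        _ = _ := by group
    by_cases h1 : w' * w = 1
    · exact isConj_iff.2 ⟨s', eq_inv_of_mul_eq_one_left h1⟩
    · exact absurd hfix (hnotc _ (mul_mem hw'P hw) h1)
  have heven : ∀ c ∈ Z, 2 ∣ Nat.card (C (rep c)) := by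
    intro c hc
    by_contra h2
    apply card_C_three_ne_nine hG (hrep3 c hc) (hreal _ (hrepP c hc))
    have h9 : 9 ∣ Nat.card (C (rep c)) := hP9 ▸ card_dvd_of_le (hPC _ (hrepP c hc))
    have hd : Nat.card (C (rep c)) ∣ 7920 := hG ▸ card_subgroup_dvd_card _
    have h5 : ∀ s, s = 5 ∨ s = 11 → ¬ s ∣ Nat.card (C (rep c)) := by
      intro s hs hsd
      haveI : Fact s.Prime := ⟨by rcases hs with rfl | rfl <;> norm_num⟩
      obtain ⟨v, hv⟩ := exists_prime_orderOf_dvd_card' (G := C (rep c)) s hsd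
      exact not_commute_three hG (by rw [Subgroup.orderOf_coe, hv]) hs (hrep3 c hc) (mem_C.1 v.2)
    have c5 := ((by norm_num : Nat.Prime 5).coprime_iff_not_dvd.2 (h5 5 (Or.inl rfl))).symm
    have c11 := ((by norm_num : Nat.Prime 11).coprime_iff_not_dvd.2 (h5 11 (Or.inr rfl))).symm
    have c2 := ((Nat.prime_two.coprime_iff_not_dvd.2 h2).symm).pow_right 4
    rw [show (7920 : ℕ) = 9 * (2 ^ 4 * (5 * 11)) by norm_num] at hd
    exact Nat.dvd_antisymm ((c2.mul_right (c5.mul_right c11)).dvd_of_dvd_mul_right hd) h9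
  have hbig : ∀ c ∈ Z, 4 ∣ Nat.card (C (rep c)) ∧ 9 ∣ Nat.card (C (rep c)) := by
    intro c hc
    have hle' : (P : Subgroup G) ≤ C (rep c) := hPC _ (hrepP c hc)
    have hm := card_sylow_modEq_one 3 (C (rep c))
    have hidx : Nat.card (Sylow 3 (C (rep c))) = (Np.subgroupOf (C (rep c))).index := by
      rw [(P.subtype hle').card_eq_index_normalizer]
      congr 1
      rw [show ((P.subtype hle' : Sylow 3 (C (rep c))) : Set (C (rep c))) =
        (((P : Subgroup G).subgroupOf (C (rep c))) : Set (C (rep c))) by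
        rw [← Sylow.coe_subtype]; rfl]
      rw [hNp]
      exact (subgroupOf_normalizer_eq hle').symm
    rw [hidx] at hm
    have e : Nat.card (Np.subgroupOf (C (rep c))) = 9 := by
      rw [← hsemi _ (hrepP c hc) (fun h => by have := hrep3 c hc; rw [h, orderOf_one] at this; omega)]
      rw [← card_map_of_injective (K := Np.subgroupOf (C (rep c))) (C (rep c)).subtype_injective,
        ← card_map_of_injective (K := (C (rep c)).subgroupOf Np) Np.subtype_injective,
        subgroupOf_map_subtype, subgroupOf_map_subtype, inf_comm]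
    have hmul := (Np.subgroupOf (C (rep c))).index_mul_card
    rw [e] at hmul
    set m := (Np.subgroupOf (C (rep c))).index
    refine ⟨?_, ⟨m, by rw [← hmul, mul_comm]⟩⟩
    have hd : Nat.card (C (rep c)) ∣ 7920 := hG ▸ card_subgroup_dvd_card _
    rw [← hmul, show (7920 : ℕ) = 880 * 9 by norm_num] at hd
    have hd' : m ∣ 880 := Nat.dvd_of_mul_dvd_mul_right (by norm_num) hd
    have h2 := heven c hc
    rw [← hmul] at h2
    have h2' : 2 ∣ m := (Nat.prime_two.dvd_mul.1 h2).resolve_right (by norm_num)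
    have h5 : ¬ 5 ∣ m := by
      intro h
      haveI : Fact (Nat.Prime 5) := ⟨by norm_num⟩
      obtain ⟨v, hv⟩ := exists_prime_orderOf_dvd_card' (G := C (rep c)) 5
        (hmul ▸ h.trans (dvd_mul_right m 9))
      exact not_commute_three hG (by rw [Subgroup.orderOf_coe, hv]) (Or.inl rfl) (hrep3 c hc)
        (mem_C.1 v.2)
    have h11 : ¬ 11 ∣ m := by
      intro h
      haveI : Fact (Nat.Prime 11) := ⟨by norm_num⟩
      obtain ⟨v, hv⟩ := exists_prime_orderOf_dvd_card' (G := C (rep c)) 11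
        (hmul ▸ h.trans (dvd_mul_right m 9))
      exact not_commute_three hG (by rw [Subgroup.orderOf_coe, hv]) (Or.inr rfl) (hrep3 c hc)
        (mem_C.1 v.2)
    have hm' : m % 3 = 1 := hm
    have h16 : m ∣ 16 := by
      refine ((Nat.Coprime.symm ((by norm_num : Nat.Prime 5).coprime_iff_not_dvd.2 h5)).mul_right
        (Nat.Coprime.symm ((by norm_num : Nat.Prime 11).coprime_iff_not_dvd.2 h11))).dvd_of_dvd_mul_right ?_
      rw [show 16 * (5 * 11) = 880 by norm_num]
      exact hd'
    have key : ∀ m < 17, m ∣ 16 → 2 ∣ m → m % 3 = 1 → 4 ∣ m := by decide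
    exact (key m (Nat.lt_succ_of_le (Nat.le_of_dvd (by norm_num) h16)) h16 h2' hm').trans
      (hmul ▸ dvd_mul_right m 9)
  -- counting elements
  have hZE : E = Z := Finset.filter_eq_self.2 heven
  have huniv : (Finset.univ : Finset (ConjClasses G)) = B ∪ Z ∪ E6 := by
    refine (Finset.eq_univ_of_card _ ?_).symm
    rw [Finset.card_union_of_disjoint hd2, Finset.card_union_of_disjoint hd1, hE6card, hB6, hZE,
      hZ2, hcls]
  let sz : ConjClasses G → ℕ := fun c => Nat.card {h : G // ConjClasses.mk h = c}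
  have htot : ∑ c, sz c = 7920 := by
    rw [← hG, ← Nat.card_sigma]
    exact Nat.card_congr (Equiv.sigmaFiberEquiv ConjClasses.mk)
  have hsz : ∀ (g : G) (d : ℕ), d ∣ Nat.card (C g) → sz (ConjClasses.mk g) * d ≤ 7920 := by
    intro g d hd
    have h : Nat.card (C g) * sz (ConjClasses.mk g) = Nat.card G := card_class_mul g
    rw [hG] at h
    have hle := Nat.le_of_dvd Nat.card_pos hd
    calc sz (ConjClasses.mk g) * d ≤ sz (ConjClasses.mk g) * Nat.card (C g) :=
          Nat.mul_le_mul le_rfl hle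
      _ = 7920 := by rw [mul_comm]; exact h
  have hsB : ∑ c ∈ B, sz c ≤ 1 + 165 + 1980 + 1584 + 720 + 720 := by
    have e1 : sz (ConjClasses.mk (1 : G)) ≤ 1 := by
      have hc : Nat.card (C (1 : G)) = 7920 := by
        rw [show C (1 : G) = ⊤ from eq_top_iff.2 fun w _ => mem_C.2 (by simp), card_top, hG]
      have := hsz 1 7920 (by rw [hc])
      omega
    have e2 := hsz t 48 (by rw [card_C_involution hG ht])
    have e3 := hsz f 4 (hf ▸ Subgroup.orderOf_dvd_natCard _ (mem_C.2 rfl))
    have e4 := hsz y 5 (hy ▸ Subgroup.orderOf_dvd_natCard _ (mem_C.2 rfl))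
    have e5 := hsz x 11 (hx ▸ Subgroup.orderOf_dvd_natCard _ (mem_C.2 rfl))
    have e6 := hsz x⁻¹ 11 (hxi ▸ Subgroup.orderOf_dvd_natCard _ (mem_C.2 rfl))
    have hins : ∀ (a : ConjClasses G) (T : Finset (ConjClasses G)),
        ∑ c ∈ insert a T, sz c ≤ sz a + ∑ c ∈ T, sz c := fun a T => by
      by_cases h : a ∈ T
      · rw [Finset.insert_eq_of_mem h]; omega
      · rw [Finset.sum_insert h]
    rw [hB]
    refine le_trans (hins _ _) ?_
    refine le_trans (Nat.add_le_add_left (hins _ _) _) ?_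
    refine le_trans (Nat.add_le_add_left (Nat.add_le_add_left (hins _ _) _) _) ?_
    refine le_trans (Nat.add_le_add_left (Nat.add_le_add_left (Nat.add_le_add_left
      (hins _ _) _) _) _) ?_
    refine le_trans (Nat.add_le_add_left (Nat.add_le_add_left (Nat.add_le_add_left
      (Nat.add_le_add_left (hins _ _) _) _) _) _) ?_
    rw [Finset.sum_singleton]
    omega
  have hsZ : ∑ c ∈ Z, sz c ≤ 440 := by
    refine (Finset.sum_le_card_nsmul Z sz 220 fun c hc => ?_).trans (by rw [hZ2]; norm_num)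
    rw [← hrepc c hc]
    have := hsz (rep c) 36
      ((by norm_num : Nat.Coprime 4 9).mul_dvd_of_dvd_of_dvd (hbig c hc).1 (hbig c hc).2)
    omega
  have hs6 : ∑ c ∈ E6, sz c ≤ 1320 := by
    refine (Finset.sum_le_card_nsmul E6 sz 660 fun c hc => ?_).trans
      (by rw [hE6card, hZE, hZ2]; norm_num)
    obtain ⟨d, hd, rfl⟩ := Finset.mem_image.1 hc
    have hdZ := (Finset.mem_filter.1 hd).1
    have := hsz (rep d * si d) 12 (hsid d hd 2 (hbig d hdZ).1)
    omega
  rw [huniv, Finset.sum_union hd2, Finset.sum_union hd1] at htot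
  omega

/-- The normalizer of a Sylow 3-subgroup has order 144. -/
theorem card_normalizer_three [Fact (Nat.Prime 3)] (P : Sylow 3 G) :
    Nat.card (normalizer ((P : Subgroup G) : Set G)) = 144 := by
  classical
  set Np := normalizer ((P : Subgroup G) : Set G)
  have hP9 := card_sylow_three hG P
  have h9 : 9 ∣ Nat.card Np := hP9 ▸ card_dvd_of_le le_normalizer
  have hno : ∀ s, s = 5 ∨ s = 11 → ¬ s ∣ Nat.card Np := by
    intro s hs h
    haveI : Fact s.Prime := ⟨by rcases hs with rfl | rfl <;> norm_num⟩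
    obtain ⟨w, hw⟩ := exists_prime_orderOf_dvd_card' (G := Np) s h
    have hwo : orderOf (w : G) = s := by rw [Subgroup.orderOf_coe, hw]
    obtain ⟨z', hz'⟩ := exists_prime_orderOf_dvd_card' (G := (P : Subgroup G)) 3
      (by rw [hP9]; norm_num)
    refine not_commute_three hG hwo hs (by rw [Subgroup.orderOf_coe, hz']) ?_
    refine M11Order.commute_of_normalizes (s := s) (P : Subgroup G) w.2
      (by rw [← hwo, pow_orderOf_eq_one]) ?_ z'.2
    rw [hP9]
    intro c hc hm
    have : c = 1 ∨ c = 3 ∨ c = 9 := by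
      have key : ∀ c < 10, c ∣ 9 → c = 1 ∨ c = 3 ∨ c = 9 := by decide
      exact key c (Nat.lt_succ_of_le (Nat.le_of_dvd (by norm_num) hc)) hc
    rcases this with rfl | rfl | rfl <;> rcases hs with rfl | rfl <;>
      first
        | rfl
        | (exfalso; revert hm; decide)
  have hidx : Np.index % 3 = 1 := by
    have := card_sylow_modEq_one 3 G
    rw [P.card_eq_index_normalizer] at this
    exact this
  have hmul := Np.index_mul_card
  rw [hG] at hmul
  have hd : Nat.card Np ∣ 144 := by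
    have h : Nat.card Np ∣ 144 * (5 * 11) := ⟨Np.index, by rw [mul_comm _ Np.index, hmul]⟩
    refine ((Nat.Coprime.symm ((by norm_num : Nat.Prime 5).coprime_iff_not_dvd.2
      (hno 5 (Or.inl rfl)))).mul_right (Nat.Coprime.symm ((by norm_num : Nat.Prime 11).coprime_iff_not_dvd.2
      (hno 11 (Or.inr rfl))))).dvd_of_dvd_mul_right h
  have key : ∀ n < 145, n ∣ 144 → 9 ∣ n → (7920 / n) % 3 = 1 → n = 9 ∨ n = 36 ∨ n = 144 := by
    decide +kernel
  have hi : 7920 / Nat.card Np = Np.index := by rw [← hmul, Nat.mul_div_cancel _ Nat.card_pos]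
  rcases key _ (Nat.lt_succ_of_le (Nat.le_of_dvd (by norm_num) hd)) hd h9 (hi ▸ hidx) with h | h | h
  · exfalso
    have hnp : ¬ IsPGroup 3 G := by
      intro hp
      obtain ⟨k, hk⟩ := hp.exists_card_eq
      have h11 : 11 ∣ 3 ^ k := by rw [← hk, hG]; norm_num
      have := (by norm_num : Nat.Prime 11).dvd_of_dvd_pow h11
      norm_num at this
    refine TwentyTwo.normalizer_not_le_centralizer P (by rw [hP9]; norm_num) hnp ?_
    have hcomm : IsMulCommutative (P : Subgroup G) :=
      IsPGroup.isMulCommutative_of_card_eq_prime_sq (p := 3) (by rw [hP9]; norm_num)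
    have e : (P : Subgroup G) = Np := eq_of_le_of_card_ge le_normalizer (by rw [h, hP9])
    show Np ≤ _
    rw [← e]
    exact fun w hw => mem_centralizer_iff.2 fun z hz =>
      congrArg Subtype.val (hcomm.is_comm.comm ⟨z, hz⟩ ⟨w, hw⟩)
  · exact (not_thirty_six hG P h).elim
  · exact h

end Cfsg.Agent.Order7920
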