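import Cfsg.Agent.Lib.Order7920.Degrees
import Cfsg.Agent.Lib.Char.ClassSum
import Cfsg.Agent.Lib.CharInt.Galois

/-!
# The columns of the character table of a simple group of order 7920 at elements of order 11 and 5,
and the columns of integral valued classes
-/

namespace Cfsg.Agent.Order7920

open scoped ComplexConjugate
open Cfsg

set_option linter.style.haveILetI false

/-- Labels for the ten irreducible characters. -/
structure Labels (G : Type*) [Group G] [Fintype G] where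
  o : IrrCharacter G
  t1 : IrrCharacter G
  t2 : IrrCharacter G
  t3 : IrrCharacter G
  e11 : IrrCharacter G
  s1 : IrrCharacter G
  s2 : IrrCharacter G
  e44 : IrrCharacter G
  e45 : IrrCharacter G
  e55 : IrrCharacter G
  ho : o = Char.trivialChar G
  do' : Char.degree o = 1
  dt1 : Char.degree t1 = 10
  dt2 : Char.degree t2 = 10
  dt3 : Char.degree t3 = 10
  d11 : Char.degree e11 = 11
  ds1 : Char.degree s1 = 16
  ds2 : Char.degree s2 = 16
  d44 : Char.degree e44 = 44
  d45 : Char.degree e45 = 45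
  d55 : Char.degree e55 = 55
  sum_eq : ∀ {A : Type} [AddCommMonoid A] (F : IrrCharacter G → A), ∑ χ, F χ =
    F o + (F t1 + (F t2 + (F t3 + (F e11 + (F s1 + (F s2 + (F e44 + (F e45 + F e55))))))))

variable {G : Type*} [Group G] [Fintype G] [IsSimpleGroup G] (hG : Nat.card G = 7920)
include hG

theorem exists_labels : Nonempty (Labels G) := by
  classical
  have hcnt : ∀ n, (Finset.univ.filter fun χ : IrrCharacter G => Char.degree χ = n).card =
      (if 1 = n then 1 else 0) + 3 * (if 10 = n then 1 else 0) + 2 * (if 16 = n then 1 else 0) +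
      (if 45 = n then 1 else 0) + (if 11 = n then 1 else 0) + (if 44 = n then 1 else 0) +
      (if 55 = n then 1 else 0) := fun n => by
    rw [Finset.card_filter]
    exact degree_sum hG fun d => if d = n then 1 else 0
  obtain ⟨a, b, c, hab, hac, hbc, h10⟩ := Finset.card_eq_three.1 (by rw [hcnt 10]; rfl :
    (Finset.univ.filter fun χ : IrrCharacter G => Char.degree χ = 10).card = 3)
  obtain ⟨s, s', hss, h16⟩ := Finset.card_eq_two.1 (by rw [hcnt 16]; rfl :
    (Finset.univ.filter fun χ : IrrCharacter G => Char.degree χ = 16).card = 2)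
  obtain ⟨e, he⟩ := Finset.card_eq_one.1 (by rw [hcnt 11]; rfl :
    (Finset.univ.filter fun χ : IrrCharacter G => Char.degree χ = 11).card = 1)
  obtain ⟨f, hf⟩ := Finset.card_eq_one.1 (by rw [hcnt 44]; rfl :
    (Finset.univ.filter fun χ : IrrCharacter G => Char.degree χ = 44).card = 1)
  obtain ⟨g, hg⟩ := Finset.card_eq_one.1 (by rw [hcnt 45]; rfl :
    (Finset.univ.filter fun χ : IrrCharacter G => Char.degree χ = 45).card = 1)
  obtain ⟨k, hk⟩ := Finset.card_eq_one.1 (by rw [hcnt 55]; rfl :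
    (Finset.univ.filter fun χ : IrrCharacter G => Char.degree χ = 55).card = 1)
  have hmem : ∀ {n : ℕ} {χ : IrrCharacter G} {S : Finset (IrrCharacter G)},
      (Finset.univ.filter fun χ : IrrCharacter G => Char.degree χ = n) = S → χ ∈ S →
      Char.degree χ = n := by
    intro n χ S h hχ
    rw [← h] at hχ
    exact (Finset.mem_filter.1 hχ).2
  have d1 : Char.degree (Char.trivialChar G) = 1 := by
    have := Char.apply_one_eq_degree (Char.trivialChar G)
    rw [Char.trivialChar_apply] at this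
    exact_mod_cast this.symm
  have da := hmem h10 (Finset.mem_insert_self a _)
  have db := hmem h10 (show b ∈ ({a, b, c} : Finset _) by simp)
  have dc := hmem h10 (show c ∈ ({a, b, c} : Finset _) by simp)
  have ds := hmem h16 (Finset.mem_insert_self s _)
  have ds' := hmem h16 (show s' ∈ ({s, s'} : Finset _) by simp)
  have de := hmem he (Finset.mem_singleton_self e)
  have df := hmem hf (Finset.mem_singleton_self f)
  have dg := hmem hg (Finset.mem_singleton_self g)
  have dk := hmem hk (Finset.mem_singleton_self k)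
  set L : List (IrrCharacter G) := [Char.trivialChar G, a, b, c, e, s, s', f, g, k] with hL
  have hne : ∀ {φ ψ : IrrCharacter G} {m n : ℕ}, Char.degree φ = m → Char.degree ψ = n → m ≠ n →
      φ ≠ ψ := fun h1 h2 h3 h => h3 (by rw [← h1, ← h2, h])
  have hnd : L.Nodup := by
    simp only [hL, List.nodup_cons, List.mem_cons, List.not_mem_nil, or_false, not_or,
      not_false_eq_true, List.nodup_nil, and_true]
    refine ⟨⟨?_, ?_, ?_, ?_, ?_, ?_, ?_, ?_, ?_⟩, ⟨hab, hac, ?_, ?_, ?_, ?_, ?_, ?_⟩,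
      ⟨hbc, ?_, ?_, ?_, ?_, ?_, ?_⟩, ⟨?_, ?_, ?_, ?_, ?_, ?_⟩, ⟨?_, ?_, ?_, ?_, ?_⟩,
      ⟨hss, ?_, ?_, ?_⟩, ⟨?_, ?_, ?_⟩, ⟨?_, ?_⟩, ?_⟩ <;>
      refine hne (by assumption) (by assumption) ?_ <;> norm_num
  have huniv : (Finset.univ : Finset (IrrCharacter G)) = L.toFinset := by
    refine (Finset.eq_univ_of_card _ ?_).symm
    rw [List.toFinset_card_of_nodup hnd, Fintype.card, Finset.card_eq_sum_ones,
      degree_sum hG fun _ => 1]
    rfl
  exact ⟨⟨Char.trivialChar G, a, b, c, e, s, s', f, g, k, rfl, d1, da, db, dc, de, ds, ds', df, dg,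
    dk, fun F => by
      rw [huniv, List.sum_toFinset _ hnd]
      simp [hL]⟩⟩

set_option maxHeartbeats 1600000 in
/-- The known columns, for an integral valued class `g`. -/
theorem column_relations (L : Labels G) {x y g : G} (hx : orderOf x = 11) (hy : orderOf y = 5)
    (F : IrrCharacter G → ℤ) (hF : ∀ χ, χ.1 g = F χ) (hgx : ¬ IsConj g x) (hgy : ¬ IsConj g y)
    (hg1 : g ≠ 1) :
    F L.o = 1 ∧ F L.s2 = F L.s1 ∧
    1 - (F L.t1 + F L.t2 + F L.t3) + F L.e45 - F L.s1 = 0 ∧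
    1 + F L.e11 - F L.e44 + 2 * F L.s1 = 0 ∧
    1 + 10 * (F L.t1 + F L.t2 + F L.t3) + 11 * F L.e11 + 32 * F L.s1 + 44 * F L.e44 +
      45 * F L.e45 + 55 * F L.e55 = 0 ∧
    1 + F L.t1 * F L.t1 + F L.t2 * F L.t2 + F L.t3 * F L.t3 + F L.e11 * F L.e11 +
      2 * (F L.s1 * F L.s1) + F L.e44 * F L.e44 + F L.e45 * F L.e45 + F L.e55 * F L.e55 =
      (Nat.card (C g) : ℤ) := by
  classical
  have hFo : F L.o = 1 := by
    have := hF L.o
    rw [L.ho, Char.trivialChar_apply] at this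
    rw [L.ho]
    exact_mod_cast this.symm
  -- the column at `x`
  have hval : ∀ χ : IrrCharacter G, ∃ u v : ℤ, 2 * χ.1 x = u + v * w ∧
      (2 * (Char.degree χ : ℤ) - u) % 11 = 0 ∧ (u * u + 11 * (v * v)) % 4 = 0 := by
    intro χ
    obtain ⟨n, u, v, hn, h⟩ :=
      values_eleven (Char.irr_isCharacter χ) hx (five_dvd_conj hG hx)
    rw [Char.apply_one_eq_degree] at hn
    have : Char.degree χ = n := by exact_mod_cast hn
    exact ⟨u, v, by rwa [this]⟩
  choose u v huv hu11 hu4 using hval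
  have hvalc : ∀ χ : IrrCharacter G, 2 * conj (χ.1 x) = u χ - v χ * w := by
    intro χ
    have := congrArg conj (huv χ)
    simp only [map_mul, map_ofNat, map_add, map_intCast, conj_w] at this
    linear_combination this
  have hN : ∑ χ, (u χ * u χ + 11 * (v χ * v χ)) = 44 := by
    have h := Char.sum_irr_mul_conj x x
    rw [if_pos (IsConj.refl x), (eleven hG hx).1] at h
    have h' : ((∑ χ, (u χ * u χ + 11 * (v χ * v χ)) : ℤ) : ℂ) =
        4 * ∑ χ : IrrCharacter G, χ.1 x * conj (χ.1 x) := by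
      rw [Finset.mul_sum, Int.cast_sum]
      refine Finset.sum_congr rfl fun χ _ => ?_
      push_cast
      linear_combination (-(2 * conj (χ.1 x))) * huv χ + (-((u χ : ℂ) + v χ * w)) * hvalc χ +
        (v χ : ℂ) * v χ * w_sq
    rw [h] at h'
    norm_num at h'
    exact_mod_cast h'
  have hD : ∑ χ, (Char.degree χ : ℤ) * u χ = 0 ∧ ∑ χ, (Char.degree χ : ℤ) * v χ = 0 := by
    have h := Char.sum_irr_degree_mul x
    rw [if_neg (fun e => by rw [e, orderOf_one] at hx; omega)] at h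
    refine int_eq_zero_of_add_w ?_
    rw [Int.cast_sum, Int.cast_sum, Finset.sum_mul, ← Finset.sum_add_distrib]
    calc _ = ∑ χ : IrrCharacter G, 2 * (χ.1 1 * χ.1 x) := by
          refine Finset.sum_congr rfl fun χ _ => ?_
          rw [Char.apply_one_eq_degree]
          push_cast
          linear_combination (-(Char.degree χ : ℂ)) * huv χ
      _ = 0 := by rw [← Finset.mul_sum, h, mul_zero]
  have hX : ∑ χ, u χ * F χ = 0 ∧ ∑ χ, v χ * F χ = 0 := by
    have h := Char.sum_irr_mul_conj x g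
    rw [if_neg (fun e => hgx e.symm)] at h
    refine int_eq_zero_of_add_w ?_
    rw [Int.cast_sum, Int.cast_sum, Finset.sum_mul, ← Finset.sum_add_distrib]
    calc _ = ∑ χ : IrrCharacter G, 2 * (χ.1 x * conj (χ.1 g)) := by
          refine Finset.sum_congr rfl fun χ _ => ?_
          rw [hF, map_intCast]
          push_cast
          linear_combination (-(F χ : ℂ)) * huv χ
      _ = 0 := by rw [← Finset.mul_sum, h, mul_zero]
  have hb : ∀ χ, -6 ≤ u χ ∧ u χ ≤ 6 := by
    intro χ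
    have h1 : u χ * u χ + 11 * (v χ * v χ) ≤ 44 := hN ▸
      Finset.single_le_sum (f := fun χ => u χ * u χ + 11 * (v χ * v χ))
        (fun φ _ => by nlinarith [mul_self_nonneg (u φ), mul_self_nonneg (v φ)]) (Finset.mem_univ χ)
    have := mul_self_nonneg (v χ)
    constructor <;> nlinarith
  -- the residues determine `u` except for a sign change of a large value
  have hsmall : ∀ χ, ∀ r : ℤ, -4 ≤ r → r ≤ 4 → (2 * (Char.degree χ : ℤ) - r) % 11 = 0 →
      u χ = r ∨ (u χ = r + 11 ∨ u χ = r - 11) := by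
    intro χ r h1 h2 h3
    have := hu11 χ; have := hb χ
    omega
  have hge : ∀ χ, ∀ r : ℤ, -4 ≤ r → r ≤ 4 → (2 * (Char.degree χ : ℤ) - r) % 11 = 0 →
      r * r ≤ u χ * u χ + 11 * (v χ * v χ) ∧ (r * r = u χ * u χ + 11 * (v χ * v χ) →
        u χ = r ∧ v χ = 0) := by
    intro χ r h1 h2 h3
    have hv := mul_self_nonneg (v χ)
    have hrr : r * r ≤ 16 := by nlinarith
    rcases hsmall χ r h1 h2 h3 with h | h | h <;> rw [h]
    · exact ⟨by linarith, fun e => ⟨rfl, mul_self_eq_zero.1 (by linarith)⟩⟩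
    · have : 21 ≤ (r + 11) * (r + 11) := by nlinarith
      exact ⟨by linarith, fun e => absurd e (by linarith)⟩
    · have : 21 ≤ (r - 11) * (r - 11) := by nlinarith
      exact ⟨by linarith, fun e => absurd e (by linarith)⟩
  have hge16 : ∀ χ, Char.degree χ = 16 → 12 ≤ u χ * u χ + 11 * (v χ * v χ) ∧
      (u χ * u χ + 11 * (v χ * v χ) = 12 → u χ = -1 ∧ (v χ = 1 ∨ v χ = -1)) := by
    intro χ hχ
    have h4 := hu4 χ
    have h11 := hu11 χ
    rw [hχ] at h11
    have hb' := hb χ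
    have hodd : v χ ≠ 0 := by
      intro h0
      rw [h0] at h4
      have hcase : u χ = -1 := by omega
      rw [hcase] at h4
      norm_num at h4
    have hv1 : 1 ≤ v χ * v χ := by have := mul_self_pos.2 hodd; omega
    have hu1 : 1 ≤ u χ * u χ := by
      have : u χ ≠ 0 := fun h0 => by rw [h0] at h11; norm_num at h11
      have := mul_self_pos.2 this
      omega
    refine ⟨by linarith, fun e => ?_⟩
    have e1 : u χ * u χ = 1 := by linarith
    have e2 : v χ * v χ = 1 := by linarith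
    refine ⟨?_, mul_self_eq_one_iff.1 e2⟩
    rcases mul_self_eq_one_iff.1 e1 with h | h
    · rw [h] at h11; norm_num at h11
    · exact h
  rw [L.sum_eq] at hN
  have g0 := hge L.o 2 (by norm_num) (by norm_num) (by rw [L.do']; decide)
  have g1 := hge L.t1 (-2) (by norm_num) (by norm_num) (by rw [L.dt1]; decide)
  have g2 := hge L.t2 (-2) (by norm_num) (by norm_num) (by rw [L.dt2]; decide)
  have g3 := hge L.t3 (-2) (by norm_num) (by norm_num) (by rw [L.dt3]; decide)
  have g4 := hge L.e11 0 (by norm_num) (by norm_num) (by rw [L.d11]; decide)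
  have g5 := hge16 L.s1 L.ds1
  have g6 := hge16 L.s2 L.ds2
  have g7 := hge L.e44 0 (by norm_num) (by norm_num) (by rw [L.d44]; decide)
  have g8 := hge L.e45 2 (by norm_num) (by norm_num) (by rw [L.d45]; decide)
  have g9 := hge L.e55 0 (by norm_num) (by norm_num) (by rw [L.d55]; decide)
  obtain ⟨xu0, xv0⟩ := g0.2 (by linarith only [hN, g0.1, g1.1, g2.1, g3.1, g4.1, g5.1, g6.1, g7.1, g8.1, g9.1])
  obtain ⟨xu1, xv1⟩ := g1.2 (by linarith only [hN, g0.1, g1.1, g2.1, g3.1, g4.1, g5.1, g6.1, g7.1, g8.1, g9.1])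
  obtain ⟨xu2, xv2⟩ := g2.2 (by linarith only [hN, g0.1, g1.1, g2.1, g3.1, g4.1, g5.1, g6.1, g7.1, g8.1, g9.1])
  obtain ⟨xu3, xv3⟩ := g3.2 (by linarith only [hN, g0.1, g1.1, g2.1, g3.1, g4.1, g5.1, g6.1, g7.1, g8.1, g9.1])
  obtain ⟨xu4, xv4⟩ := g4.2 (by linarith only [hN, g0.1, g1.1, g2.1, g3.1, g4.1, g5.1, g6.1, g7.1, g8.1, g9.1])
  obtain ⟨xu5, xv5⟩ := g5.2 (by linarith only [hN, g0.1, g1.1, g2.1, g3.1, g4.1, g5.1, g6.1, g7.1, g8.1, g9.1])
  obtain ⟨xu6, xv6⟩ := g6.2 (by linarith only [hN, g0.1, g1.1, g2.1, g3.1, g4.1, g5.1, g6.1, g7.1, g8.1, g9.1])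
  obtain ⟨xu7, xv7⟩ := g7.2 (by linarith only [hN, g0.1, g1.1, g2.1, g3.1, g4.1, g5.1, g6.1, g7.1, g8.1, g9.1])
  obtain ⟨xu8, xv8⟩ := g8.2 (by linarith only [hN, g0.1, g1.1, g2.1, g3.1, g4.1, g5.1, g6.1, g7.1, g8.1, g9.1])
  obtain ⟨xu9, xv9⟩ := g9.2 (by linarith only [hN, g0.1, g1.1, g2.1, g3.1, g4.1, g5.1, g6.1, g7.1, g8.1, g9.1])
  obtain ⟨hX1, hX2⟩ := hX
  rw [L.sum_eq, xu0, xu1, xu2, xu3, xu4, xu5, xu6, xu7, xu8, xu9, hFo] at hX1
  rw [L.sum_eq, xv0, xv1, xv2, xv3, xv4, xv7, xv8, xv9] at hX2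
  have hD2 := hD.2
  rw [L.sum_eq, xv0, xv1, xv2, xv3, xv4, xv7, xv8, xv9, L.ds1, L.ds2] at hD2
  have hs : F L.s2 = F L.s1 := by
    rcases xv5 with h | h <;> rcases xv6 with h' | h' <;> rw [h, h'] at hX2 hD2 <;>
      push_cast at hD2 <;> omega
  -- the column at `y`
  obtain ⟨hCy, hyc⟩ := five hG hy (odd_C_five hG L.t1 L.dt1 hy)
  have hval5 : ∀ χ : IrrCharacter G, ∃ k : ℤ, χ.1 y = k ∧
      ((Char.degree χ : ℤ) - k) % 5 = 0 := by
    intro χ
    obtain ⟨n, k, hn, h⟩ := values_five (Char.irr_isCharacter χ) hy hyc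
    rw [Char.apply_one_eq_degree] at hn
    have : Char.degree χ = n := by exact_mod_cast hn
    exact ⟨k, by rwa [this]⟩
  choose k hk hk5 using hval5
  have hY2 : ∑ χ, k χ * k χ = 5 := by
    have h := Char.sum_irr_mul_conj y y
    rw [if_pos (IsConj.refl y), hCy] at h
    have h' : ((∑ χ, k χ * k χ : ℤ) : ℂ) = ((5 : ℕ) : ℂ) := by
      rw [← h, Int.cast_sum]
      exact Finset.sum_congr rfl fun χ _ => by rw [hk, map_intCast]; push_cast; ring
    exact_mod_cast h'
  have hk2 : ∀ χ, ∀ r : ℤ, -2 ≤ r → r ≤ 2 → ((Char.degree χ : ℤ) - r) % 5 = 0 → k χ = r := by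
    intro χ r h1 h2 h3
    have h4 : k χ * k χ ≤ 5 := hY2 ▸ Finset.single_le_sum (f := fun χ => k χ * k χ)
      (fun _ _ => mul_self_nonneg _) (Finset.mem_univ χ)
    have : -2 ≤ k χ ∧ k χ ≤ 2 := ⟨by nlinarith only [h4], by nlinarith only [h4]⟩
    have := hk5 χ
    omega
  have hY : ∑ χ, k χ * F χ = 0 := by
    have h := Char.sum_irr_mul_conj y g
    rw [if_neg (fun e => hgy e.symm)] at h
    refine (Int.cast_eq_zero (α := ℂ)).1 ?_
    rw [Int.cast_sum, ← h]
    exact Finset.sum_congr rfl fun χ _ => by rw [hk, hF, map_intCast]; push_cast; ring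
  rw [L.sum_eq, hk2 L.o 1 (by norm_num) (by norm_num) (by rw [L.do']; decide),
    hk2 L.t1 0 (by norm_num) (by norm_num) (by rw [L.dt1]; decide),
    hk2 L.t2 0 (by norm_num) (by norm_num) (by rw [L.dt2]; decide),
    hk2 L.t3 0 (by norm_num) (by norm_num) (by rw [L.dt3]; decide),
    hk2 L.e11 1 (by norm_num) (by norm_num) (by rw [L.d11]; decide),
    hk2 L.s1 1 (by norm_num) (by norm_num) (by rw [L.ds1]; decide),
    hk2 L.s2 1 (by norm_num) (by norm_num) (by rw [L.ds2]; decide),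
    hk2 L.e44 (-1) (by norm_num) (by norm_num) (by rw [L.d44]; decide),
    hk2 L.e45 0 (by norm_num) (by norm_num) (by rw [L.d45]; decide),
    hk2 L.e55 0 (by norm_num) (by norm_num) (by rw [L.d55]; decide), hFo, hs] at hY
  -- the degrees
  have hZ : ∑ χ, (Char.degree χ : ℤ) * F χ = 0 := by
    have h := Char.sum_irr_degree_mul g
    rw [if_neg hg1] at h
    refine (Int.cast_eq_zero (α := ℂ)).1 ?_
    rw [Int.cast_sum, ← h]
    exact Finset.sum_congr rfl fun χ _ => by
      rw [Char.apply_one_eq_degree, hF]; push_cast; rfl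
  rw [L.sum_eq, hFo, hs, L.do', L.dt1, L.dt2, L.dt3, L.d11, L.ds1, L.ds2, L.d44, L.d45, L.d55]
    at hZ
  push_cast at hZ
  have hW : ∑ χ, F χ * F χ = (Nat.card (C g) : ℤ) := by
    have h := Char.sum_irr_mul_conj g g
    rw [if_pos (IsConj.refl g)] at h
    refine (Int.cast_inj (α := ℂ)).1 ?_
    rw [Int.cast_sum, Int.cast_natCast, ← h]
    exact Finset.sum_congr rfl fun χ _ => by rw [hF, map_intCast]; push_cast; ring
  rw [L.sum_eq, hFo, hs] at hW
  rw [hs] at hX1
  exact ⟨hFo, hs, by linarith, by linarith, by linarith, by linarith⟩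

set_option maxHeartbeats 1600000 in
/-- The column of an involution. -/
theorem involution_column (L : Labels G) {t : G} (ht : orderOf t = 2) :
    ∃ F : IrrCharacter G → ℤ, (∀ χ, χ.1 t = F χ) ∧ F L.o = 1 ∧
      ((F L.t1 = 2 ∧ F L.t2 = -2 ∧ F L.t3 = -2) ∨ (F L.t1 = -2 ∧ F L.t2 = 2 ∧ F L.t3 = -2) ∨
        (F L.t1 = -2 ∧ F L.t2 = -2 ∧ F L.t3 = 2)) ∧
      F L.e11 = 3 ∧ F L.s1 = 0 ∧ F L.s2 = 0 ∧ F L.e44 = 4 ∧ F L.e45 = -3 ∧ F L.e55 = -1 ∧
      Nat.card (C t) = 48 := by
  classical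
  haveI : Fact (Nat.Prime 2) := ⟨Nat.prime_two⟩
  haveI : Fact (Nat.Prime 5) := ⟨by norm_num⟩
  haveI : Fact (Nat.Prime 11) := ⟨by norm_num⟩
  obtain ⟨x, hx⟩ := exists_prime_orderOf_dvd_card' (G := G) 11 (by rw [hG]; norm_num)
  obtain ⟨y, hy⟩ := exists_prime_orderOf_dvd_card' (G := G) 5 (by rw [hG]; norm_num)
  have hne : ∀ χ : IrrCharacter G, Char.degree χ ≠ 1 → χ ≠ Char.trivialChar G := fun χ h e => by
    have h1 := Char.apply_one_eq_degree χ
    rw [e, Char.trivialChar_apply, show Char.degree (Char.trivialChar G) = Char.degree χ by rw [e]]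
      at h1
    exact h (by exact_mod_cast h1.symm)
  have hint : ∀ χ : IrrCharacter G, ∃ k : ℤ, χ.1 t = k ∧ (χ ≠ Char.trivialChar G →
      ∃ m : ℕ, Even m ∧ 0 < m ∧ m < Char.degree χ ∧ k = (Char.degree χ : ℤ) - 2 * m) := by
    intro χ
    by_cases h : χ = Char.trivialChar G
    · exact ⟨1, by rw [h, Char.trivialChar_apply, Int.cast_one], fun h' => absurd h h'⟩
    · obtain ⟨m, h1, h2, h3, h4⟩ := involution_value (noncomm hG) χ h ht
      exact ⟨(Char.degree χ : ℤ) - 2 * m, by rw [h4]; push_cast; rfl,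
        fun _ => ⟨m, h1, h2, h3, rfl⟩⟩
  choose F hF hm using hint
  have hgo : ∀ {z : G} {p : ℕ}, orderOf z = p → p ≠ 2 → ¬ IsConj t z := fun hz hp h => by
    obtain ⟨c, rfl⟩ := isConj_iff.1 h
    rw [← MulAut.conj_apply, MulEquiv.orderOf_eq, ht] at hz
    exact hp hz.symm
  obtain ⟨hFo, hs, r1, r2, r3, r4⟩ := column_relations hG L hx hy F hF (hgo hx (by norm_num))
    (hgo hy (by norm_num)) (fun e => by rw [e, orderOf_one] at ht; omega)
  obtain ⟨M, hM⟩ := CharInt.exists_isPModular_of_prime (q := 2) Nat.prime_two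
  haveI := hM.2.1
  have hs0 : ∀ χ : IrrCharacter G, Char.degree χ = 16 → χ.1 t = 0 := fun χ hχ => by
    refine Blocks.apply_eq_zero_of_defect_zero hM.2.2 χ ?_ fun h => h (by rw [ht])
    rw [hχ, hG, show (7920 : ℕ) = 2 ^ 4 * 495 by rfl, show (16 : ℕ) = 2 ^ 4 by rfl,
      Nat.factorization_mul (by norm_num) (by norm_num), Finsupp.add_apply,
      Nat.prime_two.factorization_pow, Finsupp.single_eq_same,
      Nat.factorization_eq_zero_of_not_dvd (by norm_num), add_zero]
  have hs1 : F L.s1 = 0 := by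
    have := hs0 L.s1 L.ds1
    rw [hF] at this
    exact_mod_cast this
  -- no two involutions multiply to `x`
  have hcount : Nat.card {p : G × G // p.1 * t * p.1⁻¹ * (p.2 * t * p.2⁻¹) = x} = 0 := by
    rw [Nat.card_eq_zero]
    refine Or.inl ⟨fun ⟨⟨c, d⟩, h⟩ => not_isConj_inv hG hx ?_⟩
    have ht2 : t * t = 1 := by rw [← pow_two, ← ht, pow_orderOf_eq_one]
    have e : ∀ c : G, c * t * c⁻¹ * (c * t * c⁻¹) = 1 := fun c => by
      rw [conj_mul, ht2, mul_one, mul_inv_cancel]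
    refine isConj_iff.2 ⟨c * t * c⁻¹, ?_⟩
    change c * t * c⁻¹ * (d * t * d⁻¹) = x at h
    rw [← h, mul_inv_rev (c * t * c⁻¹), inv_eq_of_mul_eq_one_right (e d),
      inv_eq_of_mul_eq_one_right (e c), ← mul_assoc (c * t * c⁻¹) (c * t * c⁻¹), e c, one_mul]
  have hsum : ∑ χ : IrrCharacter G, χ.1 t * χ.1 t * χ.1 x⁻¹ / χ.1 1 = 0 := by
    have h := Char.card_conj_mul_conj_eq t t x
    rw [hcount, Nat.cast_zero, eq_comm, mul_eq_zero] at h
    exact h.resolve_left (by rw [hG]; norm_num)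
  have hxval : ∀ χ : IrrCharacter G, ∃ u v : ℤ, 2 * χ.1 x⁻¹ = u - v * w ∧
      (2 * (Char.degree χ : ℤ) - u) % 11 = 0 ∧ (u * u + 11 * (v * v)) % 4 = 0 ∧
      (u : ℂ) * u + 11 * ((v : ℂ) * v) = 4 * (χ.1 x * conj (χ.1 x)) := by
    intro χ
    obtain ⟨n, u, v, hn, h, h', h''⟩ :=
      values_eleven (Char.irr_isCharacter χ) hx (five_dvd_conj hG hx)
    rw [Char.apply_one_eq_degree] at hn
    have e : Char.degree χ = n := by exact_mod_cast hn
    have hc := congrArg conj h
    simp only [map_mul, map_ofNat, map_add, map_intCast, conj_w] at hc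
    refine ⟨u, v, by rw [CharInt.char_inv (Char.irr_isCharacter χ)]; linear_combination hc,
      by rwa [e], h'', ?_⟩
    linear_combination (-(2 * conj (χ.1 x))) * h + (-((u : ℂ) + v * w)) * hc +
        (v : ℂ) * v * w_sq
  choose u v huv hu11 hu4 hnorm using hxval
  have hN : ∑ χ, (u χ * u χ + 11 * (v χ * v χ)) = 44 := by
    have h := Char.sum_irr_mul_conj x x
    rw [if_pos (IsConj.refl x), (eleven hG hx).1] at h
    refine (Int.cast_inj (α := ℂ)).1 ?_
    push_cast
    rw [Finset.sum_congr rfl fun χ _ => hnorm χ, ← Finset.mul_sum, h]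
    norm_num
  have hu : ∀ χ, ∀ r : ℤ, -4 ≤ r → r ≤ 4 → (2 * (Char.degree χ : ℤ) - r) % 11 = 0 →
      u χ = r ∨ 21 ≤ u χ * u χ := by
    intro χ r h1 h2 h3
    have h11 := hu11 χ
    by_cases h : u χ = r
    · exact Or.inl h
    · right
      rcases le_or_gt 0 (u χ) with h0 | h0
      · have : 5 ≤ u χ := by omega
        nlinarith
      · have : u χ ≤ -5 := by omega
        nlinarith
  -- the values at `x⁻¹` of the characters not vanishing at `t`
  have hpos : ∀ φ, 0 ≤ u φ * u φ + 11 * (v φ * v φ) := fun φ => by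
    nlinarith [mul_self_nonneg (u φ), mul_self_nonneg (v φ)]
  have h12 : ∀ χ, Char.degree χ = 16 → 12 ≤ u χ * u χ + 11 * (v χ * v χ) := by
    intro χ hχ
    have h4 := hu4 χ
    have h11 := hu11 χ
    rw [hχ] at h11
    have hu0 : u χ ≠ 0 := fun h0 => by rw [h0] at h11; norm_num at h11
    have hu1 : 1 ≤ u χ * u χ := by have := mul_self_pos.2 hu0; omega
    by_cases hv0 : v χ = 0
    · rw [hv0] at h4 ⊢
      rcases hu χ (-1) (by norm_num) (by norm_num) (by rw [hχ]; decide) with h | h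
      · rw [h] at h4; norm_num at h4
      · linarith
    · have := mul_self_pos.2 hv0
      linarith
  have q0 := hu L.o 2 (by norm_num) (by norm_num) (by rw [L.do']; decide)
  have q1 := hu L.t1 (-2) (by norm_num) (by norm_num) (by rw [L.dt1]; decide)
  have q2 := hu L.t2 (-2) (by norm_num) (by norm_num) (by rw [L.dt2]; decide)
  have q3 := hu L.t3 (-2) (by norm_num) (by norm_num) (by rw [L.dt3]; decide)
  have q4 := hu L.e45 2 (by norm_num) (by norm_num) (by rw [L.d45]; decide)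
  rw [L.sum_eq] at hN
  have h5 := h12 L.s1 L.ds1
  have h6 := h12 L.s2 L.ds2
  have n0 := mul_self_nonneg (v L.o); have n1 := mul_self_nonneg (v L.t1)
  have n2 := mul_self_nonneg (v L.t2); have n3 := mul_self_nonneg (v L.t3)
  have n4 := mul_self_nonneg (v L.e45)
  have p1 := hpos L.e11; have p2 := hpos L.e44; have p3 := hpos L.e55
  have e0 : u L.o = 2 ∧ u L.t1 = -2 ∧ u L.t2 = -2 ∧ u L.t3 = -2 ∧ u L.e45 = 2 := by
    rcases q0 with h0 | h0 <;> rcases q1 with h1 | h1 <;> rcases q2 with h2 | h2 <;>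
      rcases q3 with h3 | h3 <;> rcases q4 with h4 | h4 <;>
      first
        | exact ⟨h0, h1, h2, h3, h4⟩
        | (exfalso; (try rw [h0] at hN); (try rw [h1] at hN); (try rw [h2] at hN);
           (try rw [h3] at hN); (try rw [h4] at hN);
           linarith only [hN, h0, h1, h2, h3, h4, h5, h6, n0, n1, n2, n3, n4, p1, p2, p3,
             mul_self_nonneg (u L.o), mul_self_nonneg (u L.t1), mul_self_nonneg (u L.t2),
             mul_self_nonneg (u L.t3), mul_self_nonneg (u L.e45)])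
  obtain ⟨xu0, xu1, xu2, xu3, xu8⟩ := e0
  rw [xu0, xu1, xu2, xu3, xu8] at hN
  have z4 : u L.e11 * u L.e11 + 11 * (v L.e11 * v L.e11) = 0 := by
    linarith only [hN, h5, h6, n0, n1, n2, n3, n4, p1, p2, p3]
  have z7 : u L.e44 * u L.e44 + 11 * (v L.e44 * v L.e44) = 0 := by
    linarith only [hN, h5, h6, n0, n1, n2, n3, n4, p1, p2, p3]
  have z9 : u L.e55 * u L.e55 + 11 * (v L.e55 * v L.e55) = 0 := by
    linarith only [hN, h5, h6, n0, n1, n2, n3, n4, p1, p2, p3]
  have v0 : v L.o = 0 := mul_self_eq_zero.1 (by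
    linarith only [hN, h5, h6, n0, n1, n2, n3, n4, p1, p2, p3])
  have v1 : v L.t1 = 0 := mul_self_eq_zero.1 (by
    linarith only [hN, h5, h6, n0, n1, n2, n3, n4, p1, p2, p3])
  have v2 : v L.t2 = 0 := mul_self_eq_zero.1 (by
    linarith only [hN, h5, h6, n0, n1, n2, n3, n4, p1, p2, p3])
  have v3 : v L.t3 = 0 := mul_self_eq_zero.1 (by
    linarith only [hN, h5, h6, n0, n1, n2, n3, n4, p1, p2, p3])
  have v8 : v L.e45 = 0 := mul_self_eq_zero.1 (by
    linarith only [hN, h5, h6, n0, n1, n2, n3, n4, p1, p2, p3])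
  have hv' : ∀ χ, u χ * u χ + 11 * (v χ * v χ) = 0 → χ.1 x⁻¹ = 0 := fun χ h => by
    have h1 : u χ = 0 := mul_self_eq_zero.1 (by
      linarith [mul_self_nonneg (u χ), mul_self_nonneg (v χ)])
    have h2 : v χ = 0 := mul_self_eq_zero.1 (by rw [h1] at h; linarith)
    have := huv χ
    rw [h1, h2, Int.cast_zero, zero_mul, sub_zero] at this
    exact (mul_eq_zero.1 this).resolve_left two_ne_zero
  have hhalf : ∀ χ (r : ℤ), u χ = 2 * r → v χ = 0 → χ.1 x⁻¹ = r := fun χ r h1 h2 => by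
    have := huv χ
    rw [h1, h2] at this
    push_cast at this
    linear_combination this / 2
  rw [L.sum_eq, hs0 L.s1 L.ds1, hs0 L.s2 L.ds2, hhalf L.o 1 (by rw [xu0]; rfl) v0,
    hhalf L.t1 (-1) (by rw [xu1]; rfl) v1, hhalf L.t2 (-1) (by rw [xu2]; rfl) v2,
    hhalf L.t3 (-1) (by rw [xu3]; rfl) v3, hhalf L.e45 1 (by rw [xu8]; rfl) v8,
    hv' _ z4, hv' _ z7, hv' _ z9] at hsum
  simp only [Char.apply_one_eq_degree, L.do', L.dt1, L.dt2, L.dt3, L.d45, hF] at hsum
  rw [hFo] at hsum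
  push_cast at hsum
  have r5 : 90 - 9 * (F L.t1 * F L.t1 + F L.t2 * F L.t2 + F L.t3 * F L.t3) +
      2 * (F L.e45 * F L.e45) = 0 := by
    refine (Int.cast_inj (α := ℂ)).1 ?_
    push_cast
    linear_combination 90 * hsum
  have key : ∀ χ : IrrCharacter G, Char.degree χ ≠ 1 →
      ∃ m : ℕ, Even m ∧ 0 < m ∧ m < Char.degree χ ∧ F χ = (Char.degree χ : ℤ) - 2 * m :=
    fun χ h => hm χ (hne χ h)
  have hten : ∀ χ : IrrCharacter G, Char.degree χ = 10 →
      F χ = 6 ∨ F χ = 2 ∨ F χ = -2 ∨ F χ = -6 := by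
    intro χ hχ
    obtain ⟨m, ⟨r, rfl⟩, h1, h2, h3⟩ := key χ (by rw [hχ]; norm_num)
    rw [hχ] at h2 h3
    omega
  have hel : F L.e11 = 7 ∨ F L.e11 = 3 ∨ F L.e11 = -1 ∨ F L.e11 = -5 ∨ F L.e11 = -9 := by
    obtain ⟨m, ⟨r, rfl⟩, h1, h2, h3⟩ := key L.e11 (by rw [L.d11]; norm_num)
    rw [L.d11] at h2 h3
    omega
  rw [hs1] at r1 r2 r3 r4
  have hdvd : Nat.card (C t) ∣ 7920 := hG ▸ Subgroup.card_subgroup_dvd_card _
  have h45 : F L.e45 = F L.t1 + F L.t2 + F L.t3 - 1 := by linarith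
  have hS : F L.t1 + F L.t2 + F L.t3 = -2 ∧
      F L.t1 * F L.t1 + F L.t2 * F L.t2 + F L.t3 * F L.t3 = 12 := by
    rw [h45] at r5
    rcases hten _ L.dt1 with a | a | a | a <;> rcases hten _ L.dt2 with b | b | b | b <;>
      rcases hten _ L.dt3 with c | c | c | c <;> rw [a, b, c] at r5 ⊢ <;> omega
  have h45' : F L.e45 = -3 := by omega
  have h44 : F L.e44 = 1 + F L.e11 := by linarith
  rw [h45', h44] at r3 r4
  rcases hel with h | h | h | h | h <;> rw [h] at r3 r4
  · have : F L.e55 = -5 := by omega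
    rw [this] at r4
    have e : Nat.card (C t) = 160 := by omega
    rw [e] at hdvd
    norm_num at hdvd
  · have h55 : F L.e55 = -1 := by omega
    rw [h55] at r4
    refine ⟨F, hF, hFo, ?_, h, hs1, by rw [hs, hs1], by rw [h44, h]; rfl, h45', h55, by omega⟩
    rcases hten _ L.dt1 with a | a | a | a <;> rcases hten _ L.dt2 with b | b | b | b <;>
      rcases hten _ L.dt3 with c | c | c | c <;> rw [a, b, c] at hS ⊢ <;> omega
  · have : F L.e55 = 3 := by omega
    rw [this] at r4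
    have e : Nat.card (C t) = 32 := by omega
    rw [e] at hdvd
    norm_num at hdvd
  · have : F L.e55 = 7 := by omega
    rw [this] at r4
    have e : Nat.card (C t) = 112 := by omega
    rw [e] at hdvd
    norm_num at hdvd
  · have : F L.e55 = 11 := by omega
    rw [this] at r4
    have e : Nat.card (C t) = 288 := by omega
    rw [e] at hdvd
    norm_num at hdvd

/-- The centralizer of an involution has order 48. -/
theorem card_C_involution {t : G} (ht : orderOf t = 2) : Nat.card (C t) = 48 := by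
  obtain ⟨L⟩ := exists_labels hG
  obtain ⟨-, -, -, -, -, -, -, -, -, -, h⟩ := involution_column hG L ht
  exact h

end Cfsg.Agent.Order7920
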