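import Cfsg.Agent.Lib.Order7920.SylowThree

/-!
# A real element of order 3 has no centralizer of order 72
-/

namespace Cfsg.Agent.Order7920

open scoped ComplexConjugate
open Subgroup

set_option linter.style.haveILetI false

set_option maxHeartbeats 4000000 in
/-- The arithmetic of the column: `a` is the character with value 2 at an involution. -/
theorem column_three_arith {a b e s c d h e' : ℤ}
    (ha : a = -8 ∨ a = -5 ∨ a = -2 ∨ a = 1 ∨ a = 4 ∨ a = 7)
    (hb : b = -8 ∨ b = -5 ∨ b = -2 ∨ b = 1 ∨ b = 4 ∨ b = 7)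
    (he : e = -8 ∨ e = -5 ∨ e = -2 ∨ e = 1 ∨ e = 4 ∨ e = 7)
    (hh : h = 0) (r1 : 1 - (a + b + e) + h - s = 0) (r2 : 1 + c - d + 2 * s = 0)
    (r3 : 1 + 10 * (a + b + e) + 11 * c + 32 * s + 44 * d + 45 * h + 55 * e' = 0)
    (rt : 1 + 2 * a - 2 * b - 2 * e + 3 * c + 4 * d - e' = 0)
    (r4 : 1 + a * a + b * b + e * e + c * c + 2 * (s * s) + d * d + h * h + e' * e' = 72) :
    False := by
  subst hh
  have es : s = 1 - (a + b + e) := by linarith
  have ed : d = 1 + c + 2 * s := by linarith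
  have ee : e' = -3 + 2 * (a + b + e) - c := by
    have h' : 55 * e' = 55 * (-3 + 2 * (a + b + e) - c) := by rw [ed, es] at r3; linarith
    linarith
  have ec : 8 * c = 12 * (a + b + e) - 4 * a - 16 := by rw [ee, ed, es] at rt; linarith
  have h64 : 64 * (1 + a * a + b * b + e * e + 2 * (s * s)) + (8 * c) * (8 * c) +
      (8 + 8 * c + 16 * s) * (8 + 8 * c + 16 * s) +
      (-24 + 16 * (a + b + e) - 8 * c) * (-24 + 16 * (a + b + e) - 8 * c) = 4608 := by
    rw [ed, ee] at r4; linarith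
  rw [ec, es] at h64
  rcases ha with rfl | rfl | rfl | rfl | rfl | rfl <;> rcases hb with rfl | rfl | rfl | rfl | rfl | rfl <;>
    rcases he with rfl | rfl | rfl | rfl | rfl | rfl <;> omega

variable {G : Type*} [Group G] [Fintype G] [IsSimpleGroup G] (hG : Nat.card G = 7920)
include hG

/-- A real element of order 3 does not have a centralizer of order 72. -/
theorem card_C_three_ne_seventy_two {z : G} (hz : orderOf z = 3) (hreal : IsConj z z⁻¹) :
    Nat.card (C z) ≠ 72 := by
  classical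
  intro hC
  haveI : Fact (Nat.Prime 2) := ⟨Nat.prime_two⟩
  haveI : Fact (Nat.Prime 3) := ⟨by norm_num⟩
  haveI : Fact (Nat.Prime 5) := ⟨by norm_num⟩
  haveI : Fact (Nat.Prime 11) := ⟨by norm_num⟩
  obtain ⟨L⟩ := exists_labels hG
  obtain ⟨x, hx⟩ := exists_prime_orderOf_dvd_card' (G := G) 11 (by rw [hG]; norm_num)
  obtain ⟨y, hy⟩ := exists_prime_orderOf_dvd_card' (G := G) 5 (by rw [hG]; norm_num)
  obtain ⟨t, ht⟩ := exists_prime_orderOf_dvd_card' (G := G) 2 (by rw [hG]; norm_num)
  have hval : ∀ χ : Cfsg.IrrCharacter G, ∃ k : ℤ, χ.1 z = k ∧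
      ((Char.degree χ : ℤ) - k) % 3 = 0 := by
    intro χ
    obtain ⟨n, k, hn, h⟩ := int_value_three (Char.irr_isCharacter χ) hz hreal
    rw [Char.apply_one_eq_degree] at hn
    have : Char.degree χ = n := by exact_mod_cast hn
    exact ⟨k, by rwa [this]⟩
  choose F hF hF3 using hval
  have hgo : ∀ {g : G} {p : ℕ}, orderOf g = p → p ≠ 3 → ¬ IsConj z g := fun hg hp h => by
    obtain ⟨c, rfl⟩ := isConj_iff.1 h
    rw [← MulAut.conj_apply, MulEquiv.orderOf_eq, hz] at hg
    exact hp hg.symm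
  obtain ⟨hFo, hs, r1, r2, r3, r4⟩ := column_relations hG L hx hy F hF (hgo hx (by norm_num))
    (hgo hy (by norm_num)) (fun e => by rw [e, orderOf_one] at hz; omega)
  rw [hC] at r4
  push_cast at r4
  obtain ⟨T, hT, hTo, hTt, hT11, hTs1, hTs2, hT44, hT45, hT55, -⟩ := involution_column hG L ht
  have rt : ∑ χ, T χ * F χ = 0 := by
    have h := Char.sum_irr_mul_conj t z
    rw [if_neg (fun e => (hgo ht (by norm_num)) e.symm)] at h
    refine (Int.cast_eq_zero (α := ℂ)).1 ?_
    rw [Int.cast_sum, ← h]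
    exact Finset.sum_congr rfl fun χ _ => by rw [hT, hF, map_intCast]; push_cast; ring
  rw [L.sum_eq, hTo, hT11, hTs1, hTs2, hT44, hT45, hT55, hFo] at rt
  obtain ⟨M, hM⟩ := CharInt.exists_isPModular_of_prime (q := 3) (by norm_num)
  haveI := hM.2.1
  have h45 : F L.e45 = 0 := by
    have h0 : L.e45.1 z = 0 := by
      refine Blocks.apply_eq_zero_of_defect_zero hM.2.2 L.e45 ?_ fun h => h (by rw [hz])
      rw [L.d45, factorization_three hG, show (45 : ℕ) = 3 ^ 2 * 5 by rfl,
        Nat.factorization_mul (by norm_num) (by norm_num), Finsupp.add_apply,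
        (by norm_num : Nat.Prime 3).factorization_pow, Finsupp.single_eq_same,
        Nat.factorization_eq_zero_of_not_dvd (by norm_num)]
    rw [hF] at h0
    exact_mod_cast h0
  have hval : ∀ χ : Cfsg.IrrCharacter G, Char.degree χ = 10 →
      F χ * F χ ≤ 71 → F χ = -8 ∨ F χ = -5 ∨ F χ = -2 ∨ F χ = 1 ∨ F χ = 4 ∨ F χ = 7 := by
    intro χ hχ h
    have h3 := hF3 χ
    rw [hχ] at h3
    have : -8 ≤ F χ ∧ F χ ≤ 8 := ⟨by nlinarith only [h], by nlinarith only [h]⟩
    omega
  have n1 := mul_self_nonneg (F L.t1); have n2 := mul_self_nonneg (F L.t2)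
  have n3 := mul_self_nonneg (F L.t3); have n4 := mul_self_nonneg (F L.e11)
  have n5 := mul_self_nonneg (F L.s1); have n6 := mul_self_nonneg (F L.e44)
  have n7 := mul_self_nonneg (F L.e45); have n8 := mul_self_nonneg (F L.e55)
  have v1 := hval L.t1 L.dt1 (by linarith only [r4, n1, n2, n3, n4, n5, n6, n7, n8])
  have v2 := hval L.t2 L.dt2 (by linarith only [r4, n1, n2, n3, n4, n5, n6, n7, n8])
  have v3 := hval L.t3 L.dt3 (by linarith only [r4, n1, n2, n3, n4, n5, n6, n7, n8])
  rcases hTt with ⟨u1, u2, u3⟩ | ⟨u1, u2, u3⟩ | ⟨u1, u2, u3⟩ <;> rw [u1, u2, u3] at rt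
  · exact column_three_arith v1 v2 v3 h45 (s := F L.s1) (c := F L.e11) (d := F L.e44)
      (e' := F L.e55) r1 r2 r3 (by linarith only [rt, h45])
      (by linarith only [r4])
  · exact column_three_arith v2 v1 v3 h45 (s := F L.s1) (c := F L.e11) (d := F L.e44)
      (e' := F L.e55) (by linarith only [r1]) r2 (by linarith only [r3]) (by linarith only [rt, h45])
      (by linarith only [r4])
  · exact column_three_arith v3 v1 v2 h45 (s := F L.s1) (c := F L.e11) (d := F L.e44)
      (e' := F L.e55) (by linarith only [r1]) r2 (by linarith only [r3]) (by linarith only [rt, h45])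
      (by linarith only [r4])

end Cfsg.Agent.Order7920
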