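import Cfsg.Agent.Lib.Order7920.ThreeColumn

/-!
# Local structure at the prime 3 of a simple group of order 7920

Sylow 3-subgroups are elementary abelian TI subgroups with normalizer of order 144 transitive on
their non-identity elements; every element of order 3 has centralizer of order 18.
-/

namespace Cfsg.Agent.Order7920

open Subgroup MulAction

set_option linter.style.haveILetI false

variable {G : Type*} [Group G]

theorem mem_smul_sylow {p : ℕ} {g w : G} {P : Sylow p G} :
    w ∈ ((g • P : Sylow p G) : Subgroup G) ↔ g⁻¹ * w * g ∈ (P : Subgroup G) := by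
  rw [Sylow.coe_subgroup_smul, Subgroup.mem_pointwise_smul_iff_inv_smul_mem]
  simp

theorem mem_normalizer_sylow {p : ℕ} {g : G} {P : Sylow p G} :
    g ∈ normalizer ((P : Subgroup G) : Set G) ↔ g • P = P :=
  Sylow.smul_eq_iff_mem_normalizer.symm

theorem orderOf_conj_elem (g z : G) : orderOf (g * z * g⁻¹) = orderOf z := by
  rw [← MulAut.conj_apply, MulEquiv.orderOf_eq]

theorem C_conj (g z : G) : C (g * z * g⁻¹) = (C z).map (MulAut.conj g).toMonoidHom := by
  ext v
  rw [Subgroup.mem_map_equiv, mem_C, mem_C, MulAut.conj_symm_apply]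
  constructor <;> intro h
  · calc g⁻¹ * v * g * z = g⁻¹ * (v * (g * z * g⁻¹)) * g := by group
      _ = g⁻¹ * (g * z * g⁻¹ * v) * g := by rw [h]
      _ = z * (g⁻¹ * v * g) := by group
  · calc v * (g * z * g⁻¹) = g * (g⁻¹ * v * g * z) * g⁻¹ := by group
      _ = g * (z * (g⁻¹ * v * g)) * g⁻¹ := by rw [h]
      _ = g * z * g⁻¹ * v := by group

theorem card_C_conj (g z : G) : Nat.card (C (g * z * g⁻¹)) = Nat.card (C z) := by
  rw [C_conj]
  exact (Nat.card_congr ((C z).equivMapOfInjective _ (MulAut.conj g).injective).toEquiv).symm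

variable [Fintype G] [IsSimpleGroup G] (hG : Nat.card G = 7920) [Fact (Nat.Prime 3)]
include hG

omit [IsSimpleGroup G] in
theorem mul_comm_sylow (P : Sylow 3 G) {a b : G} (ha : a ∈ (P : Subgroup G))
    (hb : b ∈ (P : Subgroup G)) : a * b = b * a :=
  congrArg Subtype.val ((IsPGroup.isMulCommutative_of_card_eq_prime_sq (p := 3)
    (by rw [card_sylow_three hG P]; norm_num : Nat.card (P : Subgroup G) = 3 ^ 2)).is_comm.comm
    ⟨a, ha⟩ ⟨b, hb⟩)

/-- A Sylow 3-subgroup is self-centralising. -/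
theorem mem_of_centralizes (P : Sylow 3 G) {g : G}
    (h : ∀ w ∈ (P : Subgroup G), g * w = w * g) : g ∈ (P : Subgroup G) := by
  haveI : Fact (Nat.Prime 2) := ⟨Nat.prime_two⟩
  set K := centralizer ((P : Subgroup G) : Set G) with hK
  have hP9 := card_sylow_three hG P
  have hd : Nat.card K ∣ 144 := card_normalizer_three hG P ▸
    card_dvd_of_le (centralizer_le_normalizer _)
  have hPK : (P : Subgroup G) ≤ K := fun w hw =>
    mem_centralizer_iff.2 fun z hz => mul_comm_sylow hG P hz hw
  have h9 : 9 ∣ Nat.card K := hP9 ▸ card_dvd_of_le hPK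
  have h2 : ¬ 2 ∣ Nat.card K := by
    intro h
    obtain ⟨t', ht'⟩ := exists_prime_orderOf_dvd_card' (G := K) 2 h
    have hto : orderOf (t' : G) = 2 := by rw [Subgroup.orderOf_coe, ht']
    have hle' : (P : Subgroup G) ≤ C (t' : G) := fun w hw =>
      mem_C.2 (mem_centralizer_iff.1 t'.2 w hw)
    have := card_dvd_of_le hle'
    rw [hP9, card_C_involution hG hto] at this
    norm_num at this
  have key : ∀ c < 145, c ∣ 144 → 9 ∣ c → ¬ 2 ∣ c → c = 9 := by decide +kernel
  have he := key _ (Nat.lt_succ_of_le (Nat.le_of_dvd (by norm_num) hd)) hd h9 h2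
  rw [eq_of_le_of_card_ge hPK (by rw [he, hP9])]
  exact mem_centralizer_iff.2 fun w hw => (h w hw).symm

theorem orderOf_sylow (P : Sylow 3 G) {z : G} (hz : z ∈ (P : Subgroup G)) (hz1 : z ≠ 1) :
    orderOf z = 3 := by
  have hP9 := card_sylow_three hG P
  have hd : orderOf z ∣ 3 ^ 2 := by
    rw [show (3 : ℕ) ^ 2 = 9 by norm_num, ← hP9]
    exact Subgroup.orderOf_dvd_natCard _ hz
  obtain ⟨i, hi, hio⟩ := (Nat.dvd_prime_pow (by norm_num : Nat.Prime 3)).1 hd
  rcases Nat.lt_or_ge i 2 with h | h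
  · interval_cases i
    · exact absurd (orderOf_eq_one_iff.1 (by simpa using hio)) hz1
    · simpa using hio
  · exfalso
    have h9 : orderOf (⟨z, hz⟩ : (P : Subgroup G)) = Nat.card (P : Subgroup G) := by
      rw [Subgroup.orderOf_mk, hio, hP9, show i = 2 by omega]; norm_num
    haveI : IsCyclic (P : Subgroup G) := isCyclic_of_orderOf_eq_card _ h9
    have hd6 := TwentyTwo.relIndex_centralizer_dvd (P : Subgroup G)
    have hC : centralizer ((P : Subgroup G) : Set G) = (P : Subgroup G) :=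
      le_antisymm (fun g hg => mem_of_centralizes hG P fun w hw =>
        (mem_centralizer_iff.1 hg w hw).symm)
        (fun w hw => mem_centralizer_iff.2 fun v hv => mul_comm_sylow hG P hv hw)
    have e := relIndex_mul_relIndex (H := ⊥) (K := (P : Subgroup G))
      (L := normalizer ((P : Subgroup G) : Set G)) bot_le le_normalizer
    rw [relIndex_bot_left, relIndex_bot_left, hP9, card_normalizer_three hG P] at e
    rw [hC, hP9, show (9 : ℕ) = 3 ^ 2 by norm_num,
      Nat.totient_prime_pow (by norm_num) (by norm_num)] at hd6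
    rw [show (P : Subgroup G).relIndex (normalizer ((P : Subgroup G) : Set G)) = 16 by omega] at hd6
    norm_num at hd6

/-- Two independent elements generate a Sylow 3-subgroup. -/
theorem exists_pow_mul_pow (P : Sylow 3 G) {z w v : G} (hz : z ∈ (P : Subgroup G)) (hz1 : z ≠ 1)
    (hw : w ∈ (P : Subgroup G)) (hwz : w ∉ zpowers z) (hv : v ∈ (P : Subgroup G)) :
    ∃ i < 3, ∃ j < 3, v = z ^ i * w ^ j := by
  classical
  have hzo := orderOf_sylow hG P hz hz1
  have hw1 : w ≠ 1 := fun h => hwz (h ▸ one_mem _)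
  have hwo := orderOf_sylow hG P hw hw1
  let φ : Fin 3 × Fin 3 → (P : Subgroup G) := fun p =>
    ⟨z ^ (p.1 : ℕ) * w ^ (p.2 : ℕ), mul_mem (pow_mem hz _) (pow_mem hw _)⟩
  have hinj : Function.Injective φ := by
    rintro ⟨i, j⟩ ⟨i', j'⟩ h
    simp only [φ, Subtype.mk.injEq] at h
    have h' : (z ^ (i' : ℕ))⁻¹ * z ^ (i : ℕ) = w ^ (j' : ℕ) * (w ^ (j : ℕ))⁻¹ := by
      rw [eq_mul_inv_iff_mul_eq, mul_assoc, h, inv_mul_cancel_left]
    have hjj : j = j' := by
      by_contra hne
      apply hwz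
      have hm : w ^ (j' : ℕ) * (w ^ (j : ℕ))⁻¹ ∈ zpowers z :=
        h' ▸ mul_mem (inv_mem (pow_mem (mem_zpowers z) _)) (pow_mem (mem_zpowers z) _)
      have he : w ^ (j' : ℕ) * (w ^ (j : ℕ))⁻¹ = w ^ ((j' : ℕ) + 2 * (j : ℕ)) := by
        rw [pow_add, mul_left_cancel_iff, inv_eq_iff_mul_eq_one, ← pow_add,
          ← orderOf_dvd_iff_pow_eq_one, hwo]
        exact ⟨j, by ring⟩
      obtain ⟨m, hm'⟩ : ∃ m, (w ^ ((j' : ℕ) + 2 * (j : ℕ))) ^ m = w := by
        refine exists_pow_eq_self_of_coprime ?_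
        rw [hwo, Nat.coprime_comm, Nat.Prime.coprime_iff_not_dvd (by norm_num)]
        have := j.2; have := j'.2
        intro hd
        exact hne (Fin.ext (by omega))
      rw [← hm', ← he]
      exact pow_mem hm m
    subst hjj
    have hi := mul_right_cancel h
    rw [pow_eq_pow_iff_modEq, hzo] at hi
    have := i.2; have := i'.2
    exact Prod.ext (Fin.ext (by unfold Nat.ModEq at hi; dsimp only at hi ⊢; omega)) rfl
  have hsurj : Function.Surjective φ := by
    refine ((Fintype.bijective_iff_injective_and_card φ).2 ⟨hinj, ?_⟩).2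
    rw [Fintype.card_prod, Fintype.card_fin, ← Nat.card_eq_fintype_card, card_sylow_three hG P]
  obtain ⟨⟨i, j⟩, hij⟩ := hsurj ⟨v, hv⟩
  exact ⟨i, i.2, j, j.2, (congrArg Subtype.val hij).symm⟩

theorem card_stab_le (P : Sylow 3 G) {z : G} (hz : z ∈ (P : Subgroup G)) (hz1 : z ≠ 1) :
    Nat.card (normalizer ((P : Subgroup G) : Set G) ⊓ C z : Subgroup G) ≤ 18 := by
  classical
  set Np := normalizer ((P : Subgroup G) : Set G)
  have hP9 := card_sylow_three hG P
  obtain ⟨w, hw, hwz⟩ : ∃ w ∈ (P : Subgroup G), w ∉ zpowers z := by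
    by_contra h
    push_neg at h
    have := card_le_of_le (show (P : Subgroup G) ≤ zpowers z from h)
    rw [hP9, Nat.card_zpowers, orderOf_sylow hG P hz hz1] at this
    omega
  set K := Np ⊓ C z
  -- elements moving `w` inside its coset lie in `P`
  have hkey : ∀ n ∈ K, (∃ i, n * w * n⁻¹ = z ^ i * w) → n ∈ (P : Subgroup G) := by
    rintro n ⟨hn, hnz⟩ ⟨i, hi⟩
    have hnz' : n * z * n⁻¹ = z := mul_inv_eq_iff_eq_mul.2 (mem_C.1 hnz)
    have hiter : ∀ k, n ^ k * w * (n ^ k)⁻¹ = z ^ (k * i) * w := by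
      intro k
      induction k with
      | zero => simp
      | succ k ih =>
        rw [pow_succ', show n * n ^ k * w * (n * n ^ k)⁻¹ = n * (n ^ k * w * (n ^ k)⁻¹) * n⁻¹ by
          group, ih, ← conj_mul, ← conj_pow, hnz', hi, ← mul_assoc, ← pow_add, Nat.succ_mul]
    have h3 : n ^ 3 ∈ (P : Subgroup G) := by
      refine mem_of_centralizes hG P fun v hv => ?_
      obtain ⟨a, -, b, -, rfl⟩ := exists_pow_mul_pow hG P hz hz1 hw hwz hv
      have hcz : Commute (n ^ 3) z := (show Commute n z from mem_C.1 hnz).pow_left 3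
      have hcw : Commute (n ^ 3) w := by
        have := hiter 3
        rw [show z ^ (3 * i) = 1 by
          rw [← orderOf_dvd_iff_pow_eq_one, orderOf_sylow hG P hz hz1]; exact dvd_mul_right 3 i,
          one_mul, mul_inv_eq_iff_eq_mul] at this
        exact this
      exact ((hcz.pow_right a).mul_right (hcw.pow_right b)).eq
    have h9 : n ^ (3 ^ 2) = 1 := by
      rw [show (3 : ℕ) ^ 2 = 3 * 3 by norm_num, pow_mul]
      by_cases h1 : n ^ 3 = 1
      · rw [h1, one_pow]
      · exact orderOf_dvd_iff_pow_eq_one.1 (by rw [orderOf_sylow hG P h3 h1])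
    obtain ⟨k, -, hk⟩ := (Nat.dvd_prime_pow (by norm_num : Nat.Prime 3)).1
      (orderOf_dvd_of_pow_eq_one h9)
    have hp : IsPGroup 3 (zpowers n) := IsPGroup.of_card (n := k) (by rw [Nat.card_zpowers, hk])
    have := hp.inf_normalizer_sylow P
    rw [inf_eq_left.2 (show zpowers n ≤ normalizer (P : Set G) from zpowers_le.2 hn)] at this
    exact inf_eq_left.1 this.symm (mem_zpowers n)
  have hform : ∀ n ∈ K, (∃ i, n * w * n⁻¹ = z ^ i * w) ∨ ∃ i, n * w * n⁻¹ = z ^ i * w ^ 2 := by
    rintro n ⟨hn, hnz⟩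
    have hnw : n * w * n⁻¹ ∈ (P : Subgroup G) := (mem_normalizer_iff.1 hn w).1 hw
    obtain ⟨i, -, j, hj, he⟩ := exists_pow_mul_pow hG P hz hz1 hw hwz hnw
    interval_cases j
    · exfalso
      apply hwz
      rw [pow_zero, mul_one] at he
      have hnz' : n⁻¹ * z * n = z := by rw [mul_assoc, ← mem_C.1 hnz, inv_mul_cancel_left]
      have : w = n⁻¹ * z ^ i * n := by rw [← he]; group
      rw [this, show n⁻¹ * z ^ i * n = (n⁻¹ * z * n) ^ i by
        rw [show n⁻¹ * z * n = n⁻¹ * z * n⁻¹⁻¹ by rw [inv_inv], conj_pow, inv_inv], hnz']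
      exact pow_mem (mem_zpowers z) i
    · exact Or.inl ⟨i, by rw [he, pow_one]⟩
    · exact Or.inr ⟨i, he⟩
  by_cases hall : ∀ n ∈ K, n ∈ (P : Subgroup G)
  · have := card_le_of_le (show K ≤ (P : Subgroup G) from hall)
    omega
  · push_neg at hall
    obtain ⟨n₀, hn₀, hn₀P⟩ := hall
    have hi₀ := (hform n₀ hn₀).resolve_left fun h => hn₀P (hkey n₀ hn₀ h)
    obtain ⟨i₀, hi₀⟩ := hi₀
    have hsplit : ∀ n ∈ K, n ∈ (P : Subgroup G) ∨ n₀⁻¹ * n ∈ (P : Subgroup G) := by
      intro n hn
      rcases hform n hn with h | ⟨i, hi⟩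
      · exact Or.inl (hkey n hn h)
      · refine Or.inr (hkey _ (mul_mem (inv_mem hn₀) hn) ?_)
        have hz0 : n₀⁻¹ * z * n₀ = z := by rw [mul_assoc, ← mem_C.1 hn₀.2, inv_mul_cancel_left]
        have hz0p : ∀ m : ℕ, n₀⁻¹ * z ^ m * n₀ = z ^ m := fun m => by
          rw [show n₀⁻¹ * z ^ m * n₀ = (n₀⁻¹ * z * n₀) ^ m by
            rw [show n₀⁻¹ * z * n₀ = n₀⁻¹ * z * n₀⁻¹⁻¹ by rw [inv_inv], conj_pow, inv_inv], hz0]
        refine ⟨i + 2 * i₀, ?_⟩
        have hw2 : n₀⁻¹ * w ^ 2 * n₀ = z ^ (2 * i₀) * w := by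
          have e1 : w = n₀⁻¹ * (z ^ i₀ * w ^ 2) * n₀ := by rw [← hi₀]; group
          have e2 : n₀⁻¹ * w ^ 2 * n₀ = (n₀⁻¹ * z ^ i₀ * n₀)⁻¹ * w := by
            nth_rewrite 2 [e1]
            group
          have hzo := orderOf_sylow hG P hz hz1
          rw [e2, hz0p, mul_right_cancel_iff, inv_eq_iff_mul_eq_one, ← pow_add,
            ← orderOf_dvd_iff_pow_eq_one, hzo]
          exact ⟨i₀, by ring⟩
        calc n₀⁻¹ * n * w * (n₀⁻¹ * n)⁻¹ = n₀⁻¹ * (n * w * n⁻¹) * n₀ := by group
          _ = n₀⁻¹ * (z ^ i * w ^ 2) * n₀ := by rw [hi]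
          _ = n₀⁻¹ * z ^ i * n₀ * (n₀⁻¹ * w ^ 2 * n₀) := by group
          _ = z ^ (i + 2 * i₀) * w := by rw [hz0p, hw2, ← mul_assoc, ← pow_add]
    let f : K → Bool × (P : Subgroup G) := fun n =>
      if h : (n : G) ∈ (P : Subgroup G) then (true, ⟨n, h⟩)
      else (false, ⟨n₀⁻¹ * n, (hsplit n n.2).resolve_left h⟩)
    have hf : Function.Injective f := by
      intro a b hab
      simp only [f] at hab
      split_ifs at hab with ha hb hb <;>
        simp only [Prod.mk.injEq, Subtype.mk.injEq, Bool.true_eq_false, Bool.false_eq_true,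
          false_and, true_and, mul_right_inj] at hab
      · exact Subtype.ext hab
      · exact Subtype.ext hab
    have := Nat.card_le_card_of_injective f hf
    rw [Nat.card_prod, hP9, Nat.card_eq_fintype_card (α := Bool), Fintype.card_bool] at this
    omega

/-- The normalizer is transitive on the non-identity elements; stabilizers have order 18. -/
theorem transitive_and_stab (P : Sylow 3 G) {z : G} (hz : z ∈ (P : Subgroup G)) (hz1 : z ≠ 1) :
    Nat.card (normalizer ((P : Subgroup G) : Set G) ⊓ C z : Subgroup G) = 18 ∧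
      ∀ w ∈ (P : Subgroup G), w ≠ 1 →
        ∃ n ∈ normalizer ((P : Subgroup G) : Set G), n * z * n⁻¹ = w := by
  classical
  set Np := normalizer ((P : Subgroup G) : Set G) with hNp
  set K := Np ⊓ C z
  have hle := card_stab_le hG P hz hz1
  set N0 := Finset.univ.filter fun n : G => n ∈ Np
  set P1 := Finset.univ.filter fun w : G => w ∈ (P : Subgroup G) ∧ w ≠ 1 with hP1
  have hN0 : N0.card = 144 := by
    rw [← card_normalizer_three hG P, Nat.card_eq_fintype_card, Fintype.card_subtype]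
  have hP1c : P1.card = 8 := by
    have : P1 = (Finset.univ.filter fun w : G => w ∈ (P : Subgroup G)).erase 1 := by
      ext w; simp [hP1, and_comm]
    rw [this, Finset.card_erase_of_mem (by simp [one_mem]), ← Fintype.card_subtype,
      ← Nat.card_eq_fintype_card]
    exact congrArg (· - 1) (card_sylow_three hG P)
  have hsub : N0.image (fun n => n * z * n⁻¹) ⊆ P1 := by
    intro w hw
    obtain ⟨n, hn, rfl⟩ := Finset.mem_image.1 hw
    refine Finset.mem_filter.2 ⟨Finset.mem_univ _,
      (mem_normalizer_iff.1 (Finset.mem_filter.1 hn).2 z).1 hz, fun h => hz1 ?_⟩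
    exact conj_eq_one_iff.1 h
  have hfib : ∀ w ∈ N0.image (fun n => n * z * n⁻¹),
      (N0.filter fun n => n * z * n⁻¹ = w).card ≤ Nat.card K := by
    intro w hw
    obtain ⟨n₀, hn₀, rfl⟩ := Finset.mem_image.1 hw
    rw [Nat.card_eq_fintype_card, Fintype.card_subtype]
    refine Finset.card_le_card_of_injOn (fun n => n₀⁻¹ * n) (fun n hn => ?_)
      (fun a _ b _ h => mul_left_cancel h)
    obtain ⟨hn1, hn2⟩ := Finset.mem_filter.1 hn
    refine Finset.mem_filter.2 ⟨Finset.mem_univ _,
      ⟨Np.mul_mem (Np.inv_mem (Finset.mem_filter.1 hn₀).2) (Finset.mem_filter.1 hn1).2, mem_C.2 ?_⟩⟩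
    calc n₀⁻¹ * n * z = n₀⁻¹ * (n * z * n⁻¹) * n := by group
      _ = n₀⁻¹ * (n₀ * z * n₀⁻¹) * n := by rw [hn2]
      _ = z * (n₀⁻¹ * n) := by group
  have h144 := Finset.card_le_mul_card_image N0 (Nat.card K) hfib
  have him := Finset.card_le_card hsub
  rw [hN0] at h144
  rw [hP1c] at him
  refine ⟨?_, fun w hw hw1 => ?_⟩
  · nlinarith only [h144, him, hle]
  · have he : (N0.image fun n => n * z * n⁻¹) = P1 :=
      Finset.eq_of_subset_of_card_le hsub (by nlinarith only [h144, him, hle, hP1c])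
    have hwm : w ∈ P1 := Finset.mem_filter.2 ⟨Finset.mem_univ _, hw, hw1⟩
    rw [← he] at hwm
    obtain ⟨n, hn, hnw⟩ := Finset.mem_image.1 hwm
    exact ⟨n, (Finset.mem_filter.1 hn).2, hnw⟩

theorem exists_sylow_mem {z : G} (hz : orderOf z = 3) :
    ∃ P : Sylow 3 G, z ∈ (P : Subgroup G) ∧ z ≠ 1 := by
  obtain ⟨P, hP⟩ := (IsPGroup.of_card (n := 1)
    (show Nat.card (zpowers z) = 3 ^ 1 by rw [Nat.card_zpowers, hz, pow_one])).exists_le_sylow
  exact ⟨P, hP (mem_zpowers z), fun h => by rw [h, orderOf_one] at hz; omega⟩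

/-- Every element of order 3 has centralizer of order 18. -/
theorem card_C_three {z : G} (hz : orderOf z = 3) : Nat.card (C z) = 18 := by
  classical
  obtain ⟨P, hzP, hz1⟩ := exists_sylow_mem hG hz
  set Np := normalizer ((P : Subgroup G) : Set G)
  obtain ⟨hK, htr⟩ := transitive_and_stab hG P hzP hz1
  have hreal : IsConj z z⁻¹ := by
    obtain ⟨n, -, hn⟩ := htr z⁻¹ ((P : Subgroup G).inv_mem hzP) (inv_ne_one.2 hz1)
    exact isConj_iff.2 ⟨n, hn⟩
  have hPC : (P : Subgroup G) ≤ C z := fun w hw => mem_C.2 (mul_comm_sylow hG P hw hzP)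
  have hidx : Nat.card (Sylow 3 (C z)) = (Np.subgroupOf (C z)).index := by
    rw [(P.subtype hPC).card_eq_index_normalizer]
    congr 1
    rw [show ((P.subtype hPC : Sylow 3 (C z)) : Set (C z)) =
      (((P : Subgroup G).subgroupOf (C z)) : Set (C z)) by rw [← Sylow.coe_subtype]; rfl]
    exact (subgroupOf_normalizer_eq hPC).symm
  have hm : (Np.subgroupOf (C z)).index % 3 = 1 := by
    rw [← hidx]
    exact card_sylow_modEq_one 3 (C z)
  have hmul := (Np.subgroupOf (C z)).index_mul_card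
  rw [show Nat.card (Np.subgroupOf (C z)) = 18 by
    rw [← card_map_of_injective (K := Np.subgroupOf (C z)) (C z).subtype_injective,
      subgroupOf_map_subtype, hK]] at hmul
  set m := (Np.subgroupOf (C z)).index
  have hd : Nat.card (C z) ∣ 7920 := hG ▸ card_subgroup_dvd_card _
  have hno : ∀ s, s = 5 ∨ s = 11 → ¬ s ∣ m := by
    intro s hs h
    haveI : Fact s.Prime := ⟨by rcases hs with rfl | rfl <;> norm_num⟩
    obtain ⟨v, hv⟩ := exists_prime_orderOf_dvd_card' (G := C z) s
      (hmul ▸ h.trans (dvd_mul_right m 18))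
    exact not_commute_three hG (by rw [Subgroup.orderOf_coe, hv]) hs hz (mem_C.1 v.2)
  rw [← hmul, show (7920 : ℕ) = 440 * 18 by norm_num] at hd
  have h440 : m ∣ 440 := Nat.dvd_of_mul_dvd_mul_right (by norm_num) hd
  have h8 : m ∣ 8 := by
    refine ((Nat.Coprime.symm ((by norm_num : Nat.Prime 5).coprime_iff_not_dvd.2
      (hno 5 (Or.inl rfl)))).mul_right (Nat.Coprime.symm ((by norm_num : Nat.Prime 11).coprime_iff_not_dvd.2
      (hno 11 (Or.inr rfl))))).dvd_of_dvd_mul_right ?_
    rw [show 8 * (5 * 11) = 440 by norm_num]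
    exact h440
  have key : ∀ m < 9, m ∣ 8 → m % 3 = 1 → m = 1 ∨ m = 4 := by decide
  rcases key m (Nat.lt_succ_of_le (Nat.le_of_dvd (by norm_num) h8)) h8 hm with h | h
  · rw [← hmul, h]
  · exact absurd (by rw [← hmul, h]) (card_C_three_ne_seventy_two hG hz hreal)

theorem C_three_le_normalizer (P : Sylow 3 G) {z : G} (hz : z ∈ (P : Subgroup G)) (hz1 : z ≠ 1) :
    C z ≤ normalizer ((P : Subgroup G) : Set G) :=
  (eq_of_le_of_card_ge (inf_le_right : normalizer ((P : Subgroup G) : Set G) ⊓ C z ≤ C z)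
    (by rw [(transitive_and_stab hG P hz hz1).1, card_C_three hG (orderOf_sylow hG P hz hz1)])).ge.trans
    inf_le_left

/-- Sylow 3-subgroups intersect trivially. -/
theorem sylow_eq_of_mem (P Q : Sylow 3 G) {z : G} (hzP : z ∈ (P : Subgroup G))
    (hzQ : z ∈ (Q : Subgroup G)) (hz1 : z ≠ 1) : P = Q := by
  have hQ : (Q : Subgroup G) ≤ normalizer ((P : Subgroup G) : Set G) := fun w hw =>
    C_three_le_normalizer hG P hzP hz1 (mem_C.2 (mul_comm_sylow hG Q hw hzQ))
  have := Q.2.inf_normalizer_sylow P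
  rw [inf_eq_left.2 (show (Q : Subgroup G) ≤ normalizer (P : Set G) from hQ)] at this
  exact Sylow.ext (Q.3 P.2 (inf_eq_left.1 this.symm))

/-- An element of order 3 commutes with at most one involution modulo equality. -/
theorem involution_unique {z a b : G} (hz : orderOf z = 3) (ha : orderOf a = 2)
    (hb : orderOf b = 2) (haz : Commute a z) (hbz : Commute b z) (hab : Commute a b) : a = b := by
  by_contra hne
  let ea : C z := ⟨a, mem_C.2 haz⟩
  let eb : C z := ⟨b, mem_C.2 hbz⟩
  have ha2 : a * a = 1 := by rw [← pow_two, ← ha, pow_orderOf_eq_one]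
  have hb2 : b * b = 1 := by rw [← pow_two, ← hb, pow_orderOf_eq_one]
  let V : Subgroup (C z) :=
    { carrier := {x | x = 1 ∨ x = ea ∨ x = eb ∨ x = ea * eb}
      one_mem' := Or.inl rfl
      mul_mem' := by
        have h1 : eb * ea = ea * eb := Subtype.ext hab.symm
        have h2 : ea * ea = 1 := Subtype.ext ha2
        have h3 : eb * eb = 1 := Subtype.ext hb2
        have h4 : eb * (ea * eb) = ea := by rw [← mul_assoc, h1, mul_assoc, h3, mul_one]
        have h5 : ea * eb * ea = eb := by rw [mul_assoc, h1, ← mul_assoc, h2, one_mul]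
        have h6 : ea * eb * eb = ea := by rw [mul_assoc, h3, mul_one]
        have h7 : ea * (ea * eb) = eb := by rw [← mul_assoc, h2, one_mul]
        have h8 : ea * eb * (ea * eb) = 1 := by rw [← mul_assoc, h5, h3]
        rintro x y (rfl | rfl | rfl | rfl) (rfl | rfl | rfl | rfl) <;>
          simp [h1, h2, h3, h4, h5, h6, h7, h8]
      inv_mem' := by
        have hai : ea⁻¹ = ea := inv_eq_of_mul_eq_one_right (Subtype.ext ha2)
        have hbi : eb⁻¹ = eb := inv_eq_of_mul_eq_one_right (Subtype.ext hb2)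
        rintro x (rfl | rfl | rfl | rfl)
        · exact Or.inl inv_one
        · exact Or.inr (Or.inl hai)
        · exact Or.inr (Or.inr (Or.inl hbi))
        · refine Or.inr (Or.inr (Or.inr ?_))
          rw [mul_inv_rev, hai, hbi]
          exact Subtype.ext hab.symm }
  have hne1 : ea ≠ 1 := fun h => by
    have := congrArg Subtype.val h
    simp only [ea, OneMemClass.coe_one] at this
    rw [this, orderOf_one] at ha
    omega
  have hne2 : eb ≠ 1 := fun h => by
    have := congrArg Subtype.val h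
    simp only [eb, OneMemClass.coe_one] at this
    rw [this, orderOf_one] at hb
    omega
  have hne3 : ea ≠ eb := fun h => hne (congrArg Subtype.val h)
  have hne4 : ea * eb ≠ 1 := fun h => by
    have := congrArg Subtype.val h
    change a * b = 1 at this
    exact hne (by rw [eq_inv_of_mul_eq_one_left this, inv_eq_of_mul_eq_one_right hb2])
  have hV : Nat.card V = 4 := by
    have h5 : ea * eb ≠ ea := fun h => hne2 (mul_left_cancel (h.trans (mul_one ea).symm))
    have h6 : ea * eb ≠ eb := fun h => hne1 (mul_right_cancel (h.trans (one_mul eb).symm))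
    have : ({1, ea, eb, ea * eb} : Set (C z)).ncard = 4 := by
      rw [Set.ncard_insert_of_notMem (by simp [hne1.symm, hne2.symm, hne4.symm]),
        Set.ncard_insert_of_notMem (by simp [hne3, h5.symm]),
        Set.ncard_insert_of_notMem (by simp [h6.symm]), Set.ncard_singleton]
    rw [← this, ← Nat.card_coe_set_eq]
    exact Nat.card_congr (Equiv.subtypeEquivRight fun x => by
      constructor
      · rintro (h | h | h | h) <;> simp [h]
      · intro h
        simpa [V] using h)
  have := card_subgroup_dvd_card V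
  rw [hV, card_C_three hG hz] at this
  norm_num at this

end Cfsg.Agent.Order7920
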