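import Cfsg.Agent.Lib.Order7920.Elem
import Cfsg.Agent.Lib.Char.Orthogonality
import Cfsg.Agent.Lib.CharInt.Congruence
import Cfsg.Agent.Lib.CharInt.Basic
import Cfsg.Agent.Lib.Clifford.CoprimeExtension

/-!
# Character values at elements of order 5 and 11, and at involutions
-/

namespace Cfsg.Agent.Order7920

open scoped ComplexConjugate
open Subgroup

set_option linter.style.haveILetI false

/-- A fixed primitive eleventh root of unity. -/
noncomputable def z11 : ℂ := Complex.exp (2 * Real.pi * Complex.I / (11 : ℕ))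

theorem isPrimitiveRoot_z11 : IsPrimitiveRoot z11 11 :=
  Complex.isPrimitiveRoot_exp 11 (by norm_num)

/-- `2η + 1` for the quadratic period `η`; its square is `-11`. -/
noncomputable def w : ℂ := 2 * (z11 + z11 ^ 3 + z11 ^ 4 + z11 ^ 5 + z11 ^ 9) + 1

theorem z11_pow_eq (k : ℕ) : z11 ^ k = z11 ^ (k % 11) :=
  pow_eq_pow_mod k isPrimitiveRoot_z11.pow_eq_one

theorem z11_rel : 1 + z11 + z11 ^ 2 + z11 ^ 3 + z11 ^ 4 + z11 ^ 5 + z11 ^ 6 + z11 ^ 7 + z11 ^ 8 +
    z11 ^ 9 + z11 ^ 10 = 0 := by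
  have h := isPrimitiveRoot_z11.geom_sum_eq_zero (by norm_num)
  simpa [Finset.sum_range_succ] using h

theorem w_sq : w * w = -11 := by
  have h1 := isPrimitiveRoot_z11.pow_eq_one
  have e1 := z11_rel
  have p := z11_pow_eq
  have h : w * w + 11 = 4 * ((z11 + z11 ^ 3 + z11 ^ 4 + z11 ^ 5 + z11 ^ 9) *
      (z11 + z11 ^ 3 + z11 ^ 4 + z11 ^ 5 + z11 ^ 9) +
      (z11 + z11 ^ 3 + z11 ^ 4 + z11 ^ 5 + z11 ^ 9)) + 12 := by rw [w]; ring
  have h2 : (z11 + z11 ^ 3 + z11 ^ 4 + z11 ^ 5 + z11 ^ 9) *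
      (z11 + z11 ^ 3 + z11 ^ 4 + z11 ^ 5 + z11 ^ 9) +
      (z11 + z11 ^ 3 + z11 ^ 4 + z11 ^ 5 + z11 ^ 9) + 3 = 0 := by
    ring_nf
    rw [p 12, p 13, p 14, p 18]
    norm_num
    linear_combination 3 * e1
  linear_combination h + 4 * h2

theorem conj_z11 : conj z11 = z11 ^ 10 := by
  rw [← Complex.inv_eq_conj (Complex.norm_eq_one_of_pow_eq_one isPrimitiveRoot_z11.pow_eq_one
    (by norm_num))]
  exact inv_eq_of_mul_eq_one_right (by rw [← pow_succ']; exact isPrimitiveRoot_z11.pow_eq_one)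

theorem conj_w : conj w = -w := by
  rw [w]
  simp only [map_add, map_mul, map_pow, map_one, map_ofNat, conj_z11, ← pow_mul]
  norm_num
  rw [z11_pow_eq 30, z11_pow_eq 40, z11_pow_eq 50, z11_pow_eq 90]
  norm_num
  linear_combination 2 * z11_rel

theorem int_eq_zero_of_add_w {a b : ℤ} (h : (a : ℂ) + b * w = 0) : a = 0 ∧ b = 0 := by
  have h' := congrArg conj h
  simp only [map_add, map_mul, map_intCast, conj_w, map_zero] at h'
  have ha : (a : ℂ) = 0 := by linear_combination h / 2 + h' / 2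
  have hw : w ≠ 0 := fun e => by have := w_sq; rw [e] at this; norm_num at this
  refine ⟨(Int.cast_eq_zero (α := ℂ)).1 ha, (Int.cast_eq_zero (α := ℂ)).1 ?_⟩
  rw [ha, zero_add] at h
  exact (mul_eq_zero.1 h).resolve_right hw

/-- Twice the sum over the residues of an eleventh root of unity. -/
theorem residue_sum {μ : ℂ} (hμ : μ ^ 11 = 1) : ∃ s d : ℤ, (s + 1) % 11 = 0 ∧
    2 * (μ + μ ^ 3 + μ ^ 4 + μ ^ 5 + μ ^ 9) = s + d * w := by
  obtain ⟨j, hj, rfl⟩ := isPrimitiveRoot_z11.eq_pow_of_pow_eq_one hμ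
  have p := z11_pow_eq
  have e := z11_rel
  simp only [← pow_mul]
  interval_cases j
  · exact ⟨10, 0, by norm_num, by norm_num⟩
  · exact ⟨-1, 1, by norm_num, by norm_num [w]⟩
  · refine ⟨-1, -1, by norm_num, ?_⟩
    rw [p (2 * 9)]; norm_num [w]; linear_combination 2 * e
  · refine ⟨-1, 1, by norm_num, ?_⟩
    rw [p (3 * 4), p (3 * 5), p (3 * 9)]; norm_num [w]; ring
  · refine ⟨-1, 1, by norm_num, ?_⟩
    rw [p (4 * 3), p (4 * 4), p (4 * 5), p (4 * 9)]; norm_num [w]; ring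
  · refine ⟨-1, 1, by norm_num, ?_⟩
    rw [p (5 * 3), p (5 * 4), p (5 * 5), p (5 * 9)]; norm_num [w]; ring
  · refine ⟨-1, -1, by norm_num, ?_⟩
    rw [p (6 * 3), p (6 * 4), p (6 * 5), p (6 * 9)]; norm_num [w]; linear_combination 2 * e
  · refine ⟨-1, -1, by norm_num, ?_⟩
    rw [p (7 * 3), p (7 * 4), p (7 * 5), p (7 * 9)]; norm_num [w]; linear_combination 2 * e
  · refine ⟨-1, -1, by norm_num, ?_⟩
    rw [p (8 * 3), p (8 * 4), p (8 * 5), p (8 * 9)]; norm_num [w]; linear_combination 2 * e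
  · refine ⟨-1, 1, by norm_num, ?_⟩
    rw [p (9 * 3), p (9 * 4), p (9 * 5), p (9 * 9)]; norm_num [w]; ring
  · refine ⟨-1, -1, by norm_num, ?_⟩
    rw [p (10 * 3), p (10 * 4), p (10 * 5), p (10 * 9)]; norm_num [w]; linear_combination 2 * e

theorem geom_five {μ : ℂ} (hμ : μ ^ 5 = 1) :
    ∃ s : ℤ, (s + 1) % 5 = 0 ∧ μ + μ ^ 2 + μ ^ 3 + μ ^ 4 = s := by
  by_cases h1 : μ = 1
  · exact ⟨4, by norm_num, by rw [h1]; norm_num⟩
  · refine ⟨-1, by norm_num, ?_⟩
    have : (μ - 1) * (μ + μ ^ 2 + μ ^ 3 + μ ^ 4 + 1) = 0 := by linear_combination hμ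
    rcases mul_eq_zero.1 this with h | h
    · exact absurd (sub_eq_zero.1 h) h1
    · push_cast; linear_combination h

variable {G : Type*} [Group G] [Finite G]

/-- Values of a character at an element of order 11 conjugate to its residue powers. -/
theorem values_eleven {χ : G → ℂ} (h : Cfsg.IsCharacter G χ) {x : G} (hx : orderOf x = 11)
    (hconj : ∀ k, k = 1 ∨ k = 3 ∨ k = 4 ∨ k = 5 ∨ k = 9 → IsConj x (x ^ k)) :
    ∃ (n : ℕ) (u v : ℤ), χ 1 = n ∧ 2 * χ x = u + v * w ∧ (2 * (n : ℤ) - u) % 11 = 0 ∧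
      (u * u + 11 * (v * v)) % 4 = 0 := by
  obtain ⟨n, μ, hn, hμ, hval⟩ := CharInt.exists_roots h x
  have hk : ∀ k, k = 1 ∨ k = 3 ∨ k = 4 ∨ k = 5 ∨ k = 9 → χ (x ^ k) = χ x :=
    fun k hk => (CharInt.char_eq_of_isConj h (hconj k hk)).symm
  choose s d hs hsd using fun i => residue_sum (hx ▸ hμ i : μ i ^ 11 = 1)
  have h10 : 10 * χ x = ((∑ i, s i : ℤ) : ℂ) + ((∑ i, d i : ℤ) : ℂ) * w := by
    calc 10 * χ x = 2 * (χ (x ^ 1) + χ (x ^ 3) + χ (x ^ 4) + χ (x ^ 5) + χ (x ^ 9)) := by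
          rw [hk 1 (by norm_num), hk 3 (by norm_num), hk 4 (by norm_num), hk 5 (by norm_num),
            hk 9 (by norm_num)]
          ring
      _ = ∑ i, 2 * (μ i + μ i ^ 3 + μ i ^ 4 + μ i ^ 5 + μ i ^ 9) := by
          rw [hval 1, hval 3, hval 4, hval 5, hval 9]
          simp only [pow_one, mul_add, Finset.mul_sum, Finset.sum_add_distrib]
      _ = _ := by
          simp only [hsd, Finset.sum_add_distrib, Int.cast_sum, Finset.sum_mul]
  set S := ∑ i, s i with hS
  set D := ∑ i, d i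
  have hSn : (S + n) % 11 = 0 := by
    rw [hS, show ((∑ i, s i) + (n : ℤ)) = ∑ i, (s i + 1) by simp [Finset.sum_add_distrib]]
    exact Int.emod_eq_zero_of_dvd (Finset.dvd_sum fun i _ => Int.dvd_of_emod_eq_zero (hs i))
  have hint := CharInt.isIntegral_char h x
  have hintc : IsIntegral ℤ (conj (χ x)) := IsIntegral.map (starRingEnd ℂ).toIntAlgHom hint
  have hc : 10 * conj (χ x) = (S : ℂ) - (D : ℂ) * w := by
    have := congrArg conj h10
    simp only [map_mul, map_ofNat, map_add, map_intCast, conj_w] at this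
    linear_combination this
  obtain ⟨u, hu⟩ : (5 : ℤ) ∣ S := by
    refine CharInt.dvd_of_isIntegral_div (p := 5) (by norm_num) ?_
    rw [show (S : ℂ) / ((5 : ℕ) : ℂ) = χ x + conj (χ x) by
      push_cast
      linear_combination (-1 / 10 : ℂ) * h10 + (-1 / 10 : ℂ) * hc]
    exact hint.add hintc
  have hprod : ((S * S + 11 * (D * D) : ℤ) : ℂ) = 100 * (χ x * conj (χ x)) := by
    push_cast
    linear_combination (-(10 * conj (χ x))) * h10 + (-((S : ℂ) + D * w)) * hc +
      (D : ℂ) * D * w_sq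
  obtain ⟨t, ht⟩ : (100 : ℤ) ∣ S * S + 11 * (D * D) := by
    refine CharInt.dvd_of_isIntegral_div (p := 100) (by norm_num) ?_
    rw [hprod, Nat.cast_ofNat, mul_div_cancel_left₀ _ (by norm_num)]
    exact hint.mul hintc
  obtain ⟨v, hv⟩ : (5 : ℤ) ∣ D := by
    have h5 : Prime (5 : ℤ) := by norm_num
    have : (5 : ℤ) ∣ 11 * (D * D) := ⟨20 * t - u * S, by rw [hu] at ht ⊢; linarith⟩
    rcases h5.dvd_or_dvd this with h' | h'
    · norm_num at h'
    · exact (h5.dvd_or_dvd h').elim id id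
  refine ⟨n, u, v, hn, ?_, by omega, ?_⟩
  · rw [hu, hv] at h10
    push_cast at h10
    linear_combination h10 / 5
  · rw [hu, hv] at ht
    have : u * u + 11 * (v * v) = 4 * t := by linarith
    omega

/-- Values of a character at an element of order 5 conjugate to all its powers. -/
theorem values_five {χ : G → ℂ} (h : Cfsg.IsCharacter G χ) {y : G} (hy : orderOf y = 5)
    (hconj : ∀ k, k = 1 ∨ k = 2 ∨ k = 3 ∨ k = 4 → IsConj y (y ^ k)) :
    ∃ (n : ℕ) (v : ℤ), χ 1 = n ∧ χ y = v ∧ ((n : ℤ) - v) % 5 = 0 := by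
  obtain ⟨n, μ, hn, hμ, hval⟩ := CharInt.exists_roots h y
  have hk : ∀ k, k = 1 ∨ k = 2 ∨ k = 3 ∨ k = 4 → χ (y ^ k) = χ y :=
    fun k hk => (CharInt.char_eq_of_isConj h (hconj k hk)).symm
  choose s hs hss using fun i => geom_five (hy ▸ hμ i : μ i ^ 5 = 1)
  have h4 : 4 * χ y = ((∑ i, s i : ℤ) : ℂ) := by
    calc 4 * χ y = χ (y ^ 1) + χ (y ^ 2) + χ (y ^ 3) + χ (y ^ 4) := by
          rw [hk 1 (by norm_num), hk 2 (by norm_num), hk 3 (by norm_num), hk 4 (by norm_num)]
          ring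
      _ = ∑ i, (μ i + μ i ^ 2 + μ i ^ 3 + μ i ^ 4) := by
          rw [hval 1, hval 2, hval 3, hval 4]
          simp only [pow_one, Finset.sum_add_distrib]
      _ = _ := by simp only [hss, Int.cast_sum]
  set S := ∑ i, s i with hS
  have hSn : (S + n) % 5 = 0 := by
    rw [hS, show ((∑ i, s i) + (n : ℤ)) = ∑ i, (s i + 1) by simp [Finset.sum_add_distrib]]
    exact Int.emod_eq_zero_of_dvd (Finset.dvd_sum fun i _ => Int.dvd_of_emod_eq_zero (hs i))
  obtain ⟨v, hv⟩ : (4 : ℤ) ∣ S := by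
    refine CharInt.dvd_of_isIntegral_div (p := 4) (by norm_num) ?_
    rw [← h4, Nat.cast_ofNat, mul_div_cancel_left₀ _ (by norm_num)]
    exact CharInt.isIntegral_char h y
  refine ⟨n, v, hn, ?_, by omega⟩
  rw [hv] at h4
  push_cast at h4
  linear_combination h4 / 4

variable [IsSimpleGroup G]

/-- An involution of a non-abelian simple group acts with an even, intermediate number of
eigenvalues `-1`. -/
theorem involution_value (hna : ∃ a b : G, a * b ≠ b * a) (χ : Cfsg.IrrCharacter G)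
    (hne : χ ≠ Char.trivialChar G) {a : G} (ha : orderOf a = 2) :
    ∃ m : ℕ, Even m ∧ 0 < m ∧ m < Char.degree χ ∧
      χ.1 a = (Char.degree χ : ℂ) - 2 * m := by
  classical
  obtain ⟨n, ρ, hρ, hρχ⟩ := χ.2
  obtain ⟨b, μ, hμ, hb⟩ := CharInt.exists_eigenbasis_rho ρ a
  have hfr : Module.finrank ℂ (Fin n → ℂ) = Char.degree χ := by
    have h1 := Char.apply_one_eq_degree χ
    rw [← congrFun hρχ 1, Representation.char_one] at h1
    exact_mod_cast h1
  have hpm : ∀ i, μ i = 1 ∨ μ i = -1 := fun i => by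
    have := hμ i; rw [ha] at this; exact sq_eq_one_iff.1 this
  set T := Finset.univ.filter fun i => μ i = -1 with hT
  have hsum : χ.1 a = (Char.degree χ : ℂ) - 2 * T.card := by
    rw [← congrFun hρχ a, Representation.character, CharInt.trace_of_eigenbasis b hb,
      Finset.sum_congr rfl (fun i _ => show μ i = 1 - 2 * (if μ i = -1 then (1 : ℂ) else 0) by
        rcases hpm i with h | h <;> rw [h] <;> norm_num),
      Finset.sum_sub_distrib, ← Finset.mul_sum, Finset.sum_boole, Finset.sum_const,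
      Finset.card_univ, Fintype.card_fin, nsmul_one]
    exact congrArg (fun t : ℕ => (t : ℂ) - 2 * _) hfr
  have hdet : Clifford.detChar χ a = 1 := by
    rcases (MonoidHom.normal_ker (Clifford.detChar χ)).eq_bot_or_eq_top with h | h
    · obtain ⟨c, d, hcd⟩ := hna
      exact absurd ((MonoidHom.ker_eq_bot_iff _).1 h (by rw [map_mul, map_mul, mul_comm])) hcd
    · exact MonoidHom.mem_ker.1 (h ▸ mem_top a)
  rw [Clifford.detChar_eq χ ρ hρχ, CharInt.det_of_eigenbasis b hb] at hdet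
  have hev : Even T.card := by
    rw [Finset.prod_congr rfl (fun i _ => show μ i = if μ i = -1 then (-1 : ℂ) else 1 by
      rcases hpm i with h | h <;> rw [h] <;> norm_num), Finset.prod_ite] at hdet
    simp only [Finset.prod_const, one_pow, mul_one, ← hT] at hdet
    by_contra ho
    rw [Nat.not_even_iff_odd] at ho
    rw [ho.neg_one_pow] at hdet
    norm_num at hdet
  have hle : T.card ≤ Char.degree χ := by
    calc T.card ≤ Finset.univ.card := Finset.card_le_univ T
      _ = Char.degree χ := by rw [Finset.card_univ, Fintype.card_fin, hfr]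
  have hnc : a ∉ Subgroup.center G := fun hc => by
    have := Blocks.center_eq_bot hna
    rw [this, mem_bot] at hc
    rw [hc, orderOf_one] at ha
    omega
  have hscalar : ‖χ.1 a‖ ≠ ‖χ.1 1‖ := fun he => hnc <|
    CharInt.mem_center_of_norm_eq χ.2 (fun h => hne (Subtype.ext (h.trans rfl))) he
  refine ⟨T.card, hev, Nat.pos_of_ne_zero fun h0 => hscalar ?_,
    lt_of_le_of_ne hle fun h0 => hscalar ?_, hsum⟩
  · rw [hsum, h0, Char.apply_one_eq_degree]
    simp
  · rw [hsum, h0, Char.apply_one_eq_degree, show (Char.degree χ : ℂ) - 2 * Char.degree χ =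
      -(Char.degree χ : ℂ) by ring, norm_neg]

end Cfsg.Agent.Order7920
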